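import Cfsg.Agent.Lib.SymEightThree.ProdLocal
import Cfsg.Agent.Lib.Layer.Basic

/-!
# The exceptional configuration: the generalized Fitting subgroup is `A₅ × A₅`
-/

set_option autoImplicit false
set_option linter.style.haveILetI false
set_option linter.unusedSectionVars false

open Equiv Cfsg

namespace CfsgLib.SymEightThree

/-- Only the identity commutes with the four elements. -/
theorem cent_four : ∀ p : L, Commute p zL → Commute p aL → Commute p sL →
    Commute p ((1, swap 0 3 * swap 1 4) : L) → p = 1 := by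
  decide +kernel

theorem alt_five_center : ∀ π : Perm (Fin 5), Perm.sign π = 1 →
    π * cA = cA * π → π * (swap 0 3 * swap 1 4) = swap 0 3 * swap 1 4 * π → π = 1 := by
  decide +kernel

theorem alt_five_isQuasisimple : IsQuasisimple (alternatingGroup (Fin 5)) := by
  haveI : IsSimpleGroup (alternatingGroup (Fin 5)) := alternatingGroup.isSimpleGroup (by simp)
  haveI : Group.IsPerfect (alternatingGroup (Fin 5)) := by
    rw [Group.isPerfect_def]
    refine ((inferInstance : (commutator (alternatingGroup (Fin 5))).Normal).eq_bot_or_eq_top).resolve_left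
      fun h => ?_
    rw [commutator_def] at h
    have hc := commutatorElement_eq_one_iff_mul_comm.mp ((Subgroup.mem_bot).mp (h ▸
      Subgroup.commutator_mem_commutator
        (Subgroup.mem_top (⟨cA, Perm.mem_alternatingGroup.mpr (by decide)⟩ : alternatingGroup (Fin 5)))
        (Subgroup.mem_top (⟨swap 0 3 * swap 1 4, Perm.mem_alternatingGroup.mpr (by decide)⟩ :
          alternatingGroup (Fin 5)))))
    exact absurd (congrArg Subtype.val hc) (by decide)
  exact Layer.isQuasisimple_of_normal_le_center fun N hN =>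
    hN.eq_bot_or_eq_top.elim (fun h => Or.inr (h ▸ bot_le)) Or.inl

namespace Setup

variable {G : Type*} [Group G] [Finite G] (S : Setup G) (h0 : S.π0 = swap 0 1 * swap 3 4)

include h0

theorem cent_N0 : Subgroup.centralizer (S.N0 h0 : Set G) = ⊥ := by
  refine (Subgroup.eq_bot_iff_forall _).mpr fun x hx => ?_
  have hc : ∀ {n : G}, n ∈ S.N0 h0 → Commute x n := fun {n} hn =>
    (Subgroup.mem_centralizer_iff.mp hx n hn).symm
  obtain ⟨p, rfl⟩ := S.norm x (Or.inl (by
    rw [show x * S.Θ zL = S.Θ zL * x from (hc (S.z_mem_N0 h0)).eq, mul_inv_cancel_right]))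
  rw [cent_four p (S.Θ_commute_iff.mp (hc (S.z_mem_N0 h0))) (S.Θ_commute_iff.mp (hc (S.a_mem_N0 h0)))
    (S.Θ_commute_iff.mp (hc (S.s_mem_N0 h0)))
    (S.Θ_commute_iff.mp (hc (S.Ω_mem_N0 h0 (q := swap 0 3 * swap 1 4) (by decide)))), map_one]

theorem τ_pair {p q : Perm (Fin 5)} (hp : Perm.sign p = 1) (hq : Perm.sign q = 1) :
    S.τ (S.τ (S.Ω p) * S.Ω q) = S.τ (S.Ω q) * S.Ω p := by
  have h := congrArg S.τ (S.commute_factors h0 p q hp hq).eq
  rw [map_mul S.τ (S.Ω q), S.τ_τ] at h
  exact h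

/-- A normal subgroup meeting `A₅ × A₅` off the second factor contains it. -/
theorem N0_le_of_normal {K : Subgroup G} (hK : K.Normal) {p q : Perm (Fin 5)} (hp : Perm.sign p = 1)
    (hq : Perm.sign q = 1) (hp1 : p ≠ 1) (hmem : S.τ (S.Ω p) * S.Ω q ∈ K) : S.N0 h0 ≤ K := by
  haveI : IsSimpleGroup (alternatingGroup (Fin 5)) := alternatingGroup.isSimpleGroup (by simp)
  set f := (S.Ψ h0).comp (MonoidHom.inl (alternatingGroup (Fin 5)) (alternatingGroup (Fin 5))) with hf
  have hfK : ∀ r, f r ∈ K := by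
    rcases (hK.comap f).eq_bot_or_eq_top with h | h
    · exfalso
      set pa : alternatingGroup (Fin 5) := ⟨p, Perm.mem_alternatingGroup.mpr hp⟩ with hpa
      set qa : alternatingGroup (Fin 5) := ⟨q, Perm.mem_alternatingGroup.mpr hq⟩ with hqa
      have key : ∀ r : alternatingGroup (Fin 5), r * pa = pa * r := by
        intro r
        have hr : r * pa * r⁻¹ * pa⁻¹ ∈ K.comap f := by
          have e : f (r * pa * r⁻¹ * pa⁻¹) =
              S.Ψ h0 (r, 1) * S.Ψ h0 (pa, qa) * (S.Ψ h0 (r, 1))⁻¹ * (S.Ψ h0 (pa, qa))⁻¹ := by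
            rw [hf, ← map_inv (S.Ψ h0) (r, 1), ← map_inv (S.Ψ h0) (pa, qa), ← map_mul, ← map_mul, ← map_mul]
            exact congrArg (S.Ψ h0) (Prod.ext rfl (by simp))
          show f (r * pa * r⁻¹ * pa⁻¹) ∈ K
          rw [e]
          exact mul_mem (hK.conj_mem _ hmem _) (inv_mem hmem)
        rw [h, Subgroup.mem_bot, mul_inv_eq_one, mul_inv_eq_iff_eq_mul] at hr
        exact hr
      refine hp1 (alt_five_center p hp ?_ ?_)
      · exact (congrArg Subtype.val (key ⟨cA, Perm.mem_alternatingGroup.mpr (by decide)⟩)).symm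
      · exact (congrArg Subtype.val
          (key ⟨swap 0 3 * swap 1 4, Perm.mem_alternatingGroup.mpr (by decide)⟩)).symm
    · exact fun r => show r ∈ K.comap f from h ▸ Subgroup.mem_top r
  have hτ : ∀ r : Perm (Fin 5), Perm.sign r = 1 → S.τ (S.Ω r) ∈ K := fun r hr => by
    have := hfK ⟨r, Perm.mem_alternatingGroup.mpr hr⟩
    rw [hf, MonoidHom.comp_apply, S.Ψ_apply h0] at this
    simpa using this
  intro x hx
  obtain ⟨p', q', hp', hq', rfl⟩ := (S.mem_N0 h0).mp hx
  refine mul_mem (hτ p' hp') ?_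
  have h2 := hK.conj_mem _ (hτ q' hq') S.g
  rwa [show S.g * S.τ (S.Ω q') * S.g⁻¹ = S.Ω q' by rw [S.g_inv, ← S.τ_apply, S.τ_τ]] at h2

theorem minimal_normal {K : Subgroup G} (hK : K.Normal) (hle : K ≤ S.N0 h0) :
    K = ⊥ ∨ K = S.N0 h0 := by
  refine or_iff_not_imp_left.mpr fun hb => le_antisymm hle ?_
  obtain ⟨x, hxK, hx1⟩ := (Subgroup.ne_bot_iff_exists_ne_one.mp hb).elim fun x hx =>
    (⟨x.1, x.2, fun h => hx (Subtype.ext h)⟩ : ∃ x : G, x ∈ K ∧ x ≠ 1)
  obtain ⟨p, q, hp, hq, rfl⟩ := (S.mem_N0 h0).mp (hle hxK)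
  by_cases hp1 : p = 1
  · refine S.N0_le_of_normal h0 hK hq hp (fun hq1 => hx1 (by simp [hp1, hq1])) ?_
    rw [← S.τ_pair h0 hp hq]
    exact hK.conj_mem _ hxK S.g
  · exact S.N0_le_of_normal h0 hK hp hq hp1 hxK

theorem generalizedFitting_eq (hN : (S.N0 h0).Normal) : generalizedFittingSubgroup G = S.N0 h0 := by
  set A := alternatingGroup (Fin 5)
  set f1 := (S.Ψ h0).comp (MonoidHom.inl A A) with hf1
  set f2 := (S.Ψ h0).comp (MonoidHom.inr A A) with hf2
  have hsub : ∀ M : Subgroup (A × A), M.Normal → (M.map (S.Ψ h0)).IsSubnormal := by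
    intro M hM
    have h := (hM.isSubnormal.map (S.Ψ h0).rangeRestrict_surjective).trans' hN.isSubnormal
    rwa [Subgroup.map_map, MonoidHom.subtype_comp_rangeRestrict] at h
  have hc1 : IsComponent f1.range := by
    refine ⟨?_, Layer.isQuasisimple_of_mulEquiv (MonoidHom.ofInjective (f := f1) ?_) alt_five_isQuasisimple⟩
    · rw [hf1, MonoidHom.range_comp,
        show (MonoidHom.inl A A).range = (MonoidHom.snd A A).ker by ext ⟨a, b⟩; simp [eq_comm, Subgroup.mem_prod]]
      exact hsub _ (MonoidHom.normal_ker _)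
    · exact (S.Ψ_inj h0).comp fun a b h => congrArg Prod.fst h
  have hc2 : IsComponent f2.range := by
    refine ⟨?_, Layer.isQuasisimple_of_mulEquiv (MonoidHom.ofInjective (f := f2) ?_) alt_five_isQuasisimple⟩
    · rw [hf2, MonoidHom.range_comp,
        show (MonoidHom.inr A A).range = (MonoidHom.fst A A).ker by ext ⟨a, b⟩; simp [eq_comm, Subgroup.mem_prod]]
      exact hsub _ (MonoidHom.normal_ker _)
    · exact (S.Ψ_inj h0).comp fun a b h => congrArg Prod.snd h
  have hfac : ∀ x ∈ S.N0 h0, ∃ y ∈ f1.range, ∃ y' ∈ f2.range, x = y * y' := by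
    rintro _ ⟨⟨a, b⟩, rfl⟩
    exact ⟨f1 a, ⟨a, rfl⟩, f2 b, ⟨b, rfl⟩, by
      rw [hf1, hf2, MonoidHom.comp_apply, MonoidHom.comp_apply, ← map_mul]; simp⟩
  have hl : layer G = S.N0 h0 := by
    refine le_antisymm (sSup_le fun M hM => ?_) fun x hx => ?_
    · by_cases h1 : M = f1.range
      · rw [h1, hf1, MonoidHom.range_comp]; exact Subgroup.map_le_range _ _
      by_cases h2 : M = f2.range
      · rw [h2, hf2, MonoidHom.range_comp]; exact Subgroup.map_le_range _ _
      refine absurd (le_bot_iff.mp ((S.cent_N0 h0) ▸ ?_)) (Layer.ne_bot_of_isComponent hM)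
      intro m hm
      have g1 := Subgroup.commutator_eq_bot_iff_le_centralizer.mp (Layer.commutator_eq_bot_of_ne hM hc1 h1) hm
      have g2 := Subgroup.commutator_eq_bot_iff_le_centralizer.mp (Layer.commutator_eq_bot_of_ne hM hc2 h2) hm
      refine Subgroup.mem_centralizer_iff.mpr fun x hx => ?_
      obtain ⟨y, hy, y', hy', rfl⟩ := hfac x hx
      have e1 : Commute y m := Subgroup.mem_centralizer_iff.mp g1 y hy
      have e2 : Commute y' m := Subgroup.mem_centralizer_iff.mp g2 y' hy'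
      exact (e1.mul_left e2).eq
    · obtain ⟨y, hy, y', hy', rfl⟩ := hfac x hx
      exact mul_mem (Layer.isComponent_le_layer hc1 hy) (Layer.isComponent_le_layer hc2 hy')
  have hF : fittingSubgroup G = ⊥ := by
    refine le_bot_iff.mp (S.cent_N0 h0 ▸ Subgroup.commutator_eq_bot_iff_le_centralizer.mp ?_)
    have h := Layer.commutator_layer_fitting (G := G)
    rwa [hl, Subgroup.commutator_comm] at h
  rw [generalizedFittingSubgroup, hl, hF, sup_bot_eq]

end Setup

theorem prod_case {G : Type*} [Group G] [Finite G] (S : Setup G) (h0 : S.π0 = swap 0 1 * swap 3 4) :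
    ∃ N : Subgroup G, N.Normal ∧ generalizedFittingSubgroup G = N ∧
      Nonempty (N ≃* alternatingGroup (Fin 5) × alternatingGroup (Fin 5)) ∧
      (∀ K : Subgroup G, K.Normal → K ≤ N → K = ⊥ ∨ K = N) ∧
      N.index = 4 ∧ ∀ g : G, g ^ 2 ∈ N := by
  obtain ⟨N, hN, hidx, hsq, hle, hG0⟩ := S.exists_N1 h0
  obtain rfl := S.N_eq h0 N hN hidx hle hG0
  exact ⟨S.N0 h0, hN, S.generalizedFitting_eq h0 hN, ⟨(MonoidHom.ofInjective (S.Ψ_inj h0)).symm⟩,
    fun K hK hK' => S.minimal_normal h0 hK hK', hidx, hsq⟩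

end CfsgLib.SymEightThree
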