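import Cfsg.Agent.Lib.SymEightThree.SymHom
import Cfsg.Agent.Lib.AltEightThree.Final
import Cfsg.Agent.Lib.Transfer.Thompson

/-!
# The case of the symmetric group of degree eight
-/

set_option autoImplicit false

open Equiv

namespace CfsgLib.SymEightThree

/-- The first five of the eight points. -/
def ιT : Perm (Fin 5) →* Perm (Fin 8) where
  toFun π := (finSumFinEquiv (m := 5) (n := 3)).permCongr (Perm.sumCongr π 1)
  map_one' := by decide +kernel
  map_mul' π ρ := by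
    ext x
    simp [Equiv.permCongr_apply]

/-- The exchange of the two groups of points. -/
def γ8 : Perm (Fin 8) := swap 0 5 * swap 1 6 * swap 2 7

theorem γ8_sq : γ8 * γ8 = 1 := by decide +kernel

/-- The last five of the eight points. -/
def ιS : Perm (Fin 5) →* Perm (Fin 8) := (MulAut.conj γ8).toMonoidHom.comp ιT

/-- Three points among five. -/
def ext3 : Perm (Fin 3) →* Perm (Fin 5) where
  toFun σ := (finSumFinEquiv (m := 3) (n := 2)).permCongr (Perm.sumCongr σ 1)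
  map_one' := by decide +kernel
  map_mul' σ ρ := by
    ext x
    simp [Equiv.permCongr_apply]

theorem ι_facts : ιT (swap 0 1) = swap 0 1 ∧ ιT (swap 1 2) = swap 1 2 ∧ ιT (swap 2 3) = swap 2 3 ∧
    ιT (swap 3 4) = swap 3 4 ∧ ιS (swap 3 4) = swap 3 4 ∧ ιS (swap 0 4) = swap 4 5 ∧
    ιS (swap 0 1) = swap 5 6 ∧ ιS (swap 1 2) = swap 6 7 ∧ ext3 (swap 0 1) = swap 0 1 ∧ ext3 cZ = cA := by
  decide +kernel

set_option maxRecDepth 8000 in
theorem ιT_ιS : ∀ σ : Perm (Fin 3), ∀ π : Perm (Fin 5),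
    Perm.sign (ιT (ext3 σ) * ιS π) = Perm.sign σ * Perm.sign π := by decide +kernel

theorem perm3_word : ∀ σ : Perm (Fin 3), ∃ (i : Fin 3) (j : Fin 2),
    σ = cZ ^ (i : ℕ) * swap 0 1 ^ (j : ℕ) := by decide

set_option maxRecDepth 8000 in
theorem parity_word : ∀ p : L, Perm.sign p.1 * Perm.sign p.2 = 1 →
    ∃ i : Fin 3, p = zL ^ (i : ℕ) * ((AltEightThree.sgnS p.2, p.2) : L) := by decide +kernel

set_option maxRecDepth 8000 in
theorem alt_uniq : ∀ (i : Fin 3) (π : Perm (Fin 5)),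
    zL ^ (i : ℕ) * ((AltEightThree.sgnS π, π) : L) = 1 → i = 0 ∧ π = 1 := by decide +kernel

set_option maxRecDepth 8000 in
theorem alt_conj : ∀ π : Perm (Fin 5), ((AltEightThree.sgnS π, π) : L) * zL *
    ((AltEightThree.sgnS π, π) : L)⁻¹ = if Perm.sign π = 1 then zL else zL⁻¹ := by decide +kernel

set_option maxRecDepth 8000 in
theorem no_three_double : ∀ (i : Fin 3) (π : Perm (Fin 5)),
    let d := ιT cA ^ (i : ℕ) * ιS π
    d ^ 3 = 1 → d * (swap 3 4 * swap 5 6) = swap 3 4 * swap 5 6 * d →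
      d = 1 ∨ d = ιT cA ∨ d = (ιT cA)⁻¹ := by decide +kernel

set_option maxRecDepth 8000 in
theorem no_three_swap : ∀ (i j : Fin 3) (m l : Fin 2),
    let d := ιT cA ^ (i : ℕ) * ιS cA ^ (j : ℕ) * swap 3 4 ^ (m : ℕ) * γ8 ^ (l : ℕ)
    d ^ 3 = 1 → (d * γ8 = γ8 * d ∨ d * (γ8 * swap 3 4) = γ8 * swap 3 4 * d) →
      d = 1 ∨ d = ιT cA * ιS cA ∨ d = (ιT cA * ιS cA)⁻¹ := by decide +kernel

theorem rep_facts :
    Commute (ιT cA) (swap 3 4 * swap 5 6) ∧ Commute (ιT cA * ιS cA) γ8 ∧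
    Commute (ιT cA * ιS cA) (γ8 * swap 3 4) ∧ Perm.sign γ8 = -1 := by
  unfold Commute SemiconjBy; decide +kernel

/-- The frame in the first case. -/
structure SymFrame (G : Type*) [Group G] [Finite G] where
  S : Setup G
  h0 : S.π0 = swap 0 1
  Ψ : Perm (Fin 8) →* G
  inj : Function.Injective Ψ
  hch : ∀ i : Fin 7, Ψ (swap i.castSucc i.succ) = S.chain i

namespace SymFrame

variable {G : Type*} [Group G] [Finite G] (F : SymFrame G)

theorem hT (π : Perm (Fin 5)) : F.Ψ (ιT π) = F.S.τ (F.S.Ω π) := by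
  suffices h : F.Ψ.comp ιT = F.S.τ.toMonoidHom.comp F.S.Ω from DFunLike.congr_fun h π
  refine gen_five fun i => ?_
  obtain ⟨t0, t1, t2, t3, -⟩ := ι_facts
  fin_cases i
  · show F.Ψ (ιT (swap 0 1)) = _
    rw [t0]; exact F.hch 0
  · show F.Ψ (ιT (swap 1 2)) = _
    rw [t1]; exact F.hch 1
  · show F.Ψ (ιT (swap 2 3)) = _
    rw [t2]; exact F.hch 2
  · show F.Ψ (ιT (swap 3 4)) = _
    rw [t3]; exact F.hch 3

theorem hS (π : Perm (Fin 5)) : F.Ψ (ιS π) = F.S.Ω π := by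
  suffices h : (F.Ψ.comp ιS).comp (MulAut.conj σS).toMonoidHom =
      F.S.Ω.comp (MulAut.conj σS).toMonoidHom by
    have := DFunLike.congr_fun h (σS⁻¹ * π * σS)
    simp only [MonoidHom.comp_apply, MulEquiv.coe_toMonoidHom, MulAut.conj_apply] at this
    rwa [show σS * (σS⁻¹ * π * σS) * σS⁻¹ = π by group] at this
  refine gen_five fun i => ?_
  obtain ⟨-, -, -, -, s3, s4, s5, s6, -⟩ := ι_facts
  have key : ∀ i : Fin 4, σS * swap i.castSucc i.succ * σS⁻¹ =
      ![swap (1 : Fin 5) 2, swap 0 1, swap 0 4, swap 3 4] i := by decide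
  simp only [MonoidHom.comp_apply, MulEquiv.coe_toMonoidHom, MulAut.conj_apply, key]
  fin_cases i
  · show F.Ψ (ιS (swap 1 2)) = F.S.Ω (swap 1 2)
    rw [s6]; exact F.hch 6
  · show F.Ψ (ιS (swap 0 1)) = F.S.Ω (swap 0 1)
    rw [s5]; exact F.hch 5
  · show F.Ψ (ιS (swap 0 4)) = F.S.Ω (swap 0 4)
    rw [s4]; exact F.hch 4
  · show F.Ψ (ιS (swap 3 4)) = F.S.Ω (swap 3 4)
    rw [s3]; exact (F.hch 3).trans F.S.τ_w

theorem Θ_one (σ : Perm (Fin 3)) : F.S.Θ (σ, 1) = F.Ψ (ιT (ext3 σ)) := by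
  obtain ⟨i, j, rfl⟩ := perm3_word σ
  obtain ⟨-, -, -, -, -, -, -, -, e0, e1⟩ := ι_facts
  rw [show ((cZ ^ (i : ℕ) * swap 0 1 ^ (j : ℕ), 1) : L) = zL ^ (i : ℕ) * sL ^ (j : ℕ) by
    simp [zL, sL], map_mul, map_pow, map_pow, map_mul, map_pow, map_pow, e0, e1, F.hT, map_mul,
    map_pow, map_pow, F.S.τ.map_mul, F.S.τ_pow, F.S.τ_pow, ← F.S.a_eq, F.S.τ_a, ← F.h0, F.S.τ_π0]
  rfl

/-- The model of the normalizer of `⟨z⟩` in the eight points. -/
theorem hL (p : L) : F.S.Θ p = F.Ψ (ιT (ext3 p.1) * ιS p.2) := by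
  rw [map_mul, ← F.Θ_one, F.hS, Setup.Ω_apply, ← map_mul, Prod.mk_mul_mk, one_mul, mul_one]

theorem hz : F.Ψ (ιT cA) = F.S.z := by rw [F.hT, ← F.S.a_eq, F.S.τ_a]
theorem ha : F.Ψ (ιS cA) = F.S.a := F.hS cA
theorem hw : F.Ψ (swap 3 4) = F.S.w := by rw [← ι_facts.2.2.2.2.1, F.hS]; rfl

theorem hza : F.Ψ (ιT cA * ιS cA) = F.S.Θ (zL * aL) := by
  rw [map_mul, map_mul, F.hz, F.ha]; rfl

theorem hg : F.Ψ γ8 = F.S.g := by
  set x := F.S.g * F.Ψ γ8 with hx
  have hcomm : ∀ π, Commute x (F.S.Ω π) ∧ Commute x (F.S.τ (F.S.Ω π)) := by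
    intro π
    have e : ιS π = γ8 * ιT π * γ8⁻¹ := rfl
    have e' : ιT π = γ8⁻¹ * ιS π * γ8 := by rw [e]; group
    have hγ : γ8⁻¹ = γ8 := inv_eq_of_mul_eq_one_left γ8_sq
    constructor
    · refine mul_inv_eq_iff_eq_mul.mp ?_
      rw [hx, mul_inv_rev, show F.S.g * F.Ψ γ8 * F.S.Ω π * ((F.Ψ γ8)⁻¹ * F.S.g⁻¹) =
        F.S.g * (F.Ψ γ8 * F.S.Ω π * (F.Ψ γ8)⁻¹) * F.S.g⁻¹ by group, ← F.hS, ← map_inv, ← map_mul, ← map_mul,
        show γ8 * ιS π * γ8⁻¹ = ιT π by rw [e', hγ], F.hT, F.S.g_inv, ← F.S.τ_apply, F.S.τ_τ, F.hS]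
    · refine mul_inv_eq_iff_eq_mul.mp ?_
      rw [hx, mul_inv_rev, show F.S.g * F.Ψ γ8 * F.S.τ (F.S.Ω π) * ((F.Ψ γ8)⁻¹ * F.S.g⁻¹) =
        F.S.g * (F.Ψ γ8 * F.S.τ (F.S.Ω π) * (F.Ψ γ8)⁻¹) * F.S.g⁻¹ by group, ← F.hT, ← map_inv, ← map_mul,
        ← map_mul, ← e, F.hS, F.S.g_inv, ← F.S.τ_apply, F.hT]
  have hcz : Commute x F.S.z := by rw [← F.S.τ_a]; exact (hcomm cA).2
  obtain ⟨i, π, hxe⟩ := F.S.cent_z hcz
  have hxp : x = F.S.Θ (zL ^ (i : ℕ) * (1, π)) := by rw [hxe, map_mul, map_pow]; rfl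
  have hπ : π = 1 := by
    have h5 : ∀ π : Perm (Fin 5), (∀ j : Fin 4, π * swap j.castSucc j.succ = swap j.castSucc j.succ * π) →
        π = 1 := by decide +kernel
    refine h5 π fun j => ?_
    have h1 := (hcomm (swap j.castSucc j.succ)).1
    rw [hxp, Setup.Ω_apply, Setup.Θ_commute_iff] at h1
    simpa [zL] using congrArg Prod.snd h1.eq
  have hi : i = 0 := by
    have h1 : Commute x F.S.s := by
      rw [← F.S.τ_π0]
      exact (hcomm _).2
    rw [hxp, hπ, Setup.s, Setup.Θ_commute_iff] at h1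
    have h' : ∀ i : Fin 3, Commute (zL ^ (i : ℕ) * ((1, 1) : L)) sL → i = 0 := by decide
    exact h' i h1
  rw [hi, hπ] at hxp
  rw [show (zL ^ ((0 : Fin 3) : ℕ) * ((1, 1) : L)) = 1 from rfl, map_one, hx,
    mul_eq_one_iff_eq_inv] at hxp
  rw [← inv_inv (F.Ψ γ8), ← hxp, F.S.g_inv]

/-- The image of the symmetric group of degree eight. -/
def G0 : Subgroup G := F.Ψ.range

theorem Θ_mem (p : L) : F.S.Θ p ∈ F.G0 := ⟨_, (F.hL p).symm⟩
theorem g_mem : F.S.g ∈ F.G0 := ⟨_, F.hg⟩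

theorem cent_z_le {x : G} (h : Commute x F.S.z) : x ∈ F.G0 := by
  obtain ⟨p, rfl⟩ := F.S.norm x
    (Or.inl (by rw [show x * F.S.Θ zL = F.S.Θ zL * x from h, mul_inv_cancel_right]))
  exact F.Θ_mem p

theorem cent_za_le {x : G} (h : Commute x (F.S.Θ (zL * aL))) : x ∈ F.G0 := by
  obtain ⟨p, -, -, rfl | rfl⟩ := F.S.cent_za x h.symm
  · exact F.Θ_mem p
  · exact mul_mem (F.Θ_mem p) F.g_mem

theorem card_G0 : Nat.card F.G0 = 40320 := by
  rw [G0, ← Nat.card_congr (MonoidHom.ofInjective F.inj).toEquiv, Nat.card_perm, Nat.card_fin]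
  rfl

theorem cent_w_le {x : G} (h : Commute x F.S.w) : x ∈ F.G0 := by
  classical
  let e8 : Fin 2 ⊕ Fin 6 ≃ Fin 8 := (finSumFinEquiv (m := 2) (n := 6)).trans (swap 0 3 * swap 1 4)
  let f : Perm (Fin 2) × Perm (Fin 6) →* Perm (Fin 8) :=
    MonoidHom.mk' (fun p => e8.permCongr (Perm.sumCongr p.1 p.2)) fun p q => by
      ext x
      simp [Equiv.permCongr_apply]
  have hf : Function.Injective f := fun p q h =>
    Perm.sumCongrHom_injective (e8.permCongr.injective h)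
  have hsw : f (swap 0 1, 1) = swap 3 4 := by decide +kernel
  let K : Perm (Fin 2) × Perm (Fin 6) → F.S.Cw := fun p => ⟨F.Ψ (f p), F.S.mem_Cw.mpr (by
    rw [← F.hw, ← hsw]
    refine Commute.map (Commute.map ?_ f) F.Ψ
    refine Prod.ext ?_ (by simp)
    have h2 : ∀ a : Perm (Fin 2), a * swap 0 1 = swap 0 1 * a := by decide
    exact h2 p.1)⟩
  have hK : Function.Injective K := fun p q h => hf (F.inj (congrArg Subtype.val h))
  have hcard : Nat.card F.S.Cw = 1440 := (F.S.cs_big F.h0).2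
  have hb := (Nat.bijective_iff_injective_and_card K).mpr ⟨hK, by
    rw [hcard, Nat.card_prod, Nat.card_perm, Nat.card_perm, Nat.card_fin, Nat.card_fin]; rfl⟩
  obtain ⟨p, hp⟩ := hb.2 ⟨x, F.S.mem_Cw.mpr h⟩
  exact ⟨f p, congrArg Subtype.val hp⟩

/-- An involution conjugate to `w` and commuting with an element of order three
commutes with a nine-group containing it. -/
theorem fusion {e x : G} (he : e ^ 3 = 1) (hc : Commute x e) (hconj : IsConj F.S.w x) :
    ∃ d : G, d ^ 3 = 1 ∧ Commute d e ∧ Commute d x ∧ d ∉ Subgroup.zpowers e := by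
  classical
  haveI : Fact (Nat.Prime 3) := ⟨Nat.prime_three⟩
  set C := Subgroup.centralizer ({x} : Set G) with hC
  have hcard : Nat.card C = 1440 := by
    obtain ⟨k, hk⟩ := isConj_iff.mp hconj
    rw [hC, ← hk, centralizer_conj_card]
    exact (F.S.cs_big F.h0).2
  have heC : e ∈ C := Subgroup.mem_centralizer_singleton_iff.mpr hc.eq.symm
  have hp : IsPGroup 3 (Subgroup.zpowers (⟨e, heC⟩ : C)) := fun y => ⟨1, by
    obtain ⟨k, hk⟩ := Subgroup.mem_zpowers_iff.mp y.2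
    refine Subtype.ext ?_
    rw [pow_one, SubgroupClass.coe_pow, OneMemClass.coe_one, ← hk, ← zpow_natCast, ← zpow_mul, mul_comm,
      zpow_mul, zpow_natCast, show (⟨e, heC⟩ : C) ^ 3 = 1 from Subtype.ext (by simpa using he), one_zpow]⟩
  obtain ⟨P, hP⟩ := hp.exists_le_sylow
  have hP9 : Nat.card (P : Subgroup C) = 9 := by
    rw [P.card_eq_multiplicity, hcard, show (1440 : ℕ) = 3 ^ 2 * 160 by norm_num,
      Nat.factorization_mul (by norm_num) (by norm_num), Finsupp.add_apply,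
      Nat.Prime.factorization_pow Nat.prime_three,
      Nat.factorization_eq_zero_of_not_dvd (n := 160) (by norm_num)]
    simp
  have hcomm : ∀ a b : P, a * b = b * a :=
    fun a b => (IsPGroup.commGroupOfCardEqPrimeSq (p := 3) (G := P) (by rw [hP9]; norm_num)).mul_comm a b
  set P' := (P : Subgroup C).map C.subtype with hP'
  have hP'3 : IsPGroup 3 P' := P.2.map _
  have hP'9 : Nat.card P' = 9 := by
    rw [hP', Subgroup.card_map_of_injective C.subtype_injective, hP9]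
  obtain ⟨Q, hQ⟩ := F.S.sylow_of_nine hP'3 hP'9
  obtain ⟨R, hR⟩ := F.S.sylow_of_nine F.S.D_isPGroup F.S.card_D
  obtain ⟨k, hk⟩ := MulAction.exists_smul_eq G R Q
  obtain ⟨d, hd, hde⟩ : ∃ d ∈ P', d ∉ Subgroup.zpowers e := by
    by_contra hall
    push Not at hall
    have h9 := Subgroup.card_le_of_le (show P' ≤ Subgroup.zpowers e from hall)
    rw [hP'9, Nat.card_zpowers] at h9
    have := Nat.le_of_dvd (by norm_num) (orderOf_dvd_of_pow_eq_one he)
    omega
  have heP : e ∈ P' := ⟨⟨e, heC⟩, hP (Subgroup.mem_zpowers _), rfl⟩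
  refine ⟨d, ?_, ?_, ?_, hde⟩
  · rw [← hQ, ← hk, Sylow.coe_subgroup_smul, hR] at hd
    obtain ⟨v, hv, rfl⟩ := hd
    show (k * v * k⁻¹) ^ 3 = 1
    rw [conj_pow, F.S.D_cube hv, mul_one, mul_inv_cancel]
  · obtain ⟨dd, hdd, rfl⟩ := hd
    obtain ⟨ee, hee, rfl⟩ := heP
    exact congrArg (fun t : P => ((t : C) : G)) (hcomm ⟨dd, hdd⟩ ⟨ee, hee⟩)
  · obtain ⟨dd, hdd, rfl⟩ := hd
    exact Subgroup.mem_centralizer_singleton_iff.mp dd.2

theorem not_double : ¬ IsConj F.S.w (F.Ψ (swap 3 4 * swap 5 6)) := by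
  intro h
  have hc : Commute (F.Ψ (swap 3 4 * swap 5 6)) F.S.z := by
    rw [← F.hz]; exact rep_facts.1.symm.map F.Ψ
  obtain ⟨d, hd, hdz, hdx, hdn⟩ := F.fusion F.S.hz hc h
  obtain ⟨i, π, rfl⟩ := F.S.cent_z hdz
  rw [← F.hz, ← F.hS, ← map_pow, ← map_mul] at hd hdx hdn
  rcases no_three_double i π (F.inj (by rw [map_pow, hd, map_one]))
    (F.inj (by rw [map_mul F.Ψ (_ * ιS π), map_mul F.Ψ (swap 3 4 * swap 5 6)]; exact hdx.eq)) with e | e | e <;>
    rw [e] at hdn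
  · exact hdn (by rw [map_one]; exact one_mem _)
  · exact hdn (Subgroup.mem_zpowers _)
  · exact hdn (by rw [map_inv]; exact inv_mem (Subgroup.mem_zpowers _))

theorem not_swapping {r : Perm (Fin 8)} (hr : r = γ8 ∨ r = γ8 * swap 3 4) : ¬ IsConj F.S.w (F.Ψ r) := by
  intro h
  have hc : Commute (F.Ψ r) (F.Ψ (ιT cA * ιS cA)) := by
    rcases hr with rfl | rfl
    · exact rep_facts.2.1.symm.map F.Ψ
    · exact rep_facts.2.2.1.symm.map F.Ψ
  have he : F.Ψ (ιT cA * ιS cA) ^ 3 = 1 := by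
    rw [← map_pow, show (ιT cA * ιS cA) ^ 3 = 1 by decide +kernel, map_one]
  obtain ⟨d, hd, hde, hdx, hdn⟩ := F.fusion he hc h
  obtain ⟨p, c1, c2, hde'⟩ := F.S.cent_za d (by rw [← F.hza]; exact hde.symm)
  obtain ⟨i, j, m, rfl⟩ := cent_pair p c1 c2
  obtain ⟨l, rfl⟩ : ∃ l : Fin 2, d = F.Ψ (ιT cA ^ (i : ℕ) * ιS cA ^ (j : ℕ) * swap 3 4 ^ (m : ℕ) * γ8 ^ (l : ℕ)) := by
    have e1 : F.S.Θ (dL i j * wL ^ (m : ℕ)) =
        F.Ψ (ιT cA ^ (i : ℕ) * ιS cA ^ (j : ℕ) * swap 3 4 ^ (m : ℕ)) := by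
      simp only [map_mul, map_pow, F.hz, F.ha, F.hw, F.S.dL_eq]; rfl
    rcases hde' with rfl | rfl
    · exact ⟨0, by rw [e1]; simp⟩
    · exact ⟨1, by rw [e1, ← F.hg, ← map_mul]; simp⟩
  have h1 := F.inj ((map_pow F.Ψ _ 3).trans (hd.trans (map_one _).symm))
  have h2 := F.inj ((map_mul F.Ψ _ _).trans (hdx.eq.trans (map_mul F.Ψ _ _).symm))
  rcases no_three_swap i j m l h1 (by
    rcases hr with e | e
    · exact Or.inl (e ▸ h2)
    · exact Or.inr (e ▸ h2)) with e | e | e <;> rw [e] at hdn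
  · exact hdn (by rw [map_one]; exact one_mem _)
  · exact hdn (Subgroup.mem_zpowers _)
  · exact hdn (by rw [map_inv]; exact inv_mem (Subgroup.mem_zpowers _))

theorem swap_of_conj_w {c : Perm (Fin 8)} (h : IsConj F.S.w (F.Ψ c)) : c.IsSwap := by
  classical
  obtain ⟨k, hk⟩ := isConj_iff.mp h
  have hc2 : c * c = 1 := F.inj (by
    rw [map_mul, map_one, ← hk, show k * F.S.w * k⁻¹ * (k * F.S.w * k⁻¹) = k * (F.S.w * F.S.w) * k⁻¹ by group,
      F.S.ww, mul_one, mul_inv_cancel])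
  have hc1 : c ≠ 1 := by
    rintro rfl
    rw [map_one, conj_eq_one_iff] at hk
    exact F.S.w_ne hk
  have hall : ∀ n ∈ c.cycleType, n = 2 := fun n hn => by
    have h2 := Perm.two_le_of_mem_cycleType hn
    have hd : n ∣ orderOf c := Perm.dvd_of_mem_cycleType hn
    have ho : orderOf c ∣ 2 := orderOf_dvd_of_pow_eq_one (by rw [sq, hc2])
    have := Nat.le_of_dvd (by norm_num) (hd.trans ho)
    omega
  have hrep : c.cycleType = Multiset.replicate (Multiset.card c.cycleType) 2 :=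
    Multiset.eq_replicate_card.mpr hall
  have hsum : c.cycleType.sum ≤ 8 := by
    rw [Perm.sum_cycleType]; exact le_of_le_of_eq (Finset.card_le_univ _) (by simp)
  rw [hrep, Multiset.sum_replicate, smul_eq_mul] at hsum
  have hcases : Multiset.card c.cycleType = 1 ∨ Multiset.card c.cycleType = 2 ∨
      Multiset.card c.cycleType = 3 ∨ Multiset.card c.cycleType = 4 := by
    have : Multiset.card c.cycleType ≠ 0 := fun h0 =>
      hc1 (Perm.cycleType_eq_zero.mp (Multiset.card_eq_zero.mp h0))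
    omega
  have hconj : ∀ r : Perm (Fin 8), r.cycleType = c.cycleType → IsConj F.S.w (F.Ψ r) := fun r hr => by
    obtain ⟨u, hu⟩ := isConj_iff.mp (Perm.isConj_iff_cycleType_eq.mpr hr.symm)
    exact h.trans (isConj_iff.mpr ⟨F.Ψ u, by rw [← map_inv, ← map_mul, ← map_mul, hu]⟩)
  rcases hcases with e | e | e | e <;> rw [e] at hrep
  · exact Perm.isSwap_iff_cycleType.mpr hrep
  · exact absurd (hconj _ (by rw [hrep]; decide +kernel)) F.not_double
  · exact absurd (hconj _ (by rw [hrep]; decide +kernel)) (F.not_swapping (Or.inl rfl))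
  · exact absurd (hconj _ (by rw [hrep]; decide +kernel)) (F.not_swapping (Or.inr rfl))

/-- A subgroup of index two avoiding `w`. -/
theorem exists_index_two : ∃ H : Subgroup G, H.index = 2 ∧ F.S.w ∉ H := by
  classical
  haveI : Fact (Nat.Prime 2) := ⟨Nat.prime_two⟩
  have hw2 : IsPGroup 2 (Subgroup.zpowers (swap (3 : Fin 8) 4)) := fun y => ⟨1, by
    obtain ⟨k, hk⟩ := Subgroup.mem_zpowers_iff.mp y.2
    refine Subtype.ext ?_
    rw [pow_one, SubgroupClass.coe_pow, OneMemClass.coe_one, ← hk, ← zpow_natCast, ← zpow_mul, mul_comm,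
      zpow_mul, zpow_natCast, sq, swap_mul_self, one_zpow]⟩
  obtain ⟨T0, hT0⟩ := hw2.exists_le_sylow
  have hwT : swap (3 : Fin 8) 4 ∈ (T0 : Subgroup (Perm (Fin 8))) := hT0 (Subgroup.mem_zpowers _)
  set T := (T0 : Subgroup (Perm (Fin 8))).map F.Ψ with hT
  obtain ⟨P, hP⟩ := (T0.2.map F.Ψ).exists_le_sylow
  have hG0 : ∀ x ∈ (P : Subgroup G), x ∈ F.G0 → x ∈ T := by
    rintro x hx ⟨c, rfl⟩
    have hle : (T0 : Subgroup (Perm (Fin 8))) ≤ (P : Subgroup G).comap F.Ψ :=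
      Subgroup.map_le_iff_le_comap.mp hP
    have heq := T0.3 (P.2.comap_of_injective F.Ψ F.inj) hle
    exact ⟨c, heq ▸ hx, rfl⟩
  have hPT : (P : Subgroup G) = T := by
    refine le_antisymm ?_ hP
    by_contra hne
    have hlt : T.subgroupOf (P : Subgroup G) < ⊤ := lt_top_iff_ne_top.mpr (fun h => hne
      (Subgroup.subgroupOf_eq_top.mp h))
    have hnil : Group.IsNilpotent (P : Subgroup G) := P.2.isNilpotent
    obtain ⟨x, hxN, hxT⟩ := SetLike.exists_of_lt (Group.normalizerCondition_of_isNilpotent _ hlt)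
    have hwP : F.S.w ∈ (P : Subgroup G) := hP ⟨_, hwT, F.hw⟩
    have hm := (Subgroup.mem_normalizer_iff.mp hxN ⟨F.S.w, hwP⟩).mp
      (Subgroup.mem_subgroupOf.mpr ⟨_, hwT, F.hw⟩)
    obtain ⟨c, -, hc⟩ := Subgroup.mem_subgroupOf.mp hm
    have hcs := F.swap_of_conj_w (c := c) (isConj_iff.mpr ⟨(x : G), by rw [hc]; simp⟩)
    obtain ⟨u, hu⟩ := isConj_iff.mp (Perm.isConj_iff_cycleType_eq.mpr
      ((Perm.isSwap_iff_cycleType.mp hcs).trans
        (Perm.isSwap_iff_cycleType.mp (⟨3, 4, by decide, rfl⟩ : (swap (3 : Fin 8) 4).IsSwap)).symm))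
    have hcw : Commute (F.Ψ u * (x : G)) F.S.w := by
      refine mul_inv_eq_iff_eq_mul.mp ?_
      rw [mul_inv_rev, show F.Ψ u * (x : G) * F.S.w * ((x : G)⁻¹ * (F.Ψ u)⁻¹) =
        F.Ψ u * ((x : G) * F.S.w * (x : G)⁻¹) * (F.Ψ u)⁻¹ by group,
        show (x : G) * F.S.w * (x : G)⁻¹ = F.Ψ c by rw [hc]; simp,
        ← map_inv, ← map_mul, ← map_mul, hu, F.hw]
    have hxG : (x : G) ∈ F.G0 := by
      have := mul_mem (inv_mem (show F.Ψ u ∈ F.G0 from ⟨u, rfl⟩)) (F.cent_w_le hcw)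
      rwa [inv_mul_cancel_left] at this
    exact hxT (Subgroup.mem_subgroupOf.mpr (hG0 _ x.2 hxG))
  set Q := ((T0 : Subgroup (Perm (Fin 8))) ⊓ alternatingGroup (Fin 8)).map F.Ψ with hQ
  have hQi : Q.relIndex (P : Subgroup G) = 2 := by
    rw [hPT, hQ, hT, Subgroup.relIndex_map_map_of_injective _ _ F.inj, Subgroup.inf_relIndex_left,
      Subgroup.relIndex]
    rw [Subgroup.index_eq_two_iff]
    refine ⟨⟨_, hwT⟩, fun c => ?_⟩
    simp only [Subgroup.mem_subgroupOf, Perm.mem_alternatingGroup, Subgroup.coe_mul, Perm.sign_mul,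
      Perm.sign_swap (show (3 : Fin 8) ≠ 4 by decide)]
    rcases Int.units_eq_one_or (Perm.sign (c : Perm (Fin 8))) with e | e <;> rw [e] <;> decide
  have hwQ : F.S.w ∉ Q := by
    rintro ⟨c, hc, e⟩
    have hc' := hc.2
    rw [F.inj (e.trans F.hw.symm)] at hc'
    have h1 := Perm.mem_alternatingGroup.mp hc'
    rw [Perm.sign_swap (show (3 : Fin 8) ≠ 4 by decide)] at h1
    exact absurd h1 (by decide)
  rcases CfsgLib.Transfer.thompson_transfer P hQi F.S.ww (hP ⟨_, hwT, F.hw⟩) hwQ with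
    ⟨H, -, hH, hHw⟩ | ⟨k, -, hk⟩
  · exact ⟨H, hH, hHw⟩
  · obtain ⟨c, hc, e⟩ := hk
    have hcs := F.swap_of_conj_w (c := c) (isConj_iff.mpr ⟨k, e.symm⟩)
    have hc' := Perm.mem_alternatingGroup.mp hc.2
    rw [hcs.sign_eq] at hc'
    exact absurd hc' (by decide)

theorem mem_H_iff {H : Subgroup G} (hH : H.index = 2) (hw : F.S.w ∉ H) (c : Perm (Fin 8)) :
    F.Ψ c ∈ H ↔ Perm.sign c = 1 := by
  have hA : alternatingGroup (Fin 8) ≤ H.comap F.Ψ := by
    rw [← Perm.closure_three_cycles_eq_alternating, Subgroup.closure_le]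
    intro t ht
    have h3 : t ^ 3 = 1 := by rw [← (show t.IsThreeCycle from ht).orderOf, pow_orderOf_eq_one]
    have h2 := Subgroup.sq_mem_of_index_two hH (F.Ψ t ^ 2)
    rwa [← pow_mul, ← map_pow, show t ^ (2 * 2) = t by rw [pow_succ, h3, one_mul]] at h2
  refine ⟨fun h => ?_, fun h => hA (Perm.mem_alternatingGroup.mpr h)⟩
  refine (Int.units_eq_one_or _).resolve_right fun hs => hw ?_
  have hm := hA (show c * swap 3 4 ∈ alternatingGroup (Fin 8) by
    rw [Perm.mem_alternatingGroup, Perm.sign_mul, hs, Perm.sign_swap (by decide)]; rfl)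
  have hm' : F.Ψ c * F.S.w ∈ H := by
    have := Subgroup.mem_comap.mp hm
    rwa [map_mul, F.hw] at this
  exact (mul_mem_cancel_left h).mp hm'

include F in
theorem nonempty_mulEquiv : Nonempty (G ≃* Perm (Fin 8)) := by
  classical
  obtain ⟨H, hH, hw⟩ := F.exists_index_two
  have hΘH : ∀ p : L, F.S.Θ p ∈ H ↔ Perm.sign p.1 * Perm.sign p.2 = 1 := fun p => by
    rw [F.hL, F.mem_H_iff hH hw, ιT_ιS]
  have hg' : F.S.g * F.S.w ∈ H := by
    rw [← F.hg, ← F.hw, ← map_mul, F.mem_H_iff hH hw, Perm.sign_mul, rep_facts.2.2.2,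
      Perm.sign_swap (by decide)]
    rfl
  let sg : Perm (Fin 5) →* L := MonoidHom.mk' (fun π => (AltEightThree.sgnS π, π))
    fun π ρ => Prod.ext (AltEightThree.sgnS_mul π ρ) rfl
  let Ω' : Perm (Fin 5) →* H := (F.S.Θ.comp sg).codRestrict H fun π =>
    (hΘH (sg π)).mpr (AltEightThree.sign_sgnS π)
  have hzH : F.S.z ∈ H := (hΘH zL).mpr (by decide)
  have haH : F.S.a ∈ H := (hΘH aL).mpr (by decide)
  have hc : Commute F.S.g F.S.w := F.S.normD_w F.S.g_normD
  obtain ⟨e⟩ := AltEightThree.Setup.nonempty_mulEquiv (G := H)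
    { z := ⟨F.S.z, hzH⟩
      a := ⟨F.S.a, haH⟩
      g := ⟨F.S.g * F.S.w, hg'⟩
      Ω := Ω'
      hz := Subtype.ext (by simpa using F.S.hz)
      conj_z := fun π => Subtype.ext (by
        show F.S.Θ (sg π) * F.S.Θ zL * (F.S.Θ (sg π))⁻¹ = _
        rw [← map_inv, ← map_mul, ← map_mul]
        refine (congrArg F.S.Θ (alt_conj π)).trans ?_
        split_ifs
        · rfl
        · rw [map_inv]; rfl)
      uniq := fun i π h => alt_uniq i π (F.S.inj (by
        rw [map_mul, map_pow, map_one]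
        exact congrArg Subtype.val h))
      norm := fun x hx => by
        obtain ⟨p, hp⟩ := F.S.norm (x : G) (hx.imp (fun e => congrArg Subtype.val e) fun e => congrArg Subtype.val e)
        obtain ⟨i, hi⟩ := parity_word p ((hΘH p).mp (hp ▸ x.2))
        refine ⟨i, p.2, Subtype.ext ?_⟩
        show (x : G) = ((⟨F.S.z, hzH⟩ : H) ^ (i : ℕ) : G) * F.S.Θ (sg p.2)
        rw [hp]
        conv_lhs => rw [hi, map_mul, map_pow]
        rfl
      ha := Subtype.ext (by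
        show F.S.Θ aL = F.S.Θ (sg AltEightThree.cA)
        exact congrArg F.S.Θ (by decide))
      gg := Subtype.ext (by
        show F.S.g * F.S.w * (F.S.g * F.S.w) = 1
        exact F.S.twist.gg)
      gz := Subtype.ext (by
        show F.S.g * F.S.w * F.S.z * (F.S.g * F.S.w) = F.S.a
        exact F.S.twist.gz)
      cent_za := fun x hx => by
        obtain ⟨p, c1, c2, he⟩ := F.S.cent_za (x : G) (by
          rw [map_mul]; exact congrArg Subtype.val hx.eq)
        obtain ⟨i, j, m, rfl⟩ := cent_pair p c1 c2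
        have hpar : ∀ (i j : Fin 3) (m : Fin 2), Perm.sign (dL i j * wL ^ (m : ℕ)).1 *
            Perm.sign (dL i j * wL ^ (m : ℕ)).2 = 1 ↔ m = 0 := by decide +kernel
        rcases he with he | he
        · left
          have hm := (hpar i j m).mp ((hΘH _).mp (he ▸ x.2))
          subst hm
          refine ⟨i, j, Subtype.ext ?_⟩
          rw [he, Subgroup.coe_mul, SubgroupClass.coe_pow, SubgroupClass.coe_pow]
          show _ = F.S.z ^ (i : ℕ) * F.S.a ^ (j : ℕ)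
          simp [F.S.dL_eq]
        · right
          have hm : m = 1 := by
            have h2 : ∀ m : Fin 2, m ≠ 0 → m = 1 := by decide
            refine h2 m fun h0 => ?_
            have h1 := (hΘH _).mpr ((hpar i j m).mpr h0)
            have hgH : F.S.g ∈ H := (mul_mem_cancel_left h1).mp (he ▸ x.2)
            exact hw ((mul_mem_cancel_left hgH).mp hg')
          subst hm
          refine ⟨i, j, Subtype.ext ?_⟩
          rw [he, Subgroup.coe_mul, Subgroup.coe_mul, SubgroupClass.coe_pow, SubgroupClass.coe_pow]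
          show _ = F.S.z ^ (i : ℕ) * F.S.a ^ (j : ℕ) * (F.S.g * F.S.w)
          rw [map_mul, F.S.dL_eq, hc.eq, show F.S.Θ (wL ^ ((1 : Fin 2) : ℕ)) = F.S.w by simp [Setup.w]]
          group
      three := fun P hP => by
        have := F.S.three _ (hP.map H.subtype)
        rwa [Subgroup.card_map_of_injective H.subtype_injective] at this }
  have hHcard : Nat.card H = 20160 := by
    rw [Nat.card_congr e.toEquiv, nat_card_alternatingGroup, Nat.card_fin]
    rfl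
  have hG : Nat.card G = 40320 := by
    rw [← H.card_mul_index, hH, hHcard]
  have hbij : Function.Bijective F.Ψ := (Nat.bijective_iff_injective_and_card _).mpr
    ⟨F.inj, by rw [Nat.card_perm, Nat.card_fin, hG]; rfl⟩
  exact ⟨(MulEquiv.ofBijective F.Ψ hbij).symm⟩

end SymFrame

theorem sym_case {G : Type*} [Group G] [Finite G] (S : Setup G) (h0 : S.π0 = swap 0 1) :
    Nonempty (G ≃* Perm (Fin 8)) := by
  obtain ⟨T, hT0, hb⟩ := Setup.exists_good S h0
  obtain ⟨Ψ, hinj, hΨ⟩ := T.exists_hom hT0 hb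
  exact SymFrame.nonempty_mulEquiv ⟨T, hT0, Ψ, hinj, hΨ⟩

end CfsgLib.SymEightThree
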