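import Mathlib
import Cfsg.Agent.Lib.Invol.Dihedral

/-!
# The three-local data of the symmetric group of degree eight

An element `z` of order three with normalizer parametrized by `Perm (Fin 3) × Perm (Fin 5)`, and an
involution `g` exchanging `z` with a three-cycle `a` of the second factor.
-/

set_option autoImplicit false

open Equiv

namespace CfsgLib.SymEightThree

/-- The model of the normalizer of the element of order three. -/
abbrev L : Type := Perm (Fin 3) × Perm (Fin 5)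

/-- The three-cycle on the three points. -/
def cZ : Perm (Fin 3) := swap 0 1 * swap 1 2

/-- The three-cycle on the five points. -/
def cA : Perm (Fin 5) := swap 0 1 * swap 1 2

/-- `z`. -/
def zL : L := (cZ, 1)
/-- `a`. -/
def aL : L := (1, cA)
/-- `s`, inverting `z`. -/
def sL : L := (swap 0 1, 1)
/-- `w`, centralizing `z` and `a`. -/
def wL : L := (1, swap 3 4)
/-- `o`, inverting `a`. -/
def oL : L := (1, swap 0 1)

/-- The elements of `L` permuting the lines of `z` and `a` trivially. -/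
abbrev InM (p : L) : Prop := p.2 * cA * p.2⁻¹ = cA ∨ p.2 * cA * p.2⁻¹ = cA⁻¹

instance decCommuteL (p q : L) : Decidable (Commute p q) := inferInstanceAs (Decidable (p * q = q * p))

/-- The local data. -/
structure Setup (G : Type*) [Group G] [Finite G] where
  Θ : L →* G
  g : G
  π0 : Perm (Fin 5)
  inj : Function.Injective Θ
  norm : ∀ x : G, x * Θ zL * x⁻¹ = Θ zL ∨ x * Θ zL * x⁻¹ = (Θ zL)⁻¹ → ∃ p, x = Θ p
  hπ0 : π0 = swap 0 1 ∨ π0 = swap 0 1 * swap 3 4
  gg : g * g = 1
  gz : g * Θ zL * g = Θ aL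
  gw : g * Θ wL * g = Θ wL
  gs : g * Θ sL * g = Θ (1, π0)
  cent_za : ∀ x : G, Commute (Θ (zL * aL)) x → ∃ p : L, Commute p zL ∧ Commute p aL ∧
    (x = Θ p ∨ x = Θ p * g)
  three : ∀ P : Subgroup G, IsPGroup 3 P → Nat.card P ≤ 9

namespace Setup

variable {G : Type*} [Group G] [Finite G] (S : Setup G)

/-- `z`. -/
def z : G := S.Θ zL
/-- `a`. -/
def a : G := S.Θ aL
/-- `s`. -/
def s : G := S.Θ sL
/-- `w`. -/
def w : G := S.Θ wL
/-- `o`. -/
def o : G := S.Θ oL
/-- The symmetric group on the five points. -/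
def Ω : Perm (Fin 5) →* G := S.Θ.comp (MonoidHom.inr _ _)
/-- Conjugation by `g`. -/
def τ : G ≃* G := MulAut.conj S.g
/-- The abelian subgroup of order nine. -/
def D : Subgroup G := Subgroup.closure {S.z, S.a}

theorem Ω_apply (π : Perm (Fin 5)) : S.Ω π = S.Θ (1, π) := rfl

theorem Ω_inj : Function.Injective S.Ω := fun p q h => by
  simpa using congrArg Prod.snd (S.inj h)

theorem g_inv : S.g⁻¹ = S.g := inv_eq_of_mul_eq_one_right S.gg

theorem τ_apply (x : G) : S.τ x = S.g * x * S.g := by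
  show S.g * x * S.g⁻¹ = _
  rw [S.g_inv]

theorem τ_τ (x : G) : S.τ (S.τ x) = x := by
  rw [S.τ_apply, S.τ_apply, show S.g * (S.g * x * S.g) * S.g = (S.g * S.g) * x * (S.g * S.g) by group,
    S.gg, one_mul, mul_one]

theorem τ_g : S.τ S.g = S.g := by rw [S.τ_apply, S.gg, one_mul]

theorem τ_z : S.τ S.z = S.a := (S.τ_apply _).trans S.gz
theorem τ_a : S.τ S.a = S.z := by rw [← S.τ_z, S.τ_τ]
theorem τ_w : S.τ S.w = S.w := (S.τ_apply _).trans S.gw
theorem τ_s : S.τ S.s = S.Ω S.π0 := (S.τ_apply _).trans S.gs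
theorem τ_π0 : S.τ (S.Ω S.π0) = S.s := by rw [← S.τ_s, S.τ_τ]

theorem Θ_commute {p q : L} (h : Commute p q) : Commute (S.Θ p) (S.Θ q) := h.map S.Θ

theorem Θ_commute_iff {p q : L} : Commute (S.Θ p) (S.Θ q) ↔ Commute p q := by
  refine ⟨fun h => S.inj ?_, S.Θ_commute⟩
  rw [map_mul, map_mul]; exact h

theorem hz : S.z ^ 3 = 1 := by
  rw [z, ← map_pow, show zL ^ 3 = 1 by decide, map_one]

theorem ha3 : S.a ^ 3 = 1 := by
  rw [a, ← map_pow, show aL ^ 3 = 1 by decide, map_one]

theorem ss : S.s * S.s = 1 := by rw [s, ← map_mul, show sL * sL = 1 by decide, map_one]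
theorem ww : S.w * S.w = 1 := by rw [w, ← map_mul, show wL * wL = 1 by decide, map_one]
theorem oo : S.o * S.o = 1 := by rw [o, ← map_mul, show oL * oL = 1 by decide, map_one]

theorem z_ne : S.z ≠ 1 := fun h => absurd (S.inj (h.trans (map_one _).symm)) (by decide)
theorem a_ne : S.a ≠ 1 := fun h => absurd (S.inj (h.trans (map_one _).symm)) (by decide)
theorem w_ne : S.w ≠ 1 := fun h => absurd (S.inj (h.trans (map_one _).symm)) (by decide)
theorem s_ne : S.s ≠ 1 := fun h => absurd (S.inj (h.trans (map_one _).symm)) (by decide)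

theorem a_eq : S.a = S.Ω cA := rfl
theorem w_eq : S.w = S.Ω (swap 3 4) := rfl
theorem o_eq : S.o = S.Ω (swap 0 1) := rfl

theorem za_comm : Commute S.z S.a := S.Θ_commute (by decide)
theorem zΩ (π : Perm (Fin 5)) : Commute S.z (S.Ω π) :=
  S.Θ_commute (Prod.ext (by simp [zL]) (by simp [zL]))
theorem sΩ (π : Perm (Fin 5)) : Commute S.s (S.Ω π) :=
  S.Θ_commute (Prod.ext (by simp [sL]) (by simp [sL]))

theorem cent_z_iff : ∀ p : L, (Commute p zL ↔ ∃ i : Fin 3, p.1 = cZ ^ (i : ℕ)) := by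
  decide +kernel

theorem cent_z {x : G} (h : Commute x S.z) :
    ∃ (i : Fin 3) (π : Perm (Fin 5)), x = S.z ^ (i : ℕ) * S.Ω π := by
  obtain ⟨p, hp⟩ := S.norm x (Or.inl (by rw [show x * S.Θ zL = S.Θ zL * x from h, mul_inv_cancel_right]))
  have hc : Commute p zL := S.Θ_commute_iff.mp (by rw [← hp]; exact h)
  obtain ⟨i, hi⟩ := (cent_z_iff p).mp hc
  refine ⟨i, p.2, ?_⟩
  rw [hp, z, S.Ω_apply, ← map_pow, ← map_mul]
  exact congrArg S.Θ (Prod.ext (by simp [zL, hi]) (by simp [zL]))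

end Setup

end CfsgLib.SymEightThree
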