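import Cfsg.Agent.Lib.SymEightThree.Local
import Cfsg.Agent.Lib.NineTI.DihedralSix

/-!
# The centralizer of the central involution of the normalizer of `D`
-/

set_option autoImplicit false

open Equiv

namespace CfsgLib.SymEightThree

/-- The homomorphism from the dihedral group of order eight. -/
def dihHom {R : Type*} [Group R] (u t : R) (hu : u ^ 4 = 1) (ht : t * t = 1) (h : t * u * t = u⁻¹) :
    DihedralGroup 4 →* R :=
  MonoidHom.mk' (fun
    | .r i => u ^ (i.val)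
    | .sr i => t * u ^ (i.val)) <| by
    have hadd : ∀ i j : ZMod 4, u ^ (i + j).val = u ^ i.val * u ^ j.val := fun i j => by
      rw [← pow_add, ZMod.val_add, ← pow_eq_pow_mod _ hu]
    have hneg : ∀ i : ZMod 4, u ^ i.val * t = t * u ^ (-i).val := fun i => by
      have e1 : u ^ (-i).val = (u ^ i.val)⁻¹ := by
        refine eq_inv_of_mul_eq_one_left ?_
        rw [← hadd, neg_add_cancel, ZMod.val_zero, pow_zero]
      have hc : t * u ^ i.val * t⁻¹ = (u ^ i.val)⁻¹ := by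
        rw [← conj_pow, show t⁻¹ = t from inv_eq_of_mul_eq_one_left ht, h, inv_pow]
      rw [e1, ← hc, show t⁻¹ = t from inv_eq_of_mul_eq_one_left ht, ← mul_assoc, ← mul_assoc, ht, one_mul]
    have hsub : ∀ i j : ZMod 4, u ^ i.val * (t * u ^ j.val) = t * u ^ (j - i).val := fun i j => by
      rw [← mul_assoc, hneg, mul_assoc, ← hadd, ← sub_eq_neg_add]
    rintro (i | i) (j | j)
    · show u ^ (i + j).val = _
      exact hadd i j
    · show t * u ^ (j - i).val = _
      exact (hsub i j).symm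
    · show t * u ^ (i + j).val = _
      rw [hadd, mul_assoc]
    · show u ^ (j - i).val = t * u ^ i.val * (t * u ^ j.val)
      rw [mul_assoc, hsub, ← mul_assoc, ht, one_mul]

theorem dih_center : ∀ x : DihedralGroup 4, x ≠ 1 →
    x = .r 2 ∨ ∃ y : DihedralGroup 4, x * (y * x * y⁻¹) = .r 2 := by decide +kernel

theorem InM_decomp : ∀ p : L, InM p → ∃ (i k : Fin 3) (j l m : Fin 2),
    p = dL i k * (sL ^ (j : ℕ) * oL ^ (l : ℕ) * wL ^ (m : ℕ)) := by decide +kernel

namespace Setup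

variable {G : Type*} [Group G] [Finite G] (S : Setup G)

/-- The centralizer of `w`. -/
def Cw : Subgroup G := Subgroup.centralizer ({S.w} : Set G)

/-- The group of order two generated by `w`, in its centralizer. -/
def W0 : Subgroup S.Cw := (Subgroup.zpowers S.w).subgroupOf S.Cw

theorem mem_Cw {x : G} : x ∈ S.Cw ↔ Commute x S.w := Subgroup.mem_centralizer_singleton_iff

theorem w_mem_Cw : S.w ∈ S.Cw := S.mem_Cw.mpr (Commute.refl _)

theorem mem_zpowers_w {x : G} : x ∈ Subgroup.zpowers S.w ↔ x = 1 ∨ x = S.w := by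
  constructor
  · intro hx
    obtain ⟨k, rfl⟩ := Subgroup.mem_zpowers_iff.mp hx
    rcases Int.even_or_odd' k with ⟨j, rfl | rfl⟩
    · left; rw [zpow_mul, zpow_two, S.ww, one_zpow]
    · right; rw [zpow_add_one, zpow_mul, zpow_two, S.ww, one_zpow, one_mul]
  · rintro (rfl | rfl)
    · exact one_mem _
    · exact Subgroup.mem_zpowers _

instance W0_normal : S.W0.Normal := ⟨fun n hn x => by
  have hc : Commute (x : G) (n : G) := by
    rcases S.mem_zpowers_w.mp (Subgroup.mem_subgroupOf.mp hn) with e | e <;> rw [e]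
    · exact Commute.one_right _
    · exact S.mem_Cw.mp x.2
  rw [W0, Subgroup.mem_subgroupOf, Subgroup.coe_mul, Subgroup.coe_mul, Subgroup.coe_inv, hc.eq,
    mul_inv_cancel_right]
  exact Subgroup.mem_subgroupOf.mp hn⟩

/-- The centralizer of `w` modulo `w`. -/
abbrev R : Type _ := S.Cw ⧸ S.W0

/-- The projection. -/
def q : S.Cw →* S.R := QuotientGroup.mk' S.W0

theorem q_eq_one {x : S.Cw} : S.q x = 1 ↔ (x : G) = 1 ∨ (x : G) = S.w := by
  rw [q, QuotientGroup.mk'_apply, QuotientGroup.eq_one_iff, W0, Subgroup.mem_subgroupOf, S.mem_zpowers_w]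

theorem q_eq {x y : S.Cw} : S.q x = S.q y ↔ (x : G) = y ∨ (x : G) = y * S.w := by
  rw [eq_comm, ← inv_mul_eq_one, ← map_inv, ← map_mul, S.q_eq_one]
  simp only [Subgroup.coe_mul, Subgroup.coe_inv, inv_mul_eq_iff_eq_mul, mul_one]

theorem q_surj : Function.Surjective S.q := QuotientGroup.mk'_surjective _

theorem D_le_Cw : S.D ≤ S.Cw := fun d hd => by
  obtain ⟨i, k, rfl⟩ := S.mem_D_iff.mp hd
  exact S.mem_Cw.mpr (S.normD_w (Subgroup.le_normalizer (S.mem_D_iff.mpr ⟨i, k, rfl⟩)))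

/-- The image of `D`. -/
def M : Subgroup S.R := (S.D.subgroupOf S.Cw).map S.q

theorem mem_M {r : S.R} : r ∈ S.M ↔ ∃ d : S.Cw, (d : G) ∈ S.D ∧ S.q d = r := Iff.rfl

theorem eq_of_q_D {x : G} {d : G} (hd : d ∈ S.D) (hx : x ^ 3 = 1) (hc : Commute x S.w)
    (h : x = d ∨ x = d * S.w) : x = d := by
  refine h.resolve_right fun e => ?_
  have hdw : Commute d S.w := S.mem_Cw.mp (S.D_le_Cw hd)
  rw [e, hdw.mul_pow, S.D_cube hd, one_mul, pow_succ, pow_two, S.ww, one_mul] at hx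
  exact S.w_ne hx

theorem cent_line {d x : G} (hd : d ∈ S.D) (hd1 : d ≠ 1) (hxd : Commute x d) (hxw : Commute x S.w) :
    x ∈ Subgroup.normalizer (S.D : Set G) := by
  have hz : ∀ y : G, Commute y S.z → Commute y S.w → y ∈ Subgroup.normalizer (S.D : Set G) := by
    intro y hy hyw
    obtain ⟨p, rfl⟩ := S.norm y (Or.inl (by rw [show y * S.Θ zL = S.Θ zL * y from hy, mul_inv_cancel_right]))
    exact S.Θ_normD (inM_of_cent p (S.Θ_commute_iff.mp hy) (S.Θ_commute_iff.mp hyw))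
  have hza : ∀ y : G, Commute y (S.Θ (zL * aL)) → y ∈ Subgroup.normalizer (S.D : Set G) := by
    intro y hy
    obtain ⟨p, c1, c2, e⟩ := S.cent_za y hy.symm
    exact S.normD_iff.mpr ⟨p, inM_of_cent_pair p c1 c2, e⟩
  have ha : ∀ y : G, Commute y S.a → Commute y S.w → y ∈ Subgroup.normalizer (S.D : Set G) := by
    intro y hy hyw
    have h1 := hz (S.τ y) (by have := hy.map S.τ.toMonoidHom; simpa [S.τ_a] using this)
      (by have := hyw.map S.τ.toMonoidHom; simpa [S.τ_w] using this)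
    have e : y = S.g * S.τ y * S.g := by rw [← S.τ_apply, S.τ_τ]
    rw [e]; exact mul_mem (mul_mem S.g_normD h1) S.g_normD
  have hoza : ∀ y : G, Commute y (S.Θ (oL * (zL * aL) * oL)) → y ∈ Subgroup.normalizer (S.D : Set G) := by
    intro y hy
    have ho : S.o ∈ Subgroup.normalizer (S.D : Set G) := S.Θ_normD (by decide)
    have h1 := hza (S.o * y * S.o) (by
      show _ = _
      have e : S.Θ (zL * aL) = S.o * S.Θ (oL * (zL * aL) * oL) * S.o := by
        rw [o, ← map_mul, ← map_mul]; exact congrArg S.Θ (by decide)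
      rw [e]
      calc S.o * y * S.o * (S.o * S.Θ (oL * (zL * aL) * oL) * S.o)
          = S.o * y * (S.o * S.o) * S.Θ (oL * (zL * aL) * oL) * S.o := by group
        _ = S.o * (y * S.Θ (oL * (zL * aL) * oL)) * S.o := by rw [S.oo]; group
        _ = S.o * S.Θ (oL * (zL * aL) * oL) * (S.o * S.o) * y * S.o := by rw [hy.eq, S.oo]; group
        _ = _ := by group)
    have e : y = S.o * (S.o * y * S.o) * S.o := by
      rw [show S.o * (S.o * y * S.o) * S.o = (S.o * S.o) * y * (S.o * S.o) by group, S.oo, one_mul, mul_one]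
    rw [e]; exact mul_mem (mul_mem ho h1) ho
  obtain ⟨i, k, rfl⟩ := S.mem_D_iff.mp hd
  rcases dL_types i k with e | e | e | e | e | e | e | e | e <;> rw [e] at hxd hd1
  · exact absurd (map_one _) hd1
  · exact hz x hxd hxw
  · rw [map_inv] at hxd; exact hz x (Commute.inv_right_iff.mp hxd) hxw
  · exact ha x hxd hxw
  · rw [map_inv] at hxd; exact ha x (Commute.inv_right_iff.mp hxd) hxw
  · exact hza x hxd
  · rw [map_inv] at hxd; exact hza x (Commute.inv_right_iff.mp hxd)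
  · exact hoza x hxd
  · rw [map_inv] at hxd; exact hoza x (Commute.inv_right_iff.mp hxd)

theorem M_normalizer {r : S.R} (hr : r ∈ Subgroup.normalizer (S.M : Set S.R)) :
    ∃ x : S.Cw, (x : G) ∈ Subgroup.normalizer (S.D : Set G) ∧ S.q x = r := by
  obtain ⟨x, rfl⟩ := S.q_surj r
  refine ⟨x, ?_, rfl⟩
  have key : ∀ d (hd : d ∈ S.D), (x : G) * d * (x : G)⁻¹ ∈ S.D := by
    intro d hd
    obtain ⟨d', hd', e⟩ := S.mem_M.mp ((Subgroup.mem_normalizer_iff.mp hr _).mp
      (S.mem_M.mpr ⟨⟨d, S.D_le_Cw hd⟩, hd, rfl⟩))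
    rw [← map_inv, ← map_mul, ← map_mul, eq_comm, S.q_eq] at e
    simp only [Subgroup.coe_mul, Subgroup.coe_inv] at e
    rw [S.eq_of_q_D hd' (by rw [conj_pow, S.D_cube hd, mul_one, mul_inv_cancel])
      (((S.mem_Cw.mp x.2).mul_left (S.mem_Cw.mp (S.D_le_Cw hd))).mul_left (S.mem_Cw.mp x.2).inv_left) e]
    exact hd'
  exact S.mem_normalizer (key _ S.z_mem_D) (key _ S.a_mem_D)

theorem M_normal_of {x : S.Cw} (hx : (x : G) ∈ Subgroup.normalizer (S.D : Set G)) :
    S.q x ∈ Subgroup.normalizer (S.M : Set S.R) := by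
  rw [Subgroup.mem_normalizer_iff_map_conj_eq]
  refine Subgroup.eq_of_le_of_card_ge ?_ (le_of_eq
    (Subgroup.card_map_of_injective (MulAut.conj (S.q x)).injective).symm)
  rintro _ ⟨r, ⟨d, hd, rfl⟩, rfl⟩
  exact S.mem_M.mpr ⟨x * d * x⁻¹, by simpa using (Subgroup.mem_normalizer_iff.mp hx _).mp hd,
    by simp⟩

theorem M_hyp : NineTI.Hyp S.M where
  card := by
    have h1 : Nat.card (S.D.subgroupOf S.Cw) = 9 := by
      rw [Nat.card_congr (Subgroup.subgroupOfEquivOfLe S.D_le_Cw).toEquiv, S.card_D]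
    rw [← h1]
    refine (Nat.card_congr (Equiv.ofBijective
      (fun d : S.D.subgroupOf S.Cw => (⟨S.q d, d, d.2, rfl⟩ : S.M)) ⟨?_, ?_⟩)).symm
    · intro d d' h
      have h1 : S.q d = S.q d' := congrArg Subtype.val h
      refine Subtype.ext (Subtype.ext ?_)
      exact S.eq_of_q_D (Subgroup.mem_subgroupOf.mp d'.2) (S.D_cube (Subgroup.mem_subgroupOf.mp d.2))
        (S.mem_Cw.mp (d : S.Cw).2) (S.q_eq.mp h1)
    · rintro ⟨_, d, hd, rfl⟩
      exact ⟨⟨d, hd⟩, rfl⟩
  comm := by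
    rintro _ ⟨d, hd, rfl⟩ _ ⟨e, he, rfl⟩
    rw [← map_mul, ← map_mul]
    exact congrArg S.q (Subtype.ext (S.D_comm hd he).eq)
  cube := by
    rintro _ ⟨d, hd, rfl⟩
    rw [← map_pow]
    refine S.q_eq_one.mpr (Or.inl ?_)
    simpa using S.D_cube hd
  maximal := by
    intro Q hQ hle
    haveI : Fact (Nat.Prime 3) := ⟨Nat.prime_three⟩
    obtain ⟨n, hn⟩ := IsPGroup.iff_card.mp hQ
    set Q' := Q.comap S.q with hQ'
    have hcard : Nat.card Q' = 2 * 3 ^ n := by
      have hk : Nat.card S.q.ker = 2 := by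
        rw [q, QuotientGroup.ker_mk', W0,
          Nat.card_congr (Subgroup.subgroupOfEquivOfLe
            ((Subgroup.zpowers_le).mpr S.w_mem_Cw)).toEquiv, Nat.card_zpowers]
        exact orderOf_eq_prime (by rw [pow_two, S.ww]) S.w_ne
      have hmap : Q'.map S.q = Q := Subgroup.map_comap_eq_self_of_surjective S.q_surj Q
      have h := (S.q.comp Q'.subtype).ker.card_mul_index
      rw [Subgroup.index_ker, MonoidHom.range_comp, Subgroup.range_subtype, hmap, hn] at h
      have hker : Nat.card (S.q.comp Q'.subtype).ker = 2 := by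
        rw [← hk, show (S.q.comp Q'.subtype).ker = S.q.ker.subgroupOf Q' from rfl]
        exact Nat.card_congr (Subgroup.subgroupOfEquivOfLe (S.q.ker_le_comap Q)).toEquiv
      rw [← h, hker]
    obtain ⟨P⟩ := (inferInstance : Nonempty (Sylow 3 Q'))
    have hP : Nat.card (P : Subgroup Q') = 3 ^ n := by
      rw [P.card_eq_multiplicity, hcard, Nat.factorization_mul (by norm_num) (pow_ne_zero _ (by norm_num)),
        Finsupp.add_apply, Nat.Prime.factorization_pow Nat.prime_three,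
        Nat.factorization_eq_zero_of_not_dvd (n := 2) (by norm_num)]
      simp
    have h9 := S.three _ ((P.2.map Q'.subtype).map S.Cw.subtype)
    rw [Subgroup.card_map_of_injective S.Cw.subtype_injective,
      Subgroup.card_map_of_injective Q'.subtype_injective, hP, ← hn] at h9
    refine (Subgroup.eq_of_le_of_card_ge hle (le_of_le_of_eq h9 ?_)).symm
    have h1 : Nat.card (S.D.subgroupOf S.Cw) = 9 := by
      rw [Nat.card_congr (Subgroup.subgroupOfEquivOfLe S.D_le_Cw).toEquiv, S.card_D]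
    rw [← h1]
    refine Nat.card_congr (Equiv.ofBijective
      (fun d : S.D.subgroupOf S.Cw => (⟨S.q d, d, d.2, rfl⟩ : S.M)) ⟨?_, ?_⟩)
    · intro d d' h
      have h1 : S.q d = S.q d' := congrArg Subtype.val h
      refine Subtype.ext (Subtype.ext ?_)
      exact S.eq_of_q_D (Subgroup.mem_subgroupOf.mp d'.2) (S.D_cube (Subgroup.mem_subgroupOf.mp d.2))
        (S.mem_Cw.mp (d : S.Cw).2) (S.q_eq.mp h1)
    · rintro ⟨_, d, hd, rfl⟩
      exact ⟨⟨d, hd⟩, rfl⟩
  self := by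
    refine le_antisymm (fun r hr => ?_) (fun r hr => ?_)
    · obtain ⟨x, rfl⟩ := S.q_surj r
      have key : ∀ d (hd : d ∈ S.D), Commute (x : G) d := by
        intro d hd
        have e := Subgroup.mem_centralizer_iff.mp hr _ (S.mem_M.mpr ⟨⟨d, S.D_le_Cw hd⟩, hd, rfl⟩)
        have e2 : S.q (x * ⟨d, S.D_le_Cw hd⟩ * x⁻¹) = S.q ⟨d, S.D_le_Cw hd⟩ := by
          rw [map_mul, map_mul, map_inv, ← e, mul_inv_cancel_right]
        rw [S.q_eq] at e2
        simp only [Subgroup.coe_mul, Subgroup.coe_inv] at e2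
        have := S.eq_of_q_D hd (by rw [conj_pow, S.D_cube hd, mul_one, mul_inv_cancel])
          (((S.mem_Cw.mp x.2).mul_left (S.mem_Cw.mp (S.D_le_Cw hd))).mul_left
            (S.mem_Cw.mp x.2).inv_left) e2
        exact mul_inv_eq_iff_eq_mul.mp this
      obtain ⟨d, hd, e⟩ := S.cent_D (key _ S.z_mem_D) (key _ S.a_mem_D)
      exact S.mem_M.mpr ⟨⟨d, S.D_le_Cw hd⟩, hd, (S.q_eq.mpr e).symm⟩
    · obtain ⟨d, hd, rfl⟩ := S.mem_M.mp hr
      rw [Subgroup.mem_centralizer_iff]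
      rintro _ ⟨e, he, rfl⟩
      rw [← map_mul, ← map_mul]
      exact congrArg S.q (Subtype.ext (S.D_comm he hd).eq)
  loc := by
    rintro _ ⟨d, hd, rfl⟩ hne r hr
    obtain ⟨x, rfl⟩ := S.q_surj r
    refine S.M_normal_of (S.cent_line (d := d) hd (fun e => hne (S.q_eq_one.mpr (Or.inl e))) ?_
      (S.mem_Cw.mp x.2))
    have e2 : S.q (x * d * x⁻¹) = S.q d := by
      rw [map_mul, map_mul, map_inv, Subgroup.mem_centralizer_singleton_iff.mp hr, mul_inv_cancel_right]
    rw [S.q_eq] at e2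
    simp only [Subgroup.coe_mul, Subgroup.coe_inv] at e2
    exact mul_inv_eq_iff_eq_mul.mp (S.eq_of_q_D hd
      (by rw [conj_pow, S.D_cube (show (d : G) ∈ S.D from hd), mul_one, mul_inv_cancel])
      (((S.mem_Cw.mp x.2).mul_left (S.mem_Cw.mp d.2)).mul_left (S.mem_Cw.mp x.2).inv_left) e2)

/-- The dichotomy. -/
theorem cent_w_cases : (∀ x : G, Commute x S.w → x ∈ Subgroup.normalizer (S.D : Set G)) ∨
    (Nonempty (S.R ≃* Perm (Fin 6)) ∧ Nat.card S.Cw = 1440) := by
  classical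
  have hgN : S.g ∈ S.Cw := S.mem_Cw.mpr (S.normD_w S.g_normD)
  have hΘN : ∀ p, InM p → S.Θ p ∈ S.Cw := fun p hp => S.mem_Cw.mpr (S.normD_w (S.Θ_normD hp))
  set gb : S.R := S.q ⟨S.g, hgN⟩ with hgb
  set σ : S.R := S.q ⟨S.s, hΘN sL (by decide)⟩ with hσ
  set ω : S.R := S.q ⟨S.o, hΘN oL (by decide)⟩ with hω
  have hg2 : gb * gb = 1 := by
    rw [hgb, ← map_mul]; exact S.q_eq_one.mpr (Or.inl S.gg)
  have hσ2 : σ * σ = 1 := by rw [hσ, ← map_mul]; exact S.q_eq_one.mpr (Or.inl S.ss)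
  have hω2 : ω * ω = 1 := by rw [hω, ← map_mul]; exact S.q_eq_one.mpr (Or.inl S.oo)
  have hσω : σ * ω = ω * σ := by
    rw [hσ, hω, ← map_mul, ← map_mul]; exact congrArg S.q (Subtype.ext (S.sΩ _).eq)
  have hgσ : gb * σ * gb = ω := by
    rw [hgb, hσ, hω, ← map_mul, ← map_mul, S.q_eq]
    show S.g * S.s * S.g = S.o ∨ S.g * S.s * S.g = S.o * S.w
    rw [← S.τ_apply, S.τ_s]
    rcases S.hπ0 with h | h <;> rw [h]
    · exact Or.inl rfl
    · exact Or.inr (map_mul S.Ω _ _)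
  set u := σ * gb with hu
  have hu2 : u * u = σ * ω := by
    rw [hu, ← hgσ]; group
  have hu4 : u ^ 4 = 1 := by
    rw [show 4 = 2 + 2 from rfl, pow_add, pow_two, hu2,
      show σ * ω * (σ * ω) = σ * (ω * σ) * ω by group, ← hσω,
      show σ * (σ * ω) * ω = (σ * σ) * (ω * ω) by group, hσ2, hω2, one_mul]
  have hgu : gb * u * gb = u⁻¹ := by
    rw [hu, mul_inv_rev, show gb * (σ * gb) * gb = gb * σ * (gb * gb) by group, hg2, mul_one,
      inv_eq_of_mul_eq_one_left hg2, inv_eq_of_mul_eq_one_left hσ2]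
  set φ := dihHom u gb hu4 hg2 hgu with hφ
  have hφr : ∀ i : ZMod 4, φ (.r i) = u ^ i.val := fun i => rfl
  have hφs : ∀ i : ZMod 4, φ (.sr i) = gb * u ^ i.val := fun i => rfl
  have hr2 : φ (.r 2) ≠ 1 := by
    rw [hφr, show (2 : ZMod 4).val = 2 from rfl, pow_two, hu2, hσ, hω, ← map_mul, Ne, S.q_eq_one]
    show ¬ (S.s * S.o = 1 ∨ S.s * S.o = S.w)
    rintro (h | h) <;> rw [s, o, ← map_mul] at h
    · exact absurd (S.inj (h.trans (map_one _).symm)) (by decide)
    · exact absurd (S.inj h) (by decide)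
  have hφinj : Function.Injective φ := by
    rw [injective_iff_map_eq_one]
    intro x hx
    by_contra hne
    rcases dih_center x hne with rfl | ⟨y, hy⟩
    · exact hr2 hx
    · exact hr2 (by rw [← hy, map_mul, map_mul, map_mul, hx, one_mul, mul_one, ← map_mul, mul_inv_cancel, map_one])
  have hσP : σ ∈ φ.range := ⟨.r 1 * .sr 0, by
    rw [map_mul, hφr, hφs, show (1 : ZMod 4).val = 1 from rfl, ZMod.val_zero, pow_one, pow_zero, mul_one,
      hu, mul_assoc, hg2, mul_one]⟩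
  have hgP : gb ∈ φ.range := ⟨.sr 0, by rw [hφs, ZMod.val_zero, pow_zero, mul_one]⟩
  have hωP : ω ∈ φ.range := hgσ ▸ mul_mem (mul_mem hgP hσP) hgP
  have hPle : φ.range ≤ Subgroup.normalizer (S.M : Set S.R) := by
    have hgn := S.M_normal_of (x := ⟨S.g, hgN⟩) S.g_normD
    have hσn := S.M_normal_of (x := ⟨S.s, hΘN sL (by decide)⟩) (S.Θ_normD (p := sL) (by decide))
    have hun : u ∈ Subgroup.normalizer (S.M : Set S.R) := mul_mem hσn hgn
    rintro _ ⟨x, rfl⟩
    rcases x with i | i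
    · rw [hφr]; exact pow_mem hun _
    · rw [hφs]; exact mul_mem hgn (pow_mem hun _)
  have hdec : ∀ n ∈ Subgroup.normalizer (S.M : Set S.R), ∃ m ∈ S.M, ∃ p ∈ φ.range, n = m * p := by
    intro n hn
    obtain ⟨⟨x, hxC⟩, hx, rfl⟩ := S.M_normalizer hn
    obtain ⟨p, hp, hxe⟩ := S.normD_iff.mp hx
    obtain ⟨i, k, j, l, m, rfl⟩ := InM_decomp p hp
    refine ⟨S.q ⟨S.Θ (dL i k), S.D_le_Cw (S.mem_D_iff.mpr ⟨i, k, rfl⟩)⟩,
      ⟨_, S.mem_D_iff.mpr ⟨i, k, rfl⟩, rfl⟩, ?_⟩
    have hw1 : S.q ⟨S.w, S.w_mem_Cw⟩ = 1 := S.q_eq_one.mpr (Or.inr rfl)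
    have hC : S.Θ (sL ^ (j : ℕ) * oL ^ (l : ℕ) * wL ^ (m : ℕ)) =
        S.s ^ (j : ℕ) * S.o ^ (l : ℕ) * S.w ^ (m : ℕ) := by
      simp only [map_mul, map_pow]; rfl
    rcases hxe with e | e
    · refine ⟨σ ^ (j : ℕ) * ω ^ (l : ℕ), mul_mem (pow_mem hσP _) (pow_mem hωP _), ?_⟩
      rw [hσ, hω, ← map_pow, ← map_pow, ← map_mul, ← map_mul, ← mul_one (S.q (_ * _)),
        ← one_pow (m : ℕ), ← hw1, ← map_pow, ← map_mul]
      refine congrArg S.q (Subtype.ext ?_)
      refine (show x = _ from e).trans ?_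
      rw [map_mul, hC]
      simp [mul_assoc]
    · refine ⟨σ ^ (j : ℕ) * ω ^ (l : ℕ) * gb, mul_mem (mul_mem (pow_mem hσP _) (pow_mem hωP _)) hgP, ?_⟩
      rw [hσ, hω, hgb, ← map_pow, ← map_pow, ← map_mul, ← mul_one (S.q (_ ^ (j : ℕ) * _)),
        ← one_pow (m : ℕ), ← hw1, ← map_pow, ← map_mul, ← map_mul, ← map_mul]
      refine congrArg S.q (Subtype.ext ?_)
      refine (show x = _ from e).trans ?_
      rw [map_mul, hC]
      simp [mul_assoc]
  obtain ⟨ψ, hψ⟩ := NineTI.exists_equiv_model S.M_hyp φ.range hPle (MonoidHom.ofInjective hφinj) hdec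
  rcases NineTI.normal_or_six (⟨S.M_hyp, ψ, hψ⟩ : NineTI.DData S.M) with h | h
  · left
    intro x hx
    obtain ⟨y, hy, e⟩ := S.M_normalizer (r := S.q ⟨x, S.mem_Cw.mpr hx⟩)
      (by rw [Subgroup.normalizer_eq_top_iff.mpr h]; trivial)
    rcases S.q_eq.mp e with e' | e'
    · exact (show (y : G) = x from e') ▸ hy
    · have hw : S.w ∈ Subgroup.normalizer (S.D : Set G) := S.Θ_normD (p := wL) (by decide)
      have : x = (y : G) * S.w := by
        change (y : G) = x * S.w at e'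
        rw [e', mul_assoc, S.ww, mul_one]
      rw [this]; exact mul_mem hy hw
  · right
    refine ⟨h, ?_⟩
    obtain ⟨e⟩ := h
    have hk : Nat.card S.W0 = 2 := by
      rw [W0, Nat.card_congr (Subgroup.subgroupOfEquivOfLe
        ((Subgroup.zpowers_le).mpr S.w_mem_Cw)).toEquiv, Nat.card_zpowers]
      exact orderOf_eq_prime (by rw [pow_two, S.ww]) S.w_ne
    rw [← S.W0.card_mul_index, Subgroup.index_eq_card, Nat.card_congr e.toEquiv, hk, Nat.card_perm,
      Nat.card_fin]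
    rfl

end Setup

end CfsgLib.SymEightThree
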