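import Cfsg.Agent.Lib.SymEightThree.Basic

/-!
# Producing the local data from the hypotheses of the recognition
-/

set_option autoImplicit false

open Equiv

namespace CfsgLib.SymEightThree

theorem three_conj : ∀ σ : Perm (Fin 3), σ ^ 3 = 1 → σ ≠ 1 → ∃ q : Perm (Fin 3), q * σ * q⁻¹ = cZ := by
  decide

set_option maxRecDepth 8000 in
theorem no_normal_three : ∀ τ : Perm (Fin 5), τ ^ 3 = 1 → τ ≠ 1 →
    ¬ ∀ π : Perm (Fin 5), π * τ * π⁻¹ = τ ∨ π * τ * π⁻¹ = τ⁻¹ := by decide +kernel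

set_option maxRecDepth 8000 in
theorem five_conj : ∀ τ : Perm (Fin 5), τ ^ 3 = 1 → τ ≠ 1 →
    ∃ π : Perm (Fin 5), π * τ * π⁻¹ = cA := by decide +kernel

/-- The elements of `D` in the model. -/
def dL (i j : Fin 3) : L := (cZ ^ (i : ℕ), cA ^ (j : ℕ))

theorem dL_inj : ∀ i j i' j', dL i j = dL i' j' → i = i' ∧ j = j' := by decide +kernel
theorem dL_axes : dL 1 0 = zL ∧ dL 0 1 = aL ∧ dL 1 1 = zL * aL ∧ dL 2 0 = zL⁻¹ ∧ dL 0 2 = aL⁻¹ := by
  decide +kernel
theorem dL_comm : ∀ i j, Commute (dL i j) zL ∧ Commute (dL i j) aL := by decide +kernel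
theorem oL_dL : ∀ i j, oL * dL i j * oL = dL i (-j) ∧ (dL i j)⁻¹ = dL (-i) (-j) := by decide +kernel
theorem dL_types : ∀ i j : Fin 3, dL i j = 1 ∨ dL i j = zL ∨ dL i j = zL⁻¹ ∨ dL i j = aL ∨ dL i j = aL⁻¹ ∨
    dL i j = zL * aL ∨ dL i j = (zL * aL)⁻¹ ∨ dL i j = oL * (zL * aL) * oL ∨
    dL i j = (oL * (zL * aL) * oL)⁻¹ := by decide +kernel
theorem fix_axis : ∀ i j, oL * dL i j * oL = dL i j ∨ oL * dL i j * oL = (dL i j)⁻¹ →
    (dL i j = zL ∨ dL i j = zL⁻¹ ∨ dL i j = 1) ∨ dL i j = aL ∨ dL i j = aL⁻¹ := by decide +kernel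

set_option maxRecDepth 8000 in
theorem InM_iff : ∀ p : L, InM p ↔
    ((∃ i, p * zL * p⁻¹ = dL i 0) ∧ ∃ i j, p * aL * p⁻¹ = dL i j) := by decide +kernel

set_option maxRecDepth 8000 in
theorem card_InM : (Finset.univ.filter fun p : L => InM p).card = 72 := by decide +kernel

set_option maxRecDepth 8000 in
theorem card_cent_za : (Finset.univ.filter fun p : L => p * (zL * aL) = zL * aL * p).card = 18 := by
  decide +kernel

set_option maxRecDepth 8000 in
theorem cent_za_L : ∀ p : L, Commute (zL * aL) p → Commute p zL ∧ Commute p aL := by decide +kernel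

set_option maxRecDepth 8000 in
theorem cent_axes : ∀ p : L, Commute p zL → Commute p aL → p * p = 1 → p ≠ 1 → p = wL := by
  decide +kernel

set_option maxRecDepth 8000 in
theorem invert_a : ∀ p : L, Commute p zL → p * p = 1 → p * aL * p⁻¹ = aL⁻¹ → p.1 = 1 ∧
    ∃ k : Fin 3, cA ^ (k : ℕ) * p.2 * (cA ^ (k : ℕ))⁻¹ = swap 0 1 ∨
      cA ^ (k : ℕ) * p.2 * (cA ^ (k : ℕ))⁻¹ = swap 0 1 * swap 3 4 := by decide +kernel

theorem fixed_by_rename : ∀ k : Fin 3, (cA ^ (k : ℕ))⁻¹ * cA * cA ^ (k : ℕ) = cA ∧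
    (cA ^ (k : ℕ))⁻¹ * swap 3 4 * cA ^ (k : ℕ) = swap 3 4 := by decide +kernel

variable {G : Type*} [Group G] [Finite G]

omit [Finite G] in
theorem centralizer_conj_card (x w : G) :
    Nat.card (Subgroup.centralizer ({x * w * x⁻¹} : Set G)) =
      Nat.card (Subgroup.centralizer ({w} : Set G)) := by
  refine Nat.card_congr ⟨fun v => ⟨x⁻¹ * v * x, ?_⟩, fun v => ⟨x * v * x⁻¹, ?_⟩, fun v => ?_, fun v => ?_⟩
  · refine Subgroup.mem_centralizer_singleton_iff.mpr ?_
    calc x⁻¹ * (v : G) * x * w = x⁻¹ * ((v : G) * (x * w * x⁻¹)) * x := by group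
      _ = _ := by rw [Subgroup.mem_centralizer_singleton_iff.mp v.2]; group
  · refine Subgroup.mem_centralizer_singleton_iff.mpr ?_
    calc x * (v : G) * x⁻¹ * (x * w * x⁻¹) = x * ((v : G) * w) * x⁻¹ := by group
      _ = _ := by rw [Subgroup.mem_centralizer_singleton_iff.mp v.2]; group
  · exact Subtype.ext (by group)
  · exact Subtype.ext (by group)

omit [Finite G] in
theorem centralizer_inv (w : G) :
    Subgroup.centralizer ({w⁻¹} : Set G) = Subgroup.centralizer ({w} : Set G) := by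
  ext v
  simp only [Subgroup.mem_centralizer_singleton_iff]
  exact ⟨fun h => (Commute.inv_right_iff.mp (show Commute v w⁻¹ from h)).eq,
    fun h => (Commute.inv_right (show Commute v w from h)).eq⟩

omit [Finite G] in
theorem mem_zpowers_three {z w : G} (hz : z ^ 3 = 1) (hw : w ∈ Subgroup.zpowers z) :
    w = 1 ∨ w = z ∨ w = z⁻¹ := by
  obtain ⟨k, rfl⟩ := Subgroup.mem_zpowers_iff.mp hw
  rw [show k = 3 * (k / 3) + k % 3 by omega, zpow_add, zpow_mul,
    show z ^ (3 : ℤ) = 1 by exact_mod_cast hz, one_zpow, one_mul]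
  rcases (show k % 3 = 0 ∨ k % 3 = 1 ∨ k % 3 = 2 by omega) with e | e | e <;> rw [e]
  · exact Or.inl (zpow_zero z)
  · exact Or.inr (Or.inl (zpow_one z))
  · refine Or.inr (Or.inr (eq_inv_of_mul_eq_one_left ?_))
    rw [show (2 : ℤ) = ((2 : ℕ) : ℤ) from rfl, zpow_natCast, ← pow_succ, hz]

omit [Finite G] in
theorem line_iff {z x : G} (hz : z ^ 3 = 1) (hz1 : z ≠ 1) :
    x ∈ Subgroup.normalizer (Subgroup.zpowers z : Set G) ↔
      x * z * x⁻¹ = z ∨ x * z * x⁻¹ = z⁻¹ := by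
  constructor
  · intro hx
    rcases mem_zpowers_three hz
      ((Subgroup.mem_normalizer_iff.mp hx z).mp (Subgroup.mem_zpowers z)) with e | e | e
    · exact absurd (conj_eq_one_iff.mp e) hz1
    · exact Or.inl e
    · exact Or.inr e
  · intro hx
    rw [Subgroup.mem_normalizer_iff_map_conj_eq, MonoidHom.map_zpowers]
    show Subgroup.zpowers (x * z * x⁻¹) = _
    rcases hx with e | e <;> rw [e]
    exact Subgroup.zpowers_inv

/-- The parametrization of the normalizer of `⟨z⟩`. -/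
theorem exists_param (z : G) (hz : z ^ 3 = 1) (hz1 : z ≠ 1)
    (eL : Subgroup.normalizer (Subgroup.zpowers z : Set G) ≃* Perm (Fin 3) × Perm (Fin 5)) :
    ∃ Θ : L →* G, Function.Injective Θ ∧ Θ zL = z ∧
      ∀ x : G, x * z * x⁻¹ = z ∨ x * z * x⁻¹ = z⁻¹ → ∃ p, x = Θ p := by
  set N := Subgroup.normalizer (Subgroup.zpowers z : Set G) with hN
  set zN : N := ⟨z, Subgroup.le_normalizer (Subgroup.mem_zpowers z)⟩ with hzN
  obtain ⟨σ, τ, hστ⟩ : ∃ σ τ, eL zN = (σ, τ) := ⟨_, _, rfl⟩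
  have h3 : (σ, τ) ^ 3 = 1 := by
    rw [← hστ, ← map_pow, show zN ^ 3 = 1 from Subtype.ext (by simpa using hz), map_one]
  have hτ : τ = 1 := by
    by_contra hne
    refine no_normal_three τ (congrArg Prod.snd h3) hne fun π => ?_
    set l := eL.symm (1, π) with hl
    rcases (line_iff hz hz1).mp l.2 with e | e
    · have e' : l * zN * l⁻¹ = zN := Subtype.ext e
      exact Or.inl (by simpa [hl, hστ] using congrArg (fun t => (eL t).2) e')
    · have e' : l * zN * l⁻¹ = zN⁻¹ := Subtype.ext e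
      exact Or.inr (by simpa [hl, hστ] using congrArg (fun t => (eL t).2) e')
  subst hτ
  have hσ : σ ≠ 1 := by
    rintro rfl
    exact hz1 (congrArg Subtype.val ((map_eq_one_iff eL eL.injective).mp hστ))
  obtain ⟨q, hq⟩ := three_conj σ (congrArg Prod.fst h3) hσ
  let e : L ≃* N := (MulEquiv.prodCongr (MulAut.conj q⁻¹) (MulEquiv.refl _)).trans eL.symm
  have hez : e zL = zN := by
    rw [MulEquiv.trans_apply, MulEquiv.symm_apply_eq, hστ]
    refine Prod.ext ?_ rfl
    show q⁻¹ * cZ * q⁻¹⁻¹ = σ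
    rw [← hq]; group
  refine ⟨N.subtype.comp e.toMonoidHom, fun p p' h => e.injective (Subtype.ext h),
    congrArg Subtype.val hez, fun x hx => ⟨e.symm ⟨x, (line_iff hz hz1).mpr hx⟩, ?_⟩⟩
  show x = ((e (e.symm _)) : G)
  rw [MulEquiv.apply_symm_apply]

/-- The local data, from the hypotheses of the recognition. -/
theorem exists_setup (P : Sylow 3 G) (D : Subgroup G) (hDP : D = P) (y z : G)
    (hgen : Subgroup.closure {y, z} = D) (hcard : Nat.card D = 9) (hexp : ∀ a ∈ D, a ^ 3 = 1)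
    (hcomm : IsMulCommutative D)
    (hNcard : Nat.card ↥(Subgroup.normalizer (D : Set G)) = 144)
    (hyn : (D.subgroupOf (Subgroup.centralizer ({y} : Set G))).Normal)
    (hycard : Nat.card (Subgroup.centralizer ({y} : Set G)) = 36)
    (hysq : ∀ g ∈ Subgroup.centralizer ({y} : Set G), g ^ 2 ∈ D)
    (eC : Subgroup.centralizer ({z} : Set G) ≃* Multiplicative (ZMod 3) × Perm (Fin 5))
    (eL : Subgroup.normalizer (Subgroup.zpowers z : Set G) ≃* Perm (Fin 3) × Perm (Fin 5)) :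
    Nonempty (Setup G) := by
  classical
  have hzD : z ∈ D := hgen ▸ Subgroup.subset_closure (by simp)
  have hyD : y ∈ D := hgen ▸ Subgroup.subset_closure (by simp)
  have hcD : ∀ p ∈ D, ∀ q ∈ D, p * q = q * p := fun p hp q hq =>
    congrArg Subtype.val (mul_comm' (⟨p, hp⟩ : D) ⟨q, hq⟩)
  have hz := hexp z hzD
  have hC360 : Nat.card (Subgroup.centralizer ({z} : Set G)) = 360 := by
    rw [Nat.card_congr eC.toEquiv, Nat.card_prod, Nat.card_perm, Nat.card_fin]
    simp [Nat.factorial]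
  have hone : ∀ t : G, t = 1 → 360 ≤ Nat.card (Subgroup.centralizer ({t} : Set G)) := by
    rintro t rfl
    rw [← hC360]
    exact Subgroup.card_le_of_le fun x _ =>
      Subgroup.mem_centralizer_singleton_iff.mpr ((mul_one x).trans (one_mul x).symm)
  have hz1 : z ≠ 1 := by
    rintro rfl
    have hD : D = Subgroup.zpowers y := by
      rw [← hgen, Subgroup.zpowers_eq_closure]
      refine le_antisymm ((Subgroup.closure_le _).mpr ?_) (Subgroup.closure_mono (by simp))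
      rintro w (rfl | rfl)
      · exact Subgroup.subset_closure rfl
      · exact one_mem _
    rw [hD, Nat.card_zpowers] at hcard
    have := Nat.le_of_dvd (by norm_num) (orderOf_dvd_of_pow_eq_one (hexp y hyD))
    omega
  obtain ⟨Θ₀, hinj₀, hΘz₀, hnorm₀⟩ := exists_param z hz hz1 eL
  obtain ⟨d, hd, hdz⟩ : ∃ d ∈ D, d ∉ Subgroup.zpowers z := by
    by_contra hall
    push Not at hall
    have := Nat.le_of_dvd (by rw [Nat.card_zpowers]; exact orderOf_pos z)
      (Subgroup.card_dvd_of_le hall)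
    rw [hcard, Nat.card_zpowers] at this
    have := Nat.le_of_dvd (by norm_num) (orderOf_dvd_of_pow_eq_one hz)
    omega
  obtain ⟨⟨p1, τ⟩, hdp⟩ := hnorm₀ d (Or.inl (by rw [hcD d hd z hzD, mul_inv_cancel_right]))
  obtain ⟨i, hi⟩ := (Setup.cent_z_iff (p1, τ)).mp (hinj₀ (by
    rw [map_mul, map_mul, hΘz₀, ← hdp, hcD d hd z hzD]))
  have hτD : Θ₀ (1, τ) ∈ D := by
    have : Θ₀ (1, τ) = (z ^ (i : ℕ))⁻¹ * d := by
      rw [hdp, ← hΘz₀, ← map_pow, ← map_inv, ← map_mul]
      congr 1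
      simp [zL, show p1 = cZ ^ (i : ℕ) from hi]
    rw [this]; exact mul_mem (inv_mem (pow_mem hzD _)) hd
  have hτ1 : τ ≠ 1 := by
    rintro rfl
    refine hdz ?_
    rw [hdp, show ((p1, 1) : L) = zL ^ (i : ℕ) by simp [zL, show p1 = cZ ^ (i : ℕ) from hi], map_pow, hΘz₀]
    exact pow_mem (Subgroup.mem_zpowers z) _
  have hτ3 : τ ^ 3 = 1 := by
    have h := hexp _ hτD
    rw [← map_pow, map_eq_one_iff _ hinj₀] at h
    exact congrArg Prod.snd h
  obtain ⟨π, hπ⟩ := five_conj τ hτ3 hτ1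
  set Θ : L →* G := Θ₀.comp (MonoidHom.prodMap (MonoidHom.id _) (MulAut.conj π⁻¹).toMonoidHom) with hΘdef
  have hinj : Function.Injective Θ := hinj₀.comp
    (Function.Injective.prodMap Function.injective_id (MulAut.conj π⁻¹).injective)
  have hΘz : Θ zL = z := by
    rw [← hΘz₀]; show Θ₀ (cZ, π⁻¹ * 1 * π⁻¹⁻¹) = _
    rw [mul_one, mul_inv_cancel]; rfl
  have hnorm : ∀ x : G, x * z * x⁻¹ = z ∨ x * z * x⁻¹ = z⁻¹ → ∃ p, x = Θ p := fun x hx => by
    obtain ⟨p, hp⟩ := hnorm₀ x hx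
    refine ⟨(p.1, π * p.2 * π⁻¹), ?_⟩
    rw [hp]
    show Θ₀ p = Θ₀ (p.1, π⁻¹ * (π * p.2 * π⁻¹) * π⁻¹⁻¹)
    congr 1
    exact Prod.ext rfl (by group)
  have haD : Θ aL ∈ D := by
    have : Θ aL = Θ₀ (1, τ) := by
      show Θ₀ (1, π⁻¹ * cA * π⁻¹⁻¹) = _
      rw [← hπ]; congr 2; group
    exact this ▸ hτD
  have hdLD : ∀ i j, Θ (dL i j) ∈ D := by
    intro i j
    rw [show dL i j = zL ^ (i : ℕ) * aL ^ (j : ℕ) by simp [dL, zL, aL], map_mul, map_pow, map_pow, hΘz]
    exact mul_mem (pow_mem hzD _) (pow_mem haD _)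
  have hDset : ∀ x ∈ D, ∃ i j : Fin 3, x = Θ (dL i j) := by
    let F : Fin 3 × Fin 3 → D := fun p => ⟨Θ (dL p.1 p.2), hdLD _ _⟩
    have hF : Function.Injective F := fun p q h =>
      Prod.ext (dL_inj _ _ _ _ (hinj (congrArg Subtype.val h))).1
        (dL_inj _ _ _ _ (hinj (congrArg Subtype.val h))).2
    have hb := (Nat.bijective_iff_injective_and_card F).mpr ⟨hF, by simp [hcard]⟩
    intro x hx
    obtain ⟨p, hp⟩ := hb.2 ⟨x, hx⟩
    exact ⟨p.1, p.2, (congrArg Subtype.val hp).symm⟩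
  have hDgen : ∀ x : G, x * z * x⁻¹ ∈ D → x * Θ aL * x⁻¹ ∈ D →
      x ∈ Subgroup.normalizer (D : Set G) := by
    intro x h1 h2
    rw [Subgroup.mem_normalizer_iff_map_conj_eq]
    refine Subgroup.eq_of_le_of_card_ge ?_ (le_of_eq
      (Subgroup.card_map_of_injective (MulAut.conj x).injective).symm)
    rintro _ ⟨v, hv, rfl⟩
    obtain ⟨i, j, rfl⟩ := hDset v hv
    rw [show dL i j = zL ^ (i : ℕ) * aL ^ (j : ℕ) by simp [dL, zL, aL], map_mul, map_pow, map_pow, hΘz]
    show x * _ * x⁻¹ ∈ D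
    rw [show x * (z ^ (i : ℕ) * Θ aL ^ (j : ℕ)) * x⁻¹ =
      (x * z ^ (i : ℕ) * x⁻¹) * (x * Θ aL ^ (j : ℕ) * x⁻¹) by group, ← conj_pow, ← conj_pow]
    exact mul_mem (pow_mem h1 _) (pow_mem h2 _)
  set N := Subgroup.normalizer (D : Set G) with hN
  set Nz := N ⊓ Subgroup.normalizer (Subgroup.zpowers z : Set G) with hNz
  have hΘline : ∀ p : L, InM p → Θ p ∈ Nz := by
    intro p hp
    obtain ⟨⟨i, hi⟩, k, l, hkl⟩ := (InM_iff p).mp hp
    have h1 : Θ p * z * (Θ p)⁻¹ = Θ (dL i 0) := by rw [← hΘz, ← map_inv, ← map_mul, ← map_mul, hi]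
    have h2 : Θ p * Θ aL * (Θ p)⁻¹ = Θ (dL k l) := by rw [← map_inv, ← map_mul, ← map_mul, hkl]
    refine ⟨hDgen _ (h1 ▸ hdLD _ _) (h2 ▸ hdLD _ _), (line_iff hz hz1).mpr ?_⟩
    have hm : Θ p * z * (Θ p)⁻¹ ∈ Subgroup.zpowers z := by
      rw [h1, show dL i 0 = zL ^ (i : ℕ) by simp [dL, zL], map_pow, hΘz]
      exact pow_mem (Subgroup.mem_zpowers z) _
    rcases mem_zpowers_three hz hm with e | e | e
    · exact absurd (conj_eq_one_iff.mp e) hz1
    · exact Or.inl e
    · exact Or.inr e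
  have hNzcard : Nat.card Nz = 72 := by
    let F : {p : L // InM p} → Nz := fun p => ⟨Θ p.1, hΘline p.1 p.2⟩
    have hF : Function.Bijective F := by
      refine ⟨fun p q h => Subtype.ext (hinj (congrArg Subtype.val h)), fun x => ?_⟩
      obtain ⟨p, hp⟩ := hnorm x ((line_iff hz hz1).mp x.2.2)
      refine ⟨⟨p, (InM_iff p).mpr ⟨?_, ?_⟩⟩, Subtype.ext hp.symm⟩
      · rcases (line_iff hz hz1).mp x.2.2 with e | e
        · exact ⟨1, hinj (by
            rw [map_mul, map_mul, map_inv, ← hp, hΘz, e, dL_axes.1, hΘz])⟩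
        · exact ⟨2, hinj (by
            rw [map_mul, map_mul, map_inv, ← hp, hΘz, e, dL_axes.2.2.2.1, map_inv, hΘz])⟩
      · obtain ⟨k, l, hkl⟩ := hDset _ ((Subgroup.mem_normalizer_iff.mp x.2.1 _).mp haD)
        exact ⟨k, l, hinj (by rw [map_mul, map_mul, map_inv, ← hp, hkl])⟩
    rw [← Nat.card_congr (Equiv.ofBijective F hF), Nat.card_eq_fintype_card, Fintype.card_subtype,
      card_InM]
  have hidx : (Nz.subgroupOf N).index = 2 := by
    have h := Subgroup.card_mul_index (Nz.subgroupOf N)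
    rw [Nat.card_congr (Subgroup.subgroupOfEquivOfLe (inf_le_left : Nz ≤ N)).toEquiv, hNzcard,
      hNcard] at h
    omega
  haveI := Subgroup.normal_of_index_eq_two hidx
  obtain ⟨n, hnN, hnz⟩ : ∃ n ∈ N, n ∉ Nz := by
    by_contra hall
    push Not at hall
    have := Subgroup.card_le_of_le (show N ≤ Nz from hall)
    omega
  have hrN : Θ oL ∈ Nz := hΘline oL (by decide)
  have hr2 : (Θ oL)⁻¹ = Θ oL := by rw [← map_inv]; congr 1
  have hnot_Nz : ∀ {x : G}, x ∈ N → x ∉ Nz → n⁻¹ * x ∈ Nz := by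
    intro x hxN hx
    have := (Subgroup.mul_mem_iff_of_index_two hidx (a := (⟨n, hnN⟩⁻¹ : N)) (b := ⟨x, hxN⟩)).mpr
      (by simp only [Subgroup.mem_subgroupOf, Subgroup.coe_inv, inv_mem_iff]
          exact iff_of_false hnz hx)
    simpa using Subgroup.mem_subgroupOf.mp this
  have hn1 : n * z * n⁻¹ = Θ aL ∨ n * z * n⁻¹ = (Θ aL)⁻¹ := by
    obtain ⟨i₁, j₁, hn1⟩ := hDset _ ((Subgroup.mem_normalizer_iff.mp hnN z).mp hzD)
    have hline : n⁻¹ * Θ oL * n ∈ Subgroup.normalizer (Subgroup.zpowers z : Set G) := by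
      have := Subgroup.Normal.conj_mem inferInstance (⟨Θ oL, hrN.1⟩ : N)
        (Subgroup.mem_subgroupOf.mpr hrN) (⟨n, hnN⟩⁻¹ : N)
      simpa using (Subgroup.mem_subgroupOf.mp this).2
    have hfix : oL * dL i₁ j₁ * oL = dL i₁ j₁ ∨ oL * dL i₁ j₁ * oL = (dL i₁ j₁)⁻¹ := by
      rcases (line_iff hz hz1).mp hline with e | e
      · refine Or.inl (hinj ?_)
        rw [map_mul, map_mul, ← hn1]
        nth_rewrite 2 [← hr2]
        calc Θ oL * (n * z * n⁻¹) * (Θ oL)⁻¹ =
              n * ((n⁻¹ * Θ oL * n) * z * (n⁻¹ * Θ oL * n)⁻¹) * n⁻¹ := by group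
          _ = _ := by rw [e]
      · refine Or.inr (hinj ?_)
        rw [map_mul, map_mul, map_inv, ← hn1]
        nth_rewrite 2 [← hr2]
        calc Θ oL * (n * z * n⁻¹) * (Θ oL)⁻¹ =
              n * ((n⁻¹ * Θ oL * n) * z * (n⁻¹ * Θ oL * n)⁻¹) * n⁻¹ := by group
          _ = _ := by rw [e]; group
    rcases fix_axis i₁ j₁ hfix with (e | e | e) | e | e
    · exact absurd ⟨hnN, (line_iff hz hz1).mpr (Or.inl (by rw [hn1, e, hΘz]))⟩ hnz
    · exact absurd ⟨hnN, (line_iff hz hz1).mpr (Or.inr (by rw [hn1, e, map_inv, hΘz]))⟩ hnz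
    · exact absurd (conj_eq_one_iff.mp (by rw [hn1, e, map_one])) hz1
    · exact Or.inl (by rw [hn1, e])
    · exact Or.inr (by rw [hn1, e, map_inv])
  have hCa : Nat.card (Subgroup.centralizer ({Θ aL} : Set G)) = 360 := by
    have h1 := centralizer_conj_card n z
    rcases hn1 with e | e <;> rw [e, hC360] at h1
    · exact h1
    · rwa [centralizer_inv] at h1
  -- transport the hypotheses on `y` to `za`
  set t := Θ (zL * aL) with ht
  obtain ⟨u, huN, hu⟩ : ∃ u : G, (u = 1 ∨ u = Θ oL) ∧ (y = u * t * u⁻¹ ∨ y = (u * t * u⁻¹)⁻¹) := by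
    obtain ⟨i, j, hy⟩ := hDset y hyD
    rcases dL_types i j with e | e | e | e | e | e | e | e | e <;> rw [e] at hy
    · have := hone y (hy.trans (map_one _)); omega
    · rw [hy, hΘz, hC360] at hycard; omega
    · rw [hy, map_inv, centralizer_inv, hΘz, hC360] at hycard; omega
    · rw [hy, hCa] at hycard; omega
    · rw [hy, map_inv, centralizer_inv, hCa] at hycard; omega
    · exact ⟨1, Or.inl rfl, Or.inl (by rw [hy, one_mul, inv_one, mul_one])⟩
    · exact ⟨1, Or.inl rfl, Or.inr (by rw [hy, map_inv, one_mul, inv_one, mul_one])⟩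
    · exact ⟨Θ oL, Or.inr rfl, Or.inl (by rw [hy, hr2, ht, map_mul Θ (oL * _), map_mul Θ oL])⟩
    · exact ⟨Θ oL, Or.inr rfl, Or.inr (by rw [hy, hr2, ht, map_inv, map_mul Θ (oL * _), map_mul Θ oL])⟩
  have huD : ∀ v ∈ D, u⁻¹ * v * u ∈ D := by
    intro v hv
    rcases huN with rfl | rfl
    · simpa using hv
    · have := (Subgroup.mem_normalizer_iff.mp (inv_mem hrN.1) v).mp hv
      rwa [inv_inv] at this
  have hCy : Subgroup.centralizer ({y} : Set G) = Subgroup.centralizer ({u * t * u⁻¹} : Set G) := by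
    rcases hu with e | e <;> rw [e]
    exact centralizer_inv _
  have htcard : Nat.card (Subgroup.centralizer ({t} : Set G)) = 36 := by
    rw [← centralizer_conj_card u t, ← hCy, hycard]
  have hmemy : ∀ x : G, x * t = t * x → u * x * u⁻¹ ∈ Subgroup.centralizer ({y} : Set G) := by
    intro x hx
    rw [hCy, Subgroup.mem_centralizer_singleton_iff]
    calc u * x * u⁻¹ * (u * t * u⁻¹) = u * (x * t) * u⁻¹ := by group
      _ = _ := by rw [hx]; group
  have hsq : ∀ x : G, x * t = t * x → x ^ 2 ∈ D := by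
    intro x hx
    have h := huD _ (hysq _ (hmemy x hx))
    rwa [conj_pow, show u⁻¹ * (u * x ^ 2 * u⁻¹) * u = x ^ 2 by group] at h
  have hDy : D ≤ Subgroup.centralizer ({y} : Set G) := fun v hv =>
    Subgroup.mem_centralizer_singleton_iff.mpr (hcD v hv y hyD)
  have huN' : u ∈ N := by
    rcases huN with rfl | rfl
    · exact one_mem _
    · exact hrN.1
  have hCtN : ∀ x : G, x * t = t * x → x ∈ N := by
    intro x hx
    have hcon : ∀ v ∈ D, (u * x * u⁻¹) * v * (u * x * u⁻¹)⁻¹ ∈ D := fun v hv =>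
      Subgroup.mem_subgroupOf.mp (hyn.conj_mem ⟨v, hDy hv⟩ (Subgroup.mem_subgroupOf.mpr hv)
        ⟨_, hmemy x hx⟩)
    have hxu : u * x * u⁻¹ ∈ N := hDgen _ (hcon z hzD) (hcon _ haD)
    simpa [mul_assoc] using mul_mem (mul_mem (inv_mem huN') hxu) huN'
  -- the involution
  obtain ⟨g₀, hg₀, hg₀z⟩ : ∃ g₀ : G, g₀ * t = t * g₀ ∧
      g₀ ∉ Subgroup.normalizer (Subgroup.zpowers z : Set G) := by
    by_contra hall
    push Not at hall
    have hsub : ∀ x : Subgroup.centralizer ({t} : Set G), ∃ p : {p : L // p * (zL * aL) = zL * aL * p},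
        (x : G) = Θ p.1 := by
      intro x
      have hx := Subgroup.mem_centralizer_singleton_iff.mp x.2
      obtain ⟨p, hp⟩ := hnorm x ((line_iff hz hz1).mp (hall x hx))
      exact ⟨⟨p, hinj (by rw [map_mul Θ p, map_mul Θ (zL * aL) p, ← hp]; exact hx)⟩, hp⟩
    choose F hF using hsub
    have := Nat.card_le_card_of_injective F (fun x x' h => Subtype.ext (by rw [hF x, hF x', h]))
    rw [htcard, Nat.card_eq_fintype_card, Fintype.card_subtype, card_cent_za] at this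
    omega
  set g := g₀ ^ 9 with hg
  have hgg : g * g = 1 := by
    rw [hg, ← pow_add, show 9 + 9 = 2 * (3 * 3) by norm_num, pow_mul, pow_mul, hexp _ (hsq g₀ hg₀),
      one_pow]
  have hgi : g⁻¹ = g := inv_eq_of_mul_eq_one_left hgg
  have hgt : g * t = t * g := (show Commute g₀ t from hg₀).pow_left 9
  have hgN : g ∈ N := hCtN g hgt
  have hgnot : g ∉ Nz := by
    intro h
    refine hg₀z ?_
    have h8 : g₀ ^ 8 ∈ Subgroup.normalizer (Subgroup.zpowers z : Set G) := by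
      have : g₀ ^ 8 ∈ D := by rw [show 8 = 2 * 4 by norm_num, pow_mul]; exact pow_mem (hsq g₀ hg₀) _
      exact (line_iff hz hz1).mpr (Or.inl (by rw [hcD _ this z hzD, mul_inv_cancel_right]))
    have e : g₀ = g * (g₀ ^ 8)⁻¹ := by rw [hg, pow_succ' g₀ 8, mul_inv_cancel_right]
    rw [e]; exact mul_mem h.2 (inv_mem h8)
  have hgz : g * z * g = Θ aL := by
    have hgm := hnot_Nz hgN hgnot
    have h1 : g * z * g = n * ((n⁻¹ * g) * z * (n⁻¹ * g)⁻¹) * n⁻¹ := by
      nth_rewrite 2 [← hgi]; group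
    have h2 : g * z * g = Θ aL ∨ g * z * g = (Θ aL)⁻¹ := by
      rcases (line_iff hz hz1).mp hgm.2 with e | e <;> rw [h1, e]
      · exact hn1
      · rw [show n * z⁻¹ * n⁻¹ = (n * z * n⁻¹)⁻¹ by group]
        rcases hn1 with e | e <;> rw [e]
        · exact Or.inr rfl
        · exact Or.inl (inv_inv _)
    refine h2.resolve_right fun e => ?_
    have ha' : g * Θ aL * g = z⁻¹ := by
      have : Θ aL = g * z⁻¹ * g := by
        rw [← inv_inv (Θ aL), ← e, mul_inv_rev, mul_inv_rev, hgi]; group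
      rw [this, show g * (g * z⁻¹ * g) * g = (g * g) * z⁻¹ * (g * g) by group, hgg, one_mul, mul_one]
    have h3 : g * t * g = (Θ aL)⁻¹ * z⁻¹ := by
      rw [ht, map_mul, hΘz, ← e, ← ha']
      calc g * (z * Θ aL) * g = g * z * 1 * Θ aL * g := by group
        _ = _ := by rw [← hgg]; group
    rw [hgt, mul_assoc, hgg, mul_one] at h3
    rw [ht, ← hΘz, ← map_inv, ← map_inv, ← map_mul] at h3
    exact absurd (hinj h3) (by decide)
  have hga : g * Θ aL * g = z := by
    rw [← hgz, show g * (g * z * g) * g = (g * g) * z * (g * g) by group, hgg, one_mul, mul_one]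
  have hcg : ∀ {x y : G}, x * y = y * x → Commute (g * x * g) (g * y * g) := fun {x y} h => by
    show g * x * g * (g * y * g) = g * y * g * (g * x * g)
    rw [show g * x * g * (g * y * g) = g * x * (g * g) * y * g by group,
      show g * y * g * (g * x * g) = g * y * (g * g) * x * g by group, hgg, mul_one, mul_one,
      mul_assoc g x, h, ← mul_assoc]
  have hgsq : ∀ {x : G}, x * x = 1 → g * x * g * (g * x * g) = 1 := fun {x} h => by
    rw [show g * x * g * (g * x * g) = g * x * (g * g) * x * g by group, hgg, mul_one,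
      mul_assoc g x, h, mul_one, hgg]
  have hgw : g * Θ wL * g = Θ wL := by
    have c1 : Commute (g * Θ wL * g) z := hga ▸
      hcg (by rw [← map_mul, ← map_mul]; exact congrArg Θ (by decide))
    have c2 : Commute (g * Θ wL * g) (Θ aL) := hgz ▸
      hcg (by rw [← hΘz, ← map_mul, ← map_mul]; exact congrArg Θ (by decide))
    obtain ⟨p, hp⟩ := hnorm _ (Or.inl (by rw [c1.eq, mul_inv_cancel_right]))
    rw [hp] at c1 c2 ⊢
    rw [cent_axes p (hinj (by rw [map_mul, map_mul, hΘz]; exact c1.eq))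
      (hinj (by rw [map_mul, map_mul]; exact c2.eq))
      (hinj (by rw [map_mul, map_one, ← hp]; exact hgsq (by rw [← map_mul, ← map_one Θ]; exact congrArg Θ (by decide))))
      (fun e => by
        rw [e, map_one] at hp
        have : Θ wL = Θ 1 := by
          rw [map_one]
          calc Θ wL = g * g * Θ wL * (g * g) := by rw [hgg, one_mul, mul_one]
            _ = g * (g * Θ wL * g) * g := by group
            _ = 1 := by rw [hp, mul_one, hgg]
        exact absurd (hinj this) (by decide))]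
  obtain ⟨k, q, hq, hgs⟩ : ∃ (k : Fin 3) (q : Perm (Fin 5)),
      (cA ^ (k : ℕ) * q * (cA ^ (k : ℕ))⁻¹ = swap 0 1 ∨
        cA ^ (k : ℕ) * q * (cA ^ (k : ℕ))⁻¹ = swap 0 1 * swap 3 4) ∧ g * Θ sL * g = Θ (1, q) := by
    have c1 : Commute (g * Θ sL * g) z := hga ▸ hcg (by rw [← map_mul, ← map_mul]; exact congrArg Θ (by decide))
    obtain ⟨p, hp⟩ := hnorm _ (Or.inl (by rw [c1.eq, mul_inv_cancel_right]))
    have hinvz : Θ sL * z * Θ sL = z⁻¹ := by
      rw [← hΘz, ← map_inv, ← map_mul, ← map_mul]; exact congrArg Θ (by decide)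
    have hinv : Θ p * Θ aL * (Θ p)⁻¹ = (Θ aL)⁻¹ := by
      rw [← hp, show (g * Θ sL * g)⁻¹ = g * Θ sL * g from
        inv_eq_of_mul_eq_one_right (hgsq (by rw [← map_mul, ← map_one Θ]; exact congrArg Θ (by decide))),
        show g * Θ sL * g * Θ aL * (g * Θ sL * g) = g * (Θ sL * (g * Θ aL * g) * Θ sL) * g by group,
        hga, hinvz, ← hgz, mul_inv_rev, mul_inv_rev, hgi]
      group
    obtain ⟨h1, k, hk⟩ := invert_a p (hinj (by rw [map_mul, map_mul, hΘz, ← hp]; exact c1.eq))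
      (hinj (by rw [map_mul, map_one, ← hp]; exact hgsq (by rw [← map_mul, ← map_one Θ]; exact congrArg Θ (by decide))))
      (hinj (by rw [map_mul, map_mul, map_inv, map_inv]; exact hinv))
    exact ⟨k, p.2, hk, hp.trans (congrArg Θ (Prod.ext h1 rfl))⟩
  -- rename the five points
  set Θ' : L →* G := Θ.comp (MonoidHom.prodMap (MonoidHom.id _)
    (MulAut.conj (cA ^ (k : ℕ))⁻¹).toMonoidHom) with hΘ'def
  have happ : ∀ p : L, Θ' p = Θ (p.1, (cA ^ (k : ℕ))⁻¹ * p.2 * cA ^ (k : ℕ)) := fun p => by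
    show Θ (p.1, (cA ^ (k : ℕ))⁻¹ * p.2 * (cA ^ (k : ℕ))⁻¹⁻¹) = _
    rw [inv_inv]
  obtain ⟨hfa, hfw⟩ := fixed_by_rename k
  have hz' : Θ' zL = z := by
    rw [happ, ← hΘz]; congr 1
    exact Prod.ext rfl (by simp [zL])
  have ha' : Θ' aL = Θ aL := by rw [happ]; exact congrArg Θ (Prod.ext rfl hfa)
  have hw' : Θ' wL = Θ wL := by rw [happ]; exact congrArg Θ (Prod.ext rfl hfw)
  have hs' : Θ' sL = Θ sL := by
    rw [happ]; refine congrArg Θ (Prod.ext rfl ?_); simp [sL]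
  have hinj' : Function.Injective Θ' := hinj.comp
    (Function.Injective.prodMap Function.injective_id (MulAut.conj _).injective)
  have hnorm' : ∀ x : G, x * z * x⁻¹ = z ∨ x * z * x⁻¹ = z⁻¹ → ∃ p, x = Θ' p := fun x hx => by
    obtain ⟨p, hp⟩ := hnorm x hx
    refine ⟨(p.1, cA ^ (k : ℕ) * p.2 * (cA ^ (k : ℕ))⁻¹), hp.trans ?_⟩
    rw [happ]; congr 1
    exact Prod.ext rfl (by group)
  refine ⟨{
    Θ := Θ'
    g := g
    π0 := cA ^ (k : ℕ) * q * (cA ^ (k : ℕ))⁻¹
    inj := hinj'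
    norm := fun x hx => hnorm' x (by rwa [hz'] at hx)
    hπ0 := hq
    gg := hgg
    gz := by rw [hz', ha', hgz]
    gw := by rw [hw', hgw]
    gs := by
      rw [hs', hgs, happ]; congr 1
      exact Prod.ext rfl (by group)
    cent_za := fun x hx => ?_
    three := fun Q hQ => ?_ }⟩
  · have ht' : Θ' (zL * aL) = t := by rw [ht, map_mul, map_mul, hz', ha', hΘz]
    have hxt : x * t = t * x := by rw [← ht']; exact hx.eq.symm
    have hfin : ∀ v : G, v * t = t * v → v ∈ Subgroup.normalizer (Subgroup.zpowers z : Set G) →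
        ∃ p : L, Commute p zL ∧ Commute p aL ∧ v = Θ' p := by
      intro v hv hvz
      obtain ⟨p, hp⟩ := hnorm' v ((line_iff hz hz1).mp hvz)
      obtain ⟨c1, c2⟩ := cent_za_L p (hinj' (by
        rw [map_mul Θ' (zL * aL), map_mul Θ' p, ht', ← hp]; exact hv.symm))
      exact ⟨p, c1, c2, hp⟩
    by_cases hxz : x ∈ Subgroup.normalizer (Subgroup.zpowers z : Set G)
    · obtain ⟨p, c1, c2, hp⟩ := hfin x hxt hxz
      exact ⟨p, c1, c2, Or.inl hp⟩
    · have hxN := hCtN x hxt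
      have h1 : n⁻¹ * x ∈ Nz := hnot_Nz hxN fun h => hxz h.2
      have h2 : x * g ∈ Nz := by
        have := (Subgroup.mul_mem_iff_of_index_two hidx (a := (⟨x, hxN⟩ : N)) (b := ⟨g, hgN⟩)).mpr
          (by simp only [Subgroup.mem_subgroupOf]; exact iff_of_false (fun h => hxz h.2) hgnot)
        exact Subgroup.mem_subgroupOf.mp this
      obtain ⟨p, c1, c2, hp⟩ := hfin (x * g) (((show Commute x t from hxt).mul_left hgt).eq) h2.2
      exact ⟨p, c1, c2, Or.inr (by rw [← hp, mul_assoc, hgg, mul_one])⟩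
  · obtain ⟨P', hP'⟩ := hQ.exists_le_sylow
    refine (Nat.le_of_dvd Nat.card_pos (Subgroup.card_dvd_of_le hP')).trans ?_
    rw [Nat.card_congr (P'.equiv P).toEquiv, ← hDP, hcard]

end CfsgLib.SymEightThree
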