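import Cfsg.Agent.Lib.SymEightThree.Data

/-!
# The normalizer of the subgroup of order nine
-/

set_option autoImplicit false

open Equiv

namespace CfsgLib.SymEightThree

/-- The word of an element of the model fixing both lines. -/
def mL (i : Fin 3) (j : Fin 2) (k : Fin 3) (l m : Fin 2) : L :=
  zL ^ (i : ℕ) * sL ^ (j : ℕ) * aL ^ (k : ℕ) * oL ^ (l : ℕ) * wL ^ (m : ℕ)

set_option maxRecDepth 8000 in
theorem InM_word : ∀ p : L, InM p ↔ ∃ i j k l m, p = mL i j k l m := by decide +kernel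

set_option maxRecDepth 8000 in
theorem InM_w : ∀ p : L, InM p → Commute p wL := by decide +kernel

set_option maxRecDepth 8000 in
theorem InM_closed : ∀ p : L, InM p → InM p⁻¹ ∧ InM (p * oL) ∧ InM (p * sL) := by decide +kernel

theorem InM_mul {p q : L} (hp : InM p) (hq : InM q) : InM (p * q) := by
  have e : (p * q).2 * cA * (p * q).2⁻¹ = p.2 * (q.2 * cA * q.2⁻¹) * p.2⁻¹ := by
    rw [Prod.snd_mul, mul_inv_rev]; group
  rcases hq with h | h
  · show (p * q).2 * cA * (p * q).2⁻¹ = cA ∨ (p * q).2 * cA * (p * q).2⁻¹ = cA⁻¹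
    rw [e, h]; exact hp
  · show (p * q).2 * cA * (p * q).2⁻¹ = cA ∨ (p * q).2 * cA * (p * q).2⁻¹ = cA⁻¹
    rw [e, h, show p.2 * cA⁻¹ * p.2⁻¹ = (p.2 * cA * p.2⁻¹)⁻¹ by group]
    rcases hp with h' | h' <;> rw [h']
    · exact Or.inr rfl
    · exact Or.inl (inv_inv _)

theorem cent_pair : ∀ p : L, Commute p zL → Commute p aL → ∃ (i k : Fin 3) (m : Fin 2),
    p = dL i k * wL ^ (m : ℕ) := by decide +kernel

theorem dL_comm_dL : ∀ i k i' k' : Fin 3, Commute (dL i k) (dL i' k') := by decide +kernel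

theorem dL_cube : ∀ i k : Fin 3, dL i k ^ 3 = 1 := by decide +kernel

theorem inM_of_cent : ∀ p : L, Commute p zL → Commute p wL → InM p := by decide +kernel

theorem inM_of_cent_pair : ∀ p : L, Commute p zL → Commute p aL → InM p := by decide +kernel

theorem dL_mul : ∀ i k i' k' : Fin 3, dL i k * dL i' k' = dL (i + i') (k + k') := by decide +kernel

theorem dL_mul_word : ∀ i k : Fin 3, dL i k = zL ^ (i : ℕ) * aL ^ (k : ℕ) := by decide +kernel

set_option maxRecDepth 8000 in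
theorem cent_z_perm : ∀ p : L, Commute p zL → p.1 = 1 ∨ p.1 = cZ ∨ p.1 = cZ⁻¹ := by decide +kernel

namespace Setup

variable {G : Type*} [Group G] [Finite G] (S : Setup G)

theorem τ_o : S.τ S.o = S.s ∨ S.τ S.o = S.s * S.w := by
  rcases S.hπ0 with h | h
  · left; rw [← S.τ_π0, h]; rfl
  · right
    rw [← S.τ_π0, ← S.τ_w, ← map_mul, h, w_eq, ← map_mul,
      show swap (0 : Fin 5) 1 * swap 3 4 * swap 3 4 = swap 0 1 by decide]
    rfl

theorem τ_pow (x : G) (n : ℕ) : S.τ (x ^ n) = S.τ x ^ n := map_pow S.τ x n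

theorem Θ_mL (i : Fin 3) (j : Fin 2) (k : Fin 3) (l m : Fin 2) :
    S.Θ (mL i j k l m) = S.z ^ (i : ℕ) * S.s ^ (j : ℕ) * S.a ^ (k : ℕ) * S.o ^ (l : ℕ) * S.w ^ (m : ℕ) := by
  simp only [mL, map_mul, map_pow]; rfl

/-- The elements of the normalizer of `D` fixing the two lines. -/
def Mz : Set G := {x | ∃ p, InM p ∧ x = S.Θ p}

theorem τ_Θ {p : L} (hp : InM p) : ∃ q, InM q ∧ S.τ (S.Θ p) = S.Θ q := by
  obtain ⟨i, j, k, l, m, rfl⟩ := (InM_word p).mp hp
  have hπ : InM ((1, S.π0) : L) := by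
    rcases S.hπ0 with h | h <;> rw [h] <;> decide
  rw [S.Θ_mL, map_mul, map_mul, map_mul, map_mul, S.τ_pow, S.τ_pow, S.τ_pow, S.τ_pow, S.τ_pow,
    S.τ_z, S.τ_a, S.τ_s, S.τ_w]
  have hpw : ∀ (q : L), InM q → ∀ n : ℕ, InM (q ^ n) := by
    intro q hq n
    induction n with
    | zero => rw [pow_zero]; decide
    | succ n ih => rw [pow_succ]; exact InM_mul ih hq
  obtain ⟨q, hq, e⟩ : ∃ q, InM q ∧ S.τ S.o = S.Θ q := by
    rcases S.τ_o with e | e
    · exact ⟨sL, by decide, e⟩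
    · exact ⟨sL * wL, by decide, e.trans (map_mul S.Θ _ _).symm⟩
  rw [e, S.Ω_apply]
  refine ⟨aL ^ (i : ℕ) * (1, S.π0) ^ (j : ℕ) * zL ^ (k : ℕ) * q ^ (l : ℕ) * wL ^ (m : ℕ),
    InM_mul (InM_mul (InM_mul (InM_mul (hpw _ (by decide) _) (hpw _ hπ _)) (hpw _ (by decide) _))
      (hpw _ hq _)) (hpw _ (by decide) _), ?_⟩
  simp only [map_mul, map_pow]
  rfl

theorem g_mul_Θ {p : L} (hp : InM p) : ∃ q, InM q ∧ S.g * S.Θ p = S.Θ q * S.g := by
  obtain ⟨q, hq, e⟩ := S.τ_Θ hp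
  refine ⟨q, hq, ?_⟩
  rw [← e, S.τ_apply, mul_assoc _ S.g S.g, S.gg, mul_one]

theorem dL_eq (i k : Fin 3) : S.Θ (dL i k) = S.z ^ (i : ℕ) * S.a ^ (k : ℕ) := by
  rw [dL_mul_word, map_mul, map_pow, map_pow]; rfl

theorem mem_D_iff {x : G} : x ∈ S.D ↔ ∃ i k : Fin 3, x = S.Θ (dL i k) := by
  constructor
  · intro hx
    have : x ∈ ((Subgroup.closure ({zL, aL} : Set L)).map S.Θ) := by
      rw [MonoidHom.map_closure, Set.image_pair]; exact hx
    obtain ⟨p, hp, rfl⟩ := this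
    suffices h : ∃ i k, p = dL i k by
      obtain ⟨i, k, e⟩ := h
      exact ⟨i, k, by rw [e]⟩
    clear hx
    induction hp using Subgroup.closure_induction with
    | mem q hq =>
      rcases hq with rfl | rfl
      · exact ⟨1, 0, by decide⟩
      · exact ⟨0, 1, by decide⟩
    | one => exact ⟨0, 0, by decide⟩
    | mul q q' _ _ h h' =>
      obtain ⟨i, k, rfl⟩ := h
      obtain ⟨i', k', rfl⟩ := h'
      exact ⟨i + i', k + k', dL_mul i k i' k'⟩
    | inv q _ h =>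
      obtain ⟨i, k, rfl⟩ := h
      exact ⟨-i, -k, (oL_dL i k).2⟩
  · rintro ⟨i, k, rfl⟩
    rw [S.dL_eq]
    exact mul_mem (pow_mem (Subgroup.subset_closure (by simp)) _)
      (pow_mem (Subgroup.subset_closure (by simp)) _)

theorem z_mem_D : S.z ∈ S.D := Subgroup.subset_closure (by simp)
theorem a_mem_D : S.a ∈ S.D := Subgroup.subset_closure (by simp)

theorem D_comm {x y : G} (hx : x ∈ S.D) (hy : y ∈ S.D) : Commute x y := by
  obtain ⟨i, k, rfl⟩ := S.mem_D_iff.mp hx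
  obtain ⟨i', k', rfl⟩ := S.mem_D_iff.mp hy
  exact S.Θ_commute (dL_comm_dL i k i' k')

theorem D_cube {x : G} (hx : x ∈ S.D) : x ^ 3 = 1 := by
  obtain ⟨i, k, rfl⟩ := S.mem_D_iff.mp hx
  rw [← map_pow, dL_cube, map_one]

theorem card_D : Nat.card S.D = 9 := by
  let F : Fin 3 × Fin 3 → S.D := fun p => ⟨S.Θ (dL p.1 p.2), S.mem_D_iff.mpr ⟨_, _, rfl⟩⟩
  have hF : Function.Bijective F := by
    refine ⟨fun p q h => Prod.ext (dL_inj _ _ _ _ (S.inj (congrArg Subtype.val h))).1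
      (dL_inj _ _ _ _ (S.inj (congrArg Subtype.val h))).2, fun x => ?_⟩
    obtain ⟨i, k, e⟩ := S.mem_D_iff.mp x.2
    exact ⟨(i, k), Subtype.ext e.symm⟩
  rw [← Nat.card_congr (Equiv.ofBijective F hF)]; simp

theorem D_isPGroup : IsPGroup 3 S.D := fun x => ⟨1, Subtype.ext (by simpa using S.D_cube x.2)⟩

theorem mem_normalizer {x : G} (h1 : x * S.z * x⁻¹ ∈ S.D) (h2 : x * S.a * x⁻¹ ∈ S.D) :
    x ∈ Subgroup.normalizer (S.D : Set G) := by
  rw [Subgroup.mem_normalizer_iff_map_conj_eq]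
  refine Subgroup.eq_of_le_of_card_ge ?_ (le_of_eq
    (Subgroup.card_map_of_injective (MulAut.conj x).injective).symm)
  rw [D, MonoidHom.map_closure, Subgroup.closure_le]
  rintro _ ⟨v, hv | hv, rfl⟩
  · rw [hv]; exact h1
  · rw [hv]; exact h2

theorem Θ_normD {p : L} (hp : InM p) : S.Θ p ∈ Subgroup.normalizer (S.D : Set G) := by
  obtain ⟨⟨i, hi⟩, k, l, hkl⟩ := (InM_iff p).mp hp
  refine S.mem_normalizer (S.mem_D_iff.mpr ⟨i, 0, ?_⟩) (S.mem_D_iff.mpr ⟨k, l, ?_⟩)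
  · rw [← hi, map_mul, map_mul, map_inv]; rfl
  · rw [← hkl, map_mul, map_mul, map_inv]; rfl

theorem g_normD : S.g ∈ Subgroup.normalizer (S.D : Set G) :=
  S.mem_normalizer
    (show S.τ S.z ∈ S.D by rw [S.τ_z]; exact S.a_mem_D)
    (show S.τ S.a ∈ S.D by rw [S.τ_a]; exact S.z_mem_D)

theorem card_cent_z : 360 ≤ Nat.card (Subgroup.centralizer ({S.z} : Set G)) := by
  let F : Fin 3 × Perm (Fin 5) → Subgroup.centralizer ({S.z} : Set G) := fun p =>
    ⟨S.z ^ (p.1 : ℕ) * S.Ω p.2, Subgroup.mem_centralizer_singleton_iff.mpr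
      (((Commute.refl S.z).pow_left _).mul_left (S.zΩ p.2).symm).eq⟩
  have hF : Function.Injective F := by
    rintro ⟨i, π⟩ ⟨i', π'⟩ h
    have h1 := congrArg Subtype.val h
    simp only [F, z, Ω_apply, ← map_pow, ← map_mul] at h1
    have h2 := S.inj h1
    simp only [zL, Prod.pow_mk, one_pow, Prod.mk_mul_mk, one_mul, mul_one, Prod.mk.injEq] at h2
    have e : ∀ i i' : Fin 3, cZ ^ (i : ℕ) = cZ ^ (i' : ℕ) → i = i' := by decide
    rw [e i i' h2.1, h2.2]
  refine le_trans (le_of_eq ?_) (Nat.card_le_card_of_injective F hF)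
  simp [Fintype.card_perm, Nat.factorial]

theorem z_not_za (x : G) : x * S.z * x⁻¹ ≠ S.Θ (zL * aL) := by
  intro h
  have h360 := S.card_cent_z
  rw [← centralizer_conj_card x, h] at h360
  let C18 : Finset L := Finset.univ.filter fun p : L => p * (zL * aL) = zL * aL * p
  have hsub : ∀ v : Subgroup.centralizer ({S.Θ (zL * aL)} : Set G), ∃ t : C18 × Bool,
      (v : G) = S.Θ t.1.1 * (if t.2 then S.g else 1) := by
    intro v
    obtain ⟨p, c1, c2, e⟩ := S.cent_za v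
      (show _ = _ from (Subgroup.mem_centralizer_singleton_iff.mp v.2).symm)
    have hp : p ∈ C18 := Finset.mem_filter.mpr ⟨Finset.mem_univ _, (c1.mul_right c2).eq⟩
    rcases e with e | e
    · exact ⟨(⟨p, hp⟩, false), e.trans (mul_one _).symm⟩
    · exact ⟨(⟨p, hp⟩, true), e⟩
  choose F hF using hsub
  have := Nat.card_le_card_of_injective F (fun v v' e => Subtype.ext (by rw [hF v, hF v', e]))
  have hc : C18.card = 18 := card_cent_za
  rw [Nat.card_prod, Nat.card_eq_finsetCard, hc, Nat.card_eq_fintype_card (α := Bool),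
    Fintype.card_bool] at this
  omega

theorem z_not_za_inv (x : G) : x * S.z * x⁻¹ ≠ (S.Θ (zL * aL))⁻¹ := by
  intro h
  refine S.z_not_za (x * S.s) ?_
  rw [show x * S.s * S.z * (x * S.s)⁻¹ = x * (S.s * S.z * S.s⁻¹) * x⁻¹ by group,
    show S.s * S.z * S.s⁻¹ = S.z⁻¹ by
      rw [s, z, ← map_inv, ← map_inv, ← map_mul, ← map_mul]; exact congrArg S.Θ (by decide),
    show x * S.z⁻¹ * x⁻¹ = (x * S.z * x⁻¹)⁻¹ by group, h, inv_inv]

theorem conj_z_line (x : G) (hx : x * S.z * x⁻¹ ∈ S.D) :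
    x * S.z * x⁻¹ = S.z ∨ x * S.z * x⁻¹ = S.z⁻¹ ∨ x * S.z * x⁻¹ = S.a ∨ x * S.z * x⁻¹ = S.a⁻¹ := by
  obtain ⟨i, k, e⟩ := S.mem_D_iff.mp hx
  have hmove : ∀ (v : L), x * S.z * x⁻¹ = S.Θ (oL * v * oL) → (S.o * x) * S.z * (S.o * x)⁻¹ = S.Θ v := by
    intro v hv
    rw [show S.o * x * S.z * (S.o * x)⁻¹ = S.o * (x * S.z * x⁻¹) * S.o⁻¹ by group, hv, o,
      ← map_inv, ← map_mul, ← map_mul]
    refine congrArg S.Θ ?_
    rw [show oL⁻¹ = oL by decide, show oL * (oL * v * oL) * oL = (oL * oL) * v * (oL * oL) by group,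
      show oL * oL = 1 by decide, one_mul, mul_one]
  rcases dL_types i k with h | h | h | h | h | h | h | h | h <;> rw [h] at e
  · rw [map_one, conj_eq_one_iff] at e; exact absurd e S.z_ne
  · exact Or.inl e
  · exact Or.inr (Or.inl (e.trans (map_inv S.Θ _)))
  · exact Or.inr (Or.inr (Or.inl e))
  · exact Or.inr (Or.inr (Or.inr (e.trans (map_inv S.Θ _))))
  · exact absurd e (S.z_not_za x)
  · exact absurd (e.trans (map_inv S.Θ _)) (S.z_not_za_inv x)
  · exact absurd (hmove _ e) (S.z_not_za _)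
  · refine absurd ?_ (S.z_not_za_inv (S.o * x))
    rw [← map_inv]
    refine hmove _ (e.trans (congrArg S.Θ ?_))
    rw [mul_inv_rev, mul_inv_rev, show oL⁻¹ = oL by decide, mul_assoc]

theorem normD_iff {x : G} : x ∈ Subgroup.normalizer (S.D : Set G) ↔
    ∃ p, InM p ∧ (x = S.Θ p ∨ x = S.Θ p * S.g) := by
  constructor
  · intro hx
    have hline : ∀ y : G, y ∈ Subgroup.normalizer (S.D : Set G) →
        y * S.z * y⁻¹ = S.z ∨ y * S.z * y⁻¹ = S.z⁻¹ → ∃ p, InM p ∧ y = S.Θ p := by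
      intro y hy hyz
      obtain ⟨p, rfl⟩ := S.norm y hyz
      refine ⟨p, (InM_iff p).mpr ⟨?_, ?_⟩, rfl⟩
      · rcases hyz with e | e
        · exact ⟨1, S.inj (by rw [map_mul, map_mul, map_inv, dL_axes.1]; exact e)⟩
        · exact ⟨2, S.inj (by rw [map_mul, map_mul, map_inv, dL_axes.2.2.2.1, map_inv]; exact e)⟩
      · obtain ⟨k, l, e⟩ := S.mem_D_iff.mp ((Subgroup.mem_normalizer_iff.mp hy _).mp S.a_mem_D)
        exact ⟨k, l, S.inj (by rw [map_mul, map_mul, map_inv]; exact e)⟩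
    rcases S.conj_z_line x ((Subgroup.mem_normalizer_iff.mp hx _).mp S.z_mem_D) with e | e | e | e
    · obtain ⟨p, hp, h⟩ := hline x hx (Or.inl e); exact ⟨p, hp, Or.inl h⟩
    · obtain ⟨p, hp, h⟩ := hline x hx (Or.inr e); exact ⟨p, hp, Or.inl h⟩
    all_goals
      have hz : S.g * x * S.z * (S.g * x)⁻¹ = S.z ∨ S.g * x * S.z * (S.g * x)⁻¹ = S.z⁻¹ := by
        rw [show S.g * x * S.z * (S.g * x)⁻¹ = S.τ (x * S.z * x⁻¹) by
          rw [S.τ_apply, mul_inv_rev, S.g_inv]; group, e]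
        first
          | exact Or.inl S.τ_a
          | exact Or.inr (by rw [map_inv, S.τ_a])
      obtain ⟨p, hp, h⟩ := hline (S.g * x) (mul_mem S.g_normD hx) hz
      obtain ⟨q, hq, h'⟩ := S.g_mul_Θ hp
      exact ⟨q, hq, Or.inr (by rw [← h', ← h, ← mul_assoc, S.gg, one_mul])⟩
  · rintro ⟨p, hp, rfl | rfl⟩
    · exact S.Θ_normD hp
    · exact mul_mem (S.Θ_normD hp) S.g_normD

theorem card_normD : Nat.card (Subgroup.normalizer (S.D : Set G)) ≤ 144 := by
  classical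
  let M72 : Finset L := Finset.univ.filter fun p : L => InM p
  have hsub : ∀ v : Subgroup.normalizer (S.D : Set G), ∃ t : M72 × Bool,
      (v : G) = S.Θ t.1.1 * (if t.2 then S.g else 1) := by
    intro v
    obtain ⟨p, hp, e⟩ := S.normD_iff.mp v.2
    have hp' : p ∈ M72 := Finset.mem_filter.mpr ⟨Finset.mem_univ _, hp⟩
    rcases e with e | e
    · exact ⟨(⟨p, hp'⟩, false), e.trans (mul_one _).symm⟩
    · exact ⟨(⟨p, hp'⟩, true), e⟩
  choose F hF using hsub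
  refine (Nat.card_le_card_of_injective F (fun v v' e => Subtype.ext (by rw [hF v, hF v', e]))).trans ?_
  rw [Nat.card_prod, Nat.card_eq_finsetCard, show M72.card = 72 from card_InM,
    Nat.card_eq_fintype_card (α := Bool), Fintype.card_bool]

theorem normD_w {x : G} (hx : x ∈ Subgroup.normalizer (S.D : Set G)) : Commute x S.w := by
  have hg : Commute S.g S.w := by
    show _ = _
    nth_rewrite 2 [← S.τ_w]
    rw [S.τ_apply, mul_assoc (S.g * S.w), S.gg, mul_one]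
  obtain ⟨p, hp, rfl | rfl⟩ := S.normD_iff.mp hx
  · exact S.Θ_commute (InM_w p hp)
  · exact (S.Θ_commute (InM_w p hp) : Commute (S.Θ p) S.w).mul_left hg

theorem cent_D {x : G} (hz : Commute x S.z) (ha : Commute x S.a) :
    ∃ d ∈ S.D, x = d ∨ x = d * S.w := by
  obtain ⟨p, hp⟩ := S.norm x (Or.inl (by rw [show x * S.Θ zL = S.Θ zL * x from hz, mul_inv_cancel_right]))
  obtain ⟨i, k, m, rfl⟩ := cent_pair p (S.Θ_commute_iff.mp (by rw [← hp]; exact hz))
    (S.Θ_commute_iff.mp (by rw [← hp]; exact ha))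
  refine ⟨S.Θ (dL i k), S.mem_D_iff.mpr ⟨i, k, rfl⟩, ?_⟩
  rw [hp, map_mul]
  fin_cases m
  · exact Or.inl (by simp)
  · exact Or.inr (by simp [w])

theorem cent_a {x : G} (h : Commute x S.a) :
    ∃ (i : Fin 3) (π : Perm (Fin 5)), x = S.a ^ (i : ℕ) * S.τ (S.Ω π) := by
  have h' : Commute (S.τ x) S.z := by
    rw [← S.τ_a]
    show S.τ x * S.τ S.a = S.τ S.a * S.τ x
    rw [← map_mul, ← map_mul, h.eq]
  obtain ⟨i, π, e⟩ := S.cent_z h'
  exact ⟨i, π, by rw [← S.τ_τ x, e, map_mul, map_pow, S.τ_z]⟩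

include S in
theorem sylow_of_nine {P : Subgroup G} (hP : IsPGroup 3 P) (h : Nat.card P = 9) :
    ∃ Q : Sylow 3 G, (Q : Subgroup G) = P := by
  obtain ⟨Q, hQ⟩ := hP.exists_le_sylow
  exact ⟨Q, (Subgroup.eq_of_le_of_card_ge hQ (by rw [h]; exact S.three _ Q.2)).symm⟩

end Setup

end CfsgLib.SymEightThree
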