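import Mathlib

/-!
# Two commuting involutions of `S₆` inverting the two factors of a group of order nine
-/

set_option autoImplicit false
set_option synthInstance.maxSize 8000
set_option synthInstance.maxHeartbeats 400000
set_option maxHeartbeats 1000000

open Equiv

namespace CfsgLib.SymEightThree

/-- A three-cycle. -/
def pOne : Perm (Fin 6) := swap 0 1 * swap 1 2
/-- A product of two three-cycles. -/
def pTwo : Perm (Fin 6) := swap 0 1 * swap 1 2 * (swap 3 4 * swap 4 5)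

set_option maxRecDepth 8000 in
theorem three_reps : ∀ p : Perm (Fin 6), p ^ 3 = 1 → p ≠ 1 →
    ∃ t : Perm (Fin 6), t * p * t⁻¹ = pOne ∨ t * p * t⁻¹ = pTwo := by decide +kernel

/-- The two models. -/
abbrev IsRep (u v r : Perm (Fin 6)) : Prop :=
  (u = swap 1 2 ∧ v = swap 4 5 ∧ r = swap 0 1 * swap 1 2 * (swap 3 4 * swap 4 5)) ∨
    (u = swap 0 3 * swap 1 5 * swap 2 4 ∧ v = swap 0 3 * swap 1 4 * swap 2 5 ∧ r = swap 0 2 * swap 2 1)

set_option maxRecDepth 8000 in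
theorem four_reduce_one : ∀ q : Perm (Fin 6), q ^ 3 = 1 → q * pOne = pOne * q →
    q ≠ 1 → q ≠ pOne → q ≠ pOne⁻¹ →
    ∀ u : Perm (Fin 6), u * u = 1 → u * pOne * u⁻¹ = pOne⁻¹ → u * q = q * u →
    ∀ v : Perm (Fin 6), v * v = 1 → v * pOne = pOne * v → v * q * v⁻¹ = q⁻¹ → u * v = v * u →
    ∃ t : Perm (Fin 6), IsRep (t * u * t⁻¹) (t * v * t⁻¹) (t * (pOne * q) * t⁻¹) := by decide +kernel

set_option maxRecDepth 8000 in
theorem four_reduce_two : ∀ q : Perm (Fin 6), q ^ 3 = 1 → q * pTwo = pTwo * q →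
    q ≠ 1 → q ≠ pTwo → q ≠ pTwo⁻¹ →
    ∀ u : Perm (Fin 6), u * u = 1 → u * pTwo * u⁻¹ = pTwo⁻¹ → u * q = q * u →
    ∀ v : Perm (Fin 6), v * v = 1 → v * pTwo = pTwo * v → v * q * v⁻¹ = q⁻¹ → u * v = v * u →
    ∃ t : Perm (Fin 6), IsRep (t * u * t⁻¹) (t * v * t⁻¹) (t * (pTwo * q) * t⁻¹) := by decide +kernel

/-- The witnesses attached to the four group. -/
abbrev FourData (u v r x k₁ k₂ k₃ : Perm (Fin 6)) : Prop :=
  x * x = 1 ∧ x * u = u * x ∧ x * v = v * x ∧ (x ≠ 1 ∧ x ≠ u ∧ x ≠ v ∧ x ≠ u * v) ∧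
  (∀ c : Perm (Fin 6), c * u = u * c → c * v = v * c →
    ∃ i j l : Fin 2, c = u ^ (i : ℕ) * v ^ (j : ℕ) * x ^ (l : ℕ)) ∧
  (k₁ * u * k₁⁻¹ = u ∧ k₁ * v * k₁⁻¹ = x) ∧ (k₂ * v * k₂⁻¹ = v ∧ k₂ * u * k₂⁻¹ = x) ∧
  k₃ * r * k₃⁻¹ * (u * v * x) = u * v * x * (k₃ * r * k₃⁻¹)

set_option maxRecDepth 8000 in
theorem rep_one : FourData (swap 1 2) (swap 4 5) (swap 0 1 * swap 1 2 * (swap 3 4 * swap 4 5))
    (swap 0 3) (swap 0 4 * swap 3 5) (swap 0 1 * swap 2 3) (swap 2 4 * swap 4 5 * swap 5 3) := by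
  decide +kernel

set_option maxRecDepth 8000 in
theorem rep_two : FourData (swap 0 3 * swap 1 5 * swap 2 4) (swap 0 3 * swap 1 4 * swap 2 5)
    (swap 0 2 * swap 2 1)
    (swap 0 3 * swap 1 2 * swap 4 5) (swap 2 4) (swap 2 5) (swap 0 1 * swap 1 2 * swap 2 4 * swap 4 3) := by
  decide +kernel

/-- The model with witnesses. -/
theorem exists_four_model {R : Type*} [Group R] (e : R ≃* Perm (Fin 6)) {p q u v : R}
    (hp : p ^ 3 = 1) (hp1 : p ≠ 1) (hq : q ^ 3 = 1) (hq1 : q ≠ 1) (hqp : q ≠ p) (hqp' : q ≠ p⁻¹)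
    (hpq : q * p = p * q) (hu : u * u = 1) (hup : u * p * u⁻¹ = p⁻¹) (huq : u * q = q * u)
    (hv : v * v = 1) (hvp : v * p = p * v) (hvq : v * q * v⁻¹ = q⁻¹) (huv : u * v = v * u) :
    ∃ η : R ≃* Perm (Fin 6), ∃ x k₁ k₂ k₃ : Perm (Fin 6),
      FourData (η u) (η v) (η (p * q)) x k₁ k₂ k₃ := by
  obtain ⟨t₀, ht₀⟩ := three_reps (e p) (by rw [← map_pow, hp, map_one])
    ((map_ne_one_iff e e.injective).mpr hp1)
  set e' : R ≃* Perm (Fin 6) := e.trans (MulAut.conj t₀) with he'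
  have hep : e' p = t₀ * e p * t₀⁻¹ := rfl
  have key : ∀ P : Perm (Fin 6), e' p = P →
      (∀ q : Perm (Fin 6), q ^ 3 = 1 → q * P = P * q → q ≠ 1 → q ≠ P → q ≠ P⁻¹ →
      ∀ u : Perm (Fin 6), u * u = 1 → u * P * u⁻¹ = P⁻¹ → u * q = q * u →
      ∀ v : Perm (Fin 6), v * v = 1 → v * P = P * v → v * q * v⁻¹ = q⁻¹ → u * v = v * u →
      ∃ t : Perm (Fin 6), IsRep (t * u * t⁻¹) (t * v * t⁻¹) (t * (P * q) * t⁻¹)) →
      ∃ η : R ≃* Perm (Fin 6), IsRep (η u) (η v) (η (p * q)) := by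
    rintro P rfl h
    obtain ⟨t, ht⟩ := h (e' q) (by rw [← map_pow, hq, map_one]) (by rw [← map_mul, ← map_mul, hpq])
      ((map_ne_one_iff e' e'.injective).mpr hq1) (e'.injective.ne hqp)
      (by rw [← map_inv]; exact e'.injective.ne hqp')
      (e' u) (by rw [← map_mul, hu, map_one]) (by rw [← map_inv, ← map_inv, ← map_mul, ← map_mul, hup])
      (by rw [← map_mul, ← map_mul, huq]) (e' v) (by rw [← map_mul, hv, map_one])
      (by rw [← map_mul, ← map_mul, hvp]) (by rw [← map_inv, ← map_inv, ← map_mul, ← map_mul, hvq])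
      (by rw [← map_mul, ← map_mul, huv])
    refine ⟨e'.trans (MulAut.conj t), ?_⟩
    rw [← map_mul] at ht
    exact ht
  obtain ⟨η, hη⟩ : ∃ η : R ≃* Perm (Fin 6), IsRep (η u) (η v) (η (p * q)) := by
    rcases ht₀ with h | h
    · exact key _ (hep.trans h) four_reduce_one
    · exact key _ (hep.trans h) four_reduce_two
  refine ⟨η, ?_⟩
  rcases hη with ⟨h1, h2, h3⟩ | ⟨h1, h2, h3⟩ <;> rw [h1, h2, h3]
  · exact ⟨_, _, _, _, rep_one⟩
  · exact ⟨_, _, _, _, rep_two⟩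

end CfsgLib.SymEightThree
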