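import Cfsg.Agent.Lib.SymEightThree.CentW
import Cfsg.Agent.Lib.SymEightThree.ProdSix

/-!
# The product case: the centralizer of `w` normalizes `D`
-/

set_option autoImplicit false

open Equiv

namespace CfsgLib.SymEightThree

/-- The element exchanging `w` and `o`. -/
def ρL : L := (1, swap 0 3 * swap 1 4)

theorem cube_L : ∀ p : L, Commute p zL → Commute p aL → p ^ 3 = 1 → ∃ i k : Fin 3, p = dL i k := by
  decide +kernel

theorem cube_pi0 : ∀ π : Perm (Fin 5), π ^ 3 = 1 →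
    π * (swap 0 1 * swap 3 4) = swap 0 1 * swap 3 4 * π → π = 1 := by decide +kernel

namespace Setup

variable {G : Type*} [Group G] [Finite G] (S : Setup G)

/-- `x` is conjugate to `z * a`. -/
def IsT (x : G) : Prop := IsConj (S.Θ (zL * aL)) x

variable (h0 : S.π0 = swap 0 1 * swap 3 4)

include h0

theorem π0_ow : S.Ω S.π0 = S.o * S.w := by rw [h0, map_mul]; rfl

theorem τ_s' : S.τ S.s = S.o * S.w := by rw [S.τ_s, S.π0_ow h0]

theorem τ_ow : S.τ (S.o * S.w) = S.s := by rw [← S.π0_ow h0, S.τ_π0]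

theorem τ_o' : S.τ S.o = S.s * S.w := by
  have h := S.τ_ow h0
  rw [map_mul, S.τ_w] at h
  rw [← h, mul_assoc, S.ww, mul_one]

omit h0

theorem ρ_conj : S.Θ ρL * S.w * (S.Θ ρL)⁻¹ = S.o ∧ S.Θ ρL * S.o * (S.Θ ρL)⁻¹ = S.w ∧
    S.Θ ρL * S.s * (S.Θ ρL)⁻¹ = S.s := by
  simp only [w, o, s, ← map_inv, ← map_mul]
  exact ⟨congrArg S.Θ (by decide), congrArg S.Θ (by decide), congrArg S.Θ (by decide)⟩

theorem o_isW : IsConj S.w S.o := isConj_iff.mpr ⟨_, S.ρ_conj.1⟩

include h0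

theorem V_three {x r : G} (hx : IsConj S.s x) (hr : Commute x r) : ¬ S.IsT r := by
  intro hT
  haveI : Fact (Nat.Prime 3) := ⟨Nat.prime_three⟩
  obtain ⟨k, hk⟩ := isConj_iff.mp hx
  set r' := k⁻¹ * r * k with hr'
  have hT' : S.IsT r' := hT.trans (isConj_iff.mpr ⟨k⁻¹, by rw [inv_inv, hr']⟩)
  have hsr : Commute S.s r' := by
    show _ = _
    rw [show S.s = k⁻¹ * x * k by rw [← hk]; group, hr']
    calc k⁻¹ * x * k * (k⁻¹ * r * k) = k⁻¹ * (x * r) * k := by group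
      _ = _ := by rw [hr.eq]; group
  obtain ⟨j, hj⟩ := isConj_iff.mp hT'
  have hr3 : r' ^ 3 = 1 := by
    rw [← hj, conj_pow, ← map_pow, show (zL * aL) ^ 3 = 1 by decide, map_one, mul_one, mul_inv_cancel]
  have hta : Commute S.s S.a := S.sΩ cA
  set C := Subgroup.centralizer ({S.s} : Set G) with hC
  have haC : S.a ∈ C := Subgroup.mem_centralizer_singleton_iff.mpr hta.eq.symm
  have hrC : r' ∈ C := Subgroup.mem_centralizer_singleton_iff.mpr hsr.eq.symm
  have hp : ∀ (t : C), t ^ 3 = 1 → IsPGroup 3 (Subgroup.zpowers t) := fun t ht y => ⟨1, by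
    obtain ⟨i, hi⟩ := Subgroup.mem_zpowers_iff.mp y.2
    refine Subtype.ext ?_
    rw [pow_one, SubgroupClass.coe_pow, OneMemClass.coe_one, ← hi, ← zpow_natCast, ← zpow_mul, mul_comm,
      zpow_mul, zpow_natCast, ht, one_zpow]⟩
  obtain ⟨P, hP⟩ := (hp ⟨S.a, haC⟩ (Subtype.ext (by simpa using S.ha3))).exists_le_sylow
  obtain ⟨R, hR⟩ := (hp ⟨r', hrC⟩ (Subtype.ext (by simpa using hr3))).exists_le_sylow
  have hPa : ∀ d ∈ (P : Subgroup C), (d : G) = 1 ∨ (d : G) = S.a ∨ (d : G) = S.a⁻¹ := by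
    intro d hd
    have h9 := S.three _ (P.2.map C.subtype)
    rw [Subgroup.card_map_of_injective C.subtype_injective] at h9
    obtain ⟨n, hn⟩ := IsPGroup.iff_card.mp P.2
    have hn2 : n ≤ 2 := by
      by_contra hc
      have := Nat.pow_le_pow_right (show 0 < 3 by norm_num) (show 3 ≤ n by omega)
      omega
    have hcomm : ∀ a b : (P : Subgroup C), a * b = b * a := by
      intro a b
      interval_cases n
      · haveI := (Nat.card_eq_one_iff_unique.mp (by rw [hn]; norm_num)).1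
        exact Subsingleton.elim _ _
      · haveI := isCyclic_of_prime_card (α := (P : Subgroup C)) (p := 3) (by rw [hn]; norm_num)
        exact IsCyclic.commGroup.mul_comm a b
      · exact (IsPGroup.commGroupOfCardEqPrimeSq (p := 3) (G := (P : Subgroup C)) hn).mul_comm a b
    have hda : Commute (d : G) S.a :=
      congrArg (fun t : (P : Subgroup C) => ((t : C) : G)) (hcomm ⟨d, hd⟩ ⟨_, hP (Subgroup.mem_zpowers _)⟩)
    obtain ⟨i, π, e⟩ := S.cent_a hda
    have hd3 : (d : G) ^ 3 = 1 := by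
      have hdvd : orderOf (⟨d, hd⟩ : (P : Subgroup C)) ∣ 3 ^ n := hn ▸ orderOf_dvd_natCard _
      obtain ⟨m, hm, e3⟩ := (Nat.dvd_prime_pow Nat.prime_three).mp hdvd
      rcases (show m = 0 ∨ m = 1 ∨ m = 2 by omega) with rfl | rfl | rfl
      · have := orderOf_eq_one_iff.mp e3
        rw [show d = 1 from congrArg Subtype.val this]; simp
      · have := congrArg (fun t : (P : Subgroup C) => ((t : C) : G)) (e3 ▸ pow_orderOf_eq_one (⟨d, hd⟩ : (P : Subgroup C)))
        simpa using this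
      · exfalso
        have hn9 : n = 2 := by omega
        subst hn9
        obtain ⟨Q, hQ⟩ := S.sylow_of_nine (P.2.map C.subtype)
          (by rw [Subgroup.card_map_of_injective C.subtype_injective, hn]; norm_num)
        obtain ⟨R, hR⟩ := S.sylow_of_nine S.D_isPGroup S.card_D
        obtain ⟨l, hl⟩ := MulAction.exists_smul_eq G R Q
        have hdQ : (d : G) ∈ (Q : Subgroup G) := by rw [hQ]; exact ⟨d, hd, rfl⟩
        rw [← hl, Sylow.coe_subgroup_smul, hR] at hdQ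
        obtain ⟨v, hv, e⟩ := hdQ
        have hd' : (⟨d, hd⟩ : (P : Subgroup C)) ^ 3 = 1 := Subtype.ext (Subtype.ext (by
          show (d : G) ^ 3 = 1
          rw [← e]
          show (l * v * l⁻¹) ^ 3 = 1
          rw [conj_pow, S.D_cube hv, mul_one, mul_inv_cancel]))
        have := Nat.le_of_dvd (by norm_num) (orderOf_dvd_of_pow_eq_one hd')
        rw [e3] at this
        norm_num at this
    have hπ3 : π ^ 3 = 1 := by
      have hc : Commute (S.a ^ (i : ℕ)) (S.τ (S.Ω π)) := by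
        have := ((S.zΩ π).pow_left (i : ℕ)).map S.τ.toMonoidHom
        simpa [S.τ_z] using this
      rw [e, hc.mul_pow, ← pow_mul, mul_comm (i : ℕ), pow_mul, S.ha3, one_pow, one_mul, ← map_pow,
        ← map_pow, ← map_one S.τ] at hd3
      exact S.Ω_inj ((S.τ.injective hd3).trans (map_one _).symm)
    have hπc : π * (swap 0 1 * swap 3 4) = swap 0 1 * swap 3 4 * π := by
      have hds : Commute (d : G) S.s := Subgroup.mem_centralizer_singleton_iff.mp (d : C).2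
      have h1 : Commute (S.τ (S.Ω π)) S.s := by
        have e' : S.τ (S.Ω π) = (S.a ^ (i : ℕ))⁻¹ * (d : G) := by rw [e, inv_mul_cancel_left]
        rw [e']
        exact (hta.symm.pow_left _).inv_left.mul_left hds
      rw [← S.τ_π0] at h1
      refine S.Ω_inj (S.τ.injective ?_)
      rw [← h0, map_mul, map_mul, map_mul, map_mul]
      exact h1.eq
    rw [cube_pi0 π hπ3 hπc, map_one, map_one, mul_one] at e
    rcases (show ∀ i : Fin 3, i = 0 ∨ i = 1 ∨ i = 2 by decide) i with rfl | rfl | rfl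
    · exact Or.inl (e.trans (pow_zero _))
    · exact Or.inr (Or.inl (e.trans (pow_one _)))
    · refine Or.inr (Or.inr (e.trans (eq_inv_of_mul_eq_one_left ?_)))
      show S.a ^ 2 * S.a = 1
      rw [← pow_succ, S.ha3]
  obtain ⟨c, hc⟩ := MulAction.exists_smul_eq C R P
  have hcr : c * ⟨r', hrC⟩ * c⁻¹ ∈ (P : Subgroup C) := by
    rw [← hc, Sylow.coe_subgroup_smul]
    exact ⟨⟨r', hrC⟩, hR (Subgroup.mem_zpowers _), rfl⟩
  obtain ⟨c', hc'⟩ : ∃ c' : G, c' * r' * c'⁻¹ = 1 ∨ c' * r' * c'⁻¹ = S.a ∨ c' * r' * c'⁻¹ = S.a⁻¹ :=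
    ⟨c, by have := hPa _ hcr; simpa using this⟩
  have hza : ∀ t, IsConj r' t → IsConj (S.Θ (zL * aL)) t := fun t ht => hT'.trans ht
  rcases hc' with e | e | e
  · have h1 : r' = 1 := conj_eq_one_iff.mp e
    rw [h1, conj_eq_one_iff] at hj
    exact absurd (S.inj (hj.trans (map_one _).symm)) (by decide)
  · obtain ⟨t, ht⟩ := isConj_iff.mp ((hza _ (isConj_iff.mpr ⟨c', e⟩)).trans
      (isConj_iff.mpr ⟨S.g, show S.g * S.a * S.g⁻¹ = S.z from S.τ_a⟩))
    refine S.z_not_za t⁻¹ ?_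
    rw [← ht]; group
  · obtain ⟨t, ht⟩ := isConj_iff.mp ((hza _ (isConj_iff.mpr ⟨c', e⟩)).trans
      (isConj_iff.mpr ⟨S.g, show S.g * S.a⁻¹ * S.g⁻¹ = S.z⁻¹ by
        show S.τ S.a⁻¹ = _
        rw [map_inv, S.τ_a]⟩))
    refine S.z_not_za_inv t⁻¹ ?_
    rw [show S.z = (S.z⁻¹)⁻¹ from (inv_inv _).symm, ← ht]; group

theorem not_V_of_W {x : G} (hx : IsConj S.w x) : ¬ IsConj S.s x := fun h =>
  S.V_three h0 (h.trans hx.symm) (r := S.Θ (zL * aL)) (S.Θ_commute (by decide)) (IsConj.refl _)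

omit h0

theorem W_za {x : G} (hx : IsConj S.w x) (hc : Commute x (S.Θ (zL * aL))) : x = S.w := by
  haveI : Fact (Nat.Prime 3) := ⟨Nat.prime_three⟩
  obtain ⟨k, hk⟩ := isConj_iff.mp hx
  set C := Subgroup.centralizer ({x} : Set G) with hC
  set t := S.Θ (zL * aL) with ht
  have htC : t ∈ C := Subgroup.mem_centralizer_singleton_iff.mpr hc.eq.symm
  have ht3 : t ^ 3 = 1 := by rw [ht, ← map_pow, show (zL * aL) ^ 3 = 1 by decide, map_one]
  have hp : IsPGroup 3 (Subgroup.zpowers (⟨t, htC⟩ : C)) := fun y => ⟨1, by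
    obtain ⟨i, hi⟩ := Subgroup.mem_zpowers_iff.mp y.2
    refine Subtype.ext ?_
    rw [pow_one, SubgroupClass.coe_pow, OneMemClass.coe_one, ← hi, ← zpow_natCast, ← zpow_mul, mul_comm,
      zpow_mul, zpow_natCast, show (⟨t, htC⟩ : C) ^ 3 = 1 from Subtype.ext (by simpa using ht3), one_zpow]⟩
  have hDC : S.D.map (MulAut.conj k).toMonoidHom ≤ C := by
    rintro _ ⟨d, hd, rfl⟩
    refine Subgroup.mem_centralizer_singleton_iff.mpr ?_
    have hdw : d * S.w = S.w * d := S.mem_Cw.mp (S.D_le_Cw hd)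
    show k * d * k⁻¹ * x = x * (k * d * k⁻¹)
    rw [← hk]
    calc k * d * k⁻¹ * (k * S.w * k⁻¹) = k * (d * S.w) * k⁻¹ := by group
      _ = _ := by rw [hdw]; group
  set D' := (S.D.map (MulAut.conj k).toMonoidHom).subgroupOf C with hD'
  have hD'p : IsPGroup 3 D' := (S.D_isPGroup.map _).comap_of_injective C.subtype C.subtype_injective
  obtain ⟨Q, hQ⟩ := hD'p.exists_le_sylow
  obtain ⟨P, hP⟩ := hp.exists_le_sylow
  have hP9 : Nat.card (P : Subgroup C) = 9 := by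
    refine le_antisymm ?_ ?_
    · have := S.three _ (P.2.map C.subtype)
      rwa [Subgroup.card_map_of_injective C.subtype_injective] at this
    · rw [Nat.card_congr (P.equiv Q).toEquiv]
      refine le_trans (le_of_eq ?_) (Subgroup.card_le_of_le hQ)
      rw [hD', Nat.card_congr (Subgroup.subgroupOfEquivOfLe hDC).toEquiv,
        Subgroup.card_map_of_injective (MulAut.conj k).injective, S.card_D]
  set P' := (P : Subgroup C).map C.subtype with hP'
  have hP'9 : Nat.card P' = 9 := by rw [hP', Subgroup.card_map_of_injective C.subtype_injective, hP9]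
  obtain ⟨Q', hQ'⟩ := S.sylow_of_nine (P.2.map C.subtype) hP'9
  obtain ⟨R, hR⟩ := S.sylow_of_nine S.D_isPGroup S.card_D
  obtain ⟨l, hl⟩ := MulAction.exists_smul_eq G R Q'
  have htP : t ∈ P' := ⟨⟨t, htC⟩, hP (Subgroup.mem_zpowers _), rfl⟩
  have hsub : P' = S.D.map (MulAut.conj l).toMonoidHom := by
    rw [hP', ← hQ', ← hl, Sylow.coe_subgroup_smul, hR]
    rfl
  have hPD : P' = S.D := by
    refine Subgroup.eq_of_le_of_card_ge (fun d hd => ?_) (by rw [hP'9, S.card_D])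
    obtain ⟨v, hv, rfl⟩ := hsub ▸ hd
    obtain ⟨v', hv', e⟩ := hsub ▸ htP
    have hct : Commute (l * v * l⁻¹) t := by
      show _ = _
      rw [← e]
      show l * v * l⁻¹ * (l * v' * l⁻¹) = l * v' * l⁻¹ * (l * v * l⁻¹)
      calc l * v * l⁻¹ * (l * v' * l⁻¹) = l * (v * v') * l⁻¹ := by group
        _ = _ := by rw [(S.D_comm hv hv').eq]; group
    have hd3 : (l * v * l⁻¹) ^ 3 = 1 := by
      rw [conj_pow, S.D_cube hv, mul_one, mul_inv_cancel]
    obtain ⟨p, c1, c2, e'⟩ := S.cent_za _ hct.symm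
    obtain ⟨p', c1', c2', e''⟩ : ∃ p' : L, Commute p' zL ∧ Commute p' aL ∧ l * v * l⁻¹ = S.Θ p' := by
      rcases e' with e' | e'
      · exact ⟨p, c1, c2, e'⟩
      · obtain ⟨q, -, hq⟩ := S.g_mul_Θ (inM_of_cent_pair p c1 c2)
        have h2 : (l * v * l⁻¹) * (l * v * l⁻¹) = S.Θ (p * q) := by
          rw [e', mul_assoc (S.Θ p), ← mul_assoc S.g, hq, mul_assoc (S.Θ q), S.gg, mul_one, map_mul]
        have h4 : l * v * l⁻¹ = S.Θ (p * q * (p * q)) := by
          rw [map_mul, ← h2]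
          conv_lhs => rw [← mul_one (l * v * l⁻¹), ← hd3]
          simp only [pow_succ, pow_zero, one_mul, mul_assoc]
        have c3 : Commute (S.Θ (p * q * (p * q))) t := h4 ▸ hct
        obtain ⟨d1, d2⟩ := cent_za_L _ (S.Θ_commute_iff.mp c3.symm)
        exact ⟨_, d1, d2, h4⟩
    rw [e'', ← map_pow] at hd3
    obtain ⟨i, j, hij⟩ := cube_L p' c1' c2' (S.inj (hd3.trans (map_one _).symm))
    exact S.mem_D_iff.mpr ⟨i, j, by rw [← hij]; exact e''⟩
  have hxz : ∀ d ∈ S.D, Commute x d := fun d hd => by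
    rw [← hPD] at hd
    obtain ⟨v, -, rfl⟩ := hd
    exact (Subgroup.mem_centralizer_singleton_iff.mp v.2).symm
  obtain ⟨d, hd, e⟩ := S.cent_D (hxz _ S.z_mem_D) (hxz _ S.a_mem_D)
  have hx2 : x * x = 1 := by
    rw [← hk, show k * S.w * k⁻¹ * (k * S.w * k⁻¹) = k * (S.w * S.w) * k⁻¹ by group, S.ww, mul_one,
      mul_inv_cancel]
  have hdd : d * d = 1 := by
    rcases e with e | e
    · rw [← e]; exact hx2
    · rw [e] at hx2
      have hc' : Commute d S.w := S.mem_Cw.mp (S.D_le_Cw hd)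
      rwa [mul_assoc, ← mul_assoc S.w, ← hc'.eq, mul_assoc d S.w S.w, S.ww, mul_one] at hx2
  have hd1 : d = 1 := by
    have h3 := S.D_cube hd
    rwa [pow_succ, pow_two, hdd, one_mul] at h3
  subst hd1
  rcases e with e | e
  · rw [e] at hk
    exact absurd (conj_eq_one_iff.mp hk) S.w_ne
  · exact e.trans (one_mul _)

include h0

/-- In the product case the centralizer of `w` normalizes `D`. -/
theorem cent_w_le_normD {y : G} (hy : Commute y S.w) : y ∈ Subgroup.normalizer (S.D : Set G) := by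
  refine (S.cent_w_cases.resolve_right fun hB => ?_) y hy
  obtain ⟨⟨e⟩, -⟩ := hB
  have hmem : ∀ p, InM p → S.Θ p ∈ S.Cw := fun p hp => S.mem_Cw.mpr (S.normD_w (S.Θ_normD hp))
  have hπ0M : InM ((1, S.π0) : L) := by rw [h0]; decide
  set zC : S.Cw := ⟨S.z, hmem zL (by decide)⟩ with hzC
  set aC : S.Cw := ⟨S.a, hmem aL (by decide)⟩ with haC
  set sC : S.Cw := ⟨S.s, hmem sL (by decide)⟩ with hsC
  set vC : S.Cw := ⟨S.Ω S.π0, hmem _ hπ0M⟩ with hvC
  have hne : ∀ (p : L) (h : InM p), p ≠ 1 → p ≠ wL → S.q ⟨S.Θ p, hmem p h⟩ ≠ 1 := fun p h h1 h2 e => by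
    rcases S.q_eq_one.mp e with e | e
    · exact h1 (S.inj (e.trans (map_one _).symm))
    · exact h2 (S.inj e)
  have heqL : ∀ {x y : S.Cw} (p r : L), (x : G) = S.Θ p → (y : G) = S.Θ r → p = r → S.q x = S.q y :=
    fun p r hx hy h => congrArg S.q (Subtype.ext (by rw [hx, hy, h]))
  have hvL : (vC : G) = S.Θ (1, swap 0 1 * swap 3 4) := by
    show S.Ω S.π0 = _
    rw [h0]; rfl
  have hneqL : ∀ {x y : S.Cw} (p r : L), (x : G) = S.Θ p → (y : G) = S.Θ r → p ≠ r → p ≠ r * wL →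
      S.q x ≠ S.q y := by
    intro x y p r hx hy h1 h2 e
    rcases S.q_eq.mp e with e | e <;> rw [hx, hy] at e
    · exact h1 (S.inj e)
    · exact h2 (S.inj (e.trans (map_mul S.Θ r wL).symm))
  obtain ⟨η, x6, a1, a2, a3, hx2, hxu, hxv, ⟨hx_1, hx_u, hx_v, hx_uv⟩, hcent, ⟨h1u, h1v⟩, ⟨h2v, h2u⟩, h3⟩ :=
    exists_four_model e (p := S.q zC) (q := S.q aC) (u := S.q sC) (v := S.q vC)
      (by rw [← map_pow]; exact S.q_eq_one.mpr (Or.inl (by simpa [hzC] using S.hz)))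
      (hne zL (by decide) (by decide) (by decide))
      (by rw [← map_pow]; exact S.q_eq_one.mpr (Or.inl (by simpa [haC] using S.ha3)))
      (hne aL (by decide) (by decide) (by decide))
      (hneqL aL zL rfl rfl (by decide) (by decide))
      (by rw [← map_inv]; exact hneqL aL zL⁻¹ rfl (map_inv S.Θ zL).symm (by decide) (by decide))
      (by rw [← map_mul, ← map_mul]; exact heqL (aL * zL) (zL * aL) (map_mul S.Θ _ _).symm (map_mul S.Θ _ _).symm (by decide))
      (by rw [← map_mul]; exact S.q_eq_one.mpr (Or.inl S.ss))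
      (by
        rw [← map_inv, ← map_inv, ← map_mul, ← map_mul]
        exact heqL (sL * zL * sL⁻¹) zL⁻¹ (by simp only [map_mul, map_inv]; rfl) (map_inv S.Θ zL).symm (by decide))
      (by rw [← map_mul, ← map_mul]; exact heqL (sL * aL) (aL * sL) (map_mul S.Θ _ _).symm (map_mul S.Θ _ _).symm (by decide))
      (by
        rw [← map_mul]
        refine S.q_eq_one.mpr (Or.inl ?_)
        show (vC : G) * vC = 1
        rw [hvL, ← map_mul, ← map_one S.Θ]; exact congrArg S.Θ (by decide))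
      (by
        rw [← map_mul, ← map_mul]
        exact heqL (((1, swap 0 1 * swap 3 4) : L) * zL) (zL * (1, swap 0 1 * swap 3 4))
          (by rw [Subgroup.coe_mul, hvL, map_mul]; rfl) (by rw [Subgroup.coe_mul, hvL, map_mul]; rfl) (by decide))
      (by
        rw [← map_inv, ← map_inv, ← map_mul, ← map_mul]
        exact heqL (((1, swap 0 1 * swap 3 4) : L) * aL * ((1, swap 0 1 * swap 3 4) : L)⁻¹) aL⁻¹
          (by simp only [Subgroup.coe_mul, Subgroup.coe_inv, hvL, map_mul, map_inv]; rfl)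
          (map_inv S.Θ aL).symm (by decide))
      (by
        rw [← map_mul, ← map_mul]
        exact heqL (sL * (1, swap 0 1 * swap 3 4)) (((1, swap 0 1 * swap 3 4) : L) * sL)
          (by rw [Subgroup.coe_mul, hvL, map_mul]; rfl) (by rw [Subgroup.coe_mul, hvL, map_mul]; rfl) (by decide))
  -- lifts
  obtain ⟨k₁, hk₁⟩ := S.q_surj (η.symm a1)
  obtain ⟨k₂, hk₂⟩ := S.q_surj (η.symm a2)
  obtain ⟨k₃, hk₃⟩ := S.q_surj (η.symm a3)
  have hη : ∀ (k : S.Cw) (b : Perm (Fin 6)) (c d : S.Cw), S.q k = η.symm b →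
      b * η (S.q c) * b⁻¹ = η (S.q d) →
      (k : G) * c * (k : G)⁻¹ = d ∨ (k : G) * c * (k : G)⁻¹ = d * S.w := by
    intro k b c d hk h
    have h' : S.q (k * c * k⁻¹) = S.q d := by
      apply η.injective
      rw [map_mul, map_mul, map_inv, map_mul, map_mul, map_inv, hk, η.apply_symm_apply, h]
    simpa using S.q_eq.mp h'
  have hcw : ∀ (k : S.Cw), (k : G) * S.w * (k : G)⁻¹ = S.w := fun k => by
    rw [(S.mem_Cw.mp k.2).eq, mul_inv_cancel_right]
  have hv' : S.Ω S.π0 = S.o * S.w := S.π0_ow h0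
  have hswW : IsConj S.w (S.s * S.w) := by
    rw [← S.τ_o' h0]
    exact S.o_isW.trans (isConj_iff.mpr ⟨S.g, rfl⟩)
  have hvV : IsConj S.s (S.Ω S.π0) := isConj_iff.mpr ⟨S.g, S.τ_s⟩
  have hk₁s : (k₁ : G) * S.s * (k₁ : G)⁻¹ = S.s :=
    (hη k₁ a1 sC sC hk₁ h1u).resolve_right fun e' =>
      S.not_V_of_W h0 hswW (isConj_iff.mpr ⟨k₁, e'⟩)
  set xC : S.Cw := k₁ * vC * k₁⁻¹ with hxC
  set x : G := (xC : G) with hx
  have hxdef : x = (k₁ : G) * S.Ω S.π0 * (k₁ : G)⁻¹ := rfl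
  have hxq : η (S.q xC) = x6 := by
    rw [hxC, map_mul, map_mul, map_inv, map_mul, map_mul, map_inv, hk₁, η.apply_symm_apply, h1v]
  have hxV : IsConj S.s x := hvV.trans (isConj_iff.mpr ⟨k₁, rfl⟩)
  have hxwW : IsConj S.w (x * S.w) := by
    refine S.o_isW.trans (isConj_iff.mpr ⟨k₁, ?_⟩)
    calc (k₁ : G) * S.o * (k₁ : G)⁻¹ = (k₁ : G) * (S.o * S.w * S.w) * (k₁ : G)⁻¹ := by
          rw [mul_assoc S.o, S.ww, mul_one]
      _ = (k₁ : G) * (S.o * S.w) * (k₁ : G)⁻¹ * ((k₁ : G) * S.w * (k₁ : G)⁻¹) := by group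
      _ = x * S.w := by rw [hcw, hxdef, hv']
  have hxw : Commute x S.w := S.mem_Cw.mp xC.2
  have hvw : Commute (S.Ω S.π0) S.w := S.mem_Cw.mp vC.2
  have hsw : Commute S.s S.w := S.sΩ (swap 3 4)
  have hxs : Commute x S.s := by
    have h' : S.q (xC * sC * xC⁻¹) = S.q sC := by
      apply η.injective
      rw [map_mul, map_mul, map_inv, map_mul, map_mul, map_inv, hxq, hxu, mul_inv_cancel_right]
    refine mul_inv_eq_iff_eq_mul.mp ((S.q_eq.mp h').resolve_right fun e' => ?_)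
    exact S.not_V_of_W h0 hswW (isConj_iff.mpr ⟨x, e'⟩)
  have howW : IsConj S.w (S.Ω S.π0 * S.w) := by
    rw [hv', mul_assoc, S.ww, mul_one]; exact S.o_isW
  have hxv' : Commute x (S.Ω S.π0) := by
    have h' : S.q (xC * vC * xC⁻¹) = S.q vC := by
      apply η.injective
      rw [map_mul, map_mul, map_inv, map_mul, map_mul, map_inv, hxq, hxv, mul_inv_cancel_right]
    refine mul_inv_eq_iff_eq_mul.mp ((S.q_eq.mp h').resolve_right fun e' => ?_)
    exact S.not_V_of_W h0 howW (hvV.trans (isConj_iff.mpr ⟨x, e'⟩))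
  have hk₂v : (k₂ : G) * S.Ω S.π0 * (k₂ : G)⁻¹ = S.Ω S.π0 :=
    (hη k₂ a2 vC vC hk₂ h2v).resolve_right fun e' =>
      S.not_V_of_W h0 howW (hvV.trans (isConj_iff.mpr ⟨k₂, e'⟩))
  have hk₂s : (k₂ : G) * S.s * (k₂ : G)⁻¹ = x :=
    (hη k₂ a2 sC xC hk₂ (by rw [h2u, hxq])).resolve_right fun e' =>
      S.not_V_of_W h0 hxwW (isConj_iff.mpr ⟨k₂, e'⟩)
  set v := S.Ω S.π0 with hv
  have hD12 : (k₁ : G) * (S.s * v) * (k₁ : G)⁻¹ = S.s * x := by
    rw [show (k₁ : G) * (S.s * v) * (k₁ : G)⁻¹ =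
      (k₁ : G) * S.s * (k₁ : G)⁻¹ * ((k₁ : G) * v * (k₁ : G)⁻¹) by group, hk₁s, hxdef]
  have hD13 : (k₂ : G) * (S.s * v) * (k₂ : G)⁻¹ = x * v := by
    rw [show (k₂ : G) * (S.s * v) * (k₂ : G)⁻¹ =
      (k₂ : G) * S.s * (k₂ : G)⁻¹ * ((k₂ : G) * v * (k₂ : G)⁻¹) by group, hk₂s, hk₂v]
  set H := S.g * S.Θ ρL with hH
  have hHc : ∀ y : G, H * y * H⁻¹ = S.τ (S.Θ ρL * y * (S.Θ ρL)⁻¹) := fun y => by
    rw [hH, S.τ_apply, mul_inv_rev, S.g_inv]; group
  obtain ⟨r1, r2, r3⟩ := S.ρ_conj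
  have hHs : H * S.s * H⁻¹ = v := by rw [hHc, r3, S.τ_s]
  have hHw : H * S.w * H⁻¹ = S.s * S.w := by rw [hHc, r1, S.τ_o' h0]
  have hHo : H * S.o * H⁻¹ = S.w := by rw [hHc, r2, S.τ_w]
  have hHv : H * v * H⁻¹ = S.s := by
    rw [hv', show H * (S.o * S.w) * H⁻¹ = (H * S.o * H⁻¹) * (H * S.w * H⁻¹) by group, hHo, hHw,
      ← mul_assoc, ← hsw.eq, mul_assoc, S.ww, mul_one]
  have hsoW : IsConj S.w (S.s * v * S.w) := by
    refine S.o_isW.trans (isConj_iff.mpr ⟨H⁻¹, ?_⟩)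
    rw [inv_inv]
    have : H * (S.s * v * S.w) * H⁻¹ = S.o := by
      rw [show H * (S.s * v * S.w) * H⁻¹ = (H * S.s * H⁻¹) * (H * v * H⁻¹) * (H * S.w * H⁻¹) by group,
        hHs, hHv, hHw, mul_assoc v, ← mul_assoc S.s S.s, S.ss, one_mul, hv', mul_assoc, S.ww, mul_one]
    rw [← this]; group
  have hxswW : IsConj S.w (S.s * x * S.w) := hsoW.trans (isConj_iff.mpr ⟨k₁, by
    rw [show (k₁ : G) * (S.s * v * S.w) * (k₁ : G)⁻¹ =
      (k₁ : G) * (S.s * v) * (k₁ : G)⁻¹ * ((k₁ : G) * S.w * (k₁ : G)⁻¹) by group, hD12, hcw]⟩)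
  have hxvwW : IsConj S.w (x * v * S.w) := hsoW.trans (isConj_iff.mpr ⟨k₂, by
    rw [show (k₂ : G) * (S.s * v * S.w) * (k₂ : G)⁻¹ =
      (k₂ : G) * (S.s * v) * (k₂ : G)⁻¹ * ((k₂ : G) * S.w * (k₂ : G)⁻¹) by group, hD13, hcw]⟩)
  -- the elements centralizing a conjugate of `z * a`
  have hzaM : InM (zL * aL) := by decide
  set r : G := (k₃ : G) * S.Θ (zL * aL) * (k₃ : G)⁻¹ with hr
  have hrT : S.IsT r := isConj_iff.mpr ⟨k₃, rfl⟩
  set T : G := S.s * v * x with hT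
  have hTr : Commute T r := by
    set zaC : S.Cw := ⟨S.Θ (zL * aL), hmem _ hzaM⟩ with hzaC
    have e1 : S.q zaC = S.q zC * S.q aC := by
      rw [← map_mul]; exact congrArg S.q (Subtype.ext (map_mul S.Θ _ _))
    have h' : S.q ((sC * vC * xC) * (k₃ * zaC * k₃⁻¹) * (sC * vC * xC)⁻¹) = S.q (k₃ * zaC * k₃⁻¹) := by
      rw [map_mul, map_mul, map_inv]
      apply η.injective
      simp only [map_mul, map_inv, e1, hk₃, η.apply_symm_apply, hxq] at h3 ⊢
      rw [← h3, mul_inv_cancel_right]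
    have h'' : T * r * T⁻¹ = r ∨ T * r * T⁻¹ = r * S.w := S.q_eq.mp h'
    refine mul_inv_eq_iff_eq_mul.mp (h''.resolve_right fun e' => ?_)
    have hr3 : r ^ 3 = 1 := by
      rw [hr, conj_pow, ← map_pow, show (zL * aL) ^ 3 = 1 by decide, map_one, mul_one, mul_inv_cancel]
    have h1 : (T * r * T⁻¹) ^ 3 = 1 := by rw [conj_pow, hr3, mul_one, mul_inv_cancel]
    have hrw : Commute r S.w := by
      rw [hr]
      exact ((S.mem_Cw.mp k₃.2).mul_left (S.mem_Cw.mp (hmem _ hzaM))).mul_left (S.mem_Cw.mp k₃.2).inv_left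
    rw [e', hrw.mul_pow, hr3, one_mul, pow_succ, pow_two, S.ww, one_mul] at h1
    exact S.w_ne h1
  have hTimg : η (S.q (sC * vC * xC)) ≠ 1 := by
    rw [map_mul, map_mul, map_mul, map_mul, hxq]
    intro e'
    rw [mul_eq_one_iff_eq_inv] at e'
    apply hx_uv
    rw [e', inv_eq_of_mul_eq_one_right hx2]
  have hTW : ∀ y : G, (y = T ∨ y = T * S.w) → Commute y r → ¬ IsConj S.w y := by
    intro y hy hyr hW
    have e' : (k₃ : G)⁻¹ * y * k₃ = S.w := by
      refine S.W_za (hW.trans (isConj_iff.mpr ⟨(k₃ : G)⁻¹, by rw [inv_inv]⟩)) ?_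
      show _ = _
      rw [show S.Θ (zL * aL) = (k₃ : G)⁻¹ * r * k₃ by rw [hr]; group]
      calc (k₃ : G)⁻¹ * y * k₃ * ((k₃ : G)⁻¹ * r * k₃) = (k₃ : G)⁻¹ * (y * r) * k₃ := by group
        _ = _ := by rw [hyr.eq]; group
    have e2 : y = S.w := by
      rw [← hcw k₃]; conv_rhs => rw [← e']
      group
    refine hTimg ?_
    have h1 : S.q (sC * vC * xC) = 1 := by
      refine S.q_eq_one.mpr ?_
      rcases hy with hy | hy
      · exact Or.inr (hy.symm.trans e2)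
      · left
        show T = 1
        exact mul_eq_right.mp (hy.symm.trans e2)
    rw [h1, map_one]
  have hTwr : Commute (T * S.w) r := by
    refine hTr.mul_left ?_
    rw [hr]
    exact (((S.mem_Cw.mp k₃.2).mul_left (S.mem_Cw.mp (hmem _ hzaM))).mul_left
      (S.mem_Cw.mp k₃.2).inv_left).symm
  have hTnotW := hTW T (Or.inl rfl) hTr
  have hTwnotW := hTW (T * S.w) (Or.inr rfl) hTwr
  have hTnotV : ¬ IsConj S.s T := fun h => S.V_three h0 h hTr hrT
  have hTwnotV : ¬ IsConj S.s (T * S.w) := fun h => S.V_three h0 h hTwr hrT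
  -- the image of `x`
  have hsv : Commute S.s v := S.sΩ _
  have hvv : v * v = 1 := by
    rw [hv, h0, ← map_mul, ← map_one S.Ω]; exact congrArg S.Ω (by decide)
  set x' := H * x * H⁻¹ with hx'
  have hx'V : IsConj S.s x' := hxV.trans (isConj_iff.mpr ⟨H, rfl⟩)
  have hconjC : ∀ y : G, Commute x y → Commute x' (H * y * H⁻¹) := fun y h => by
    show _ = _
    rw [hx']
    calc H * x * H⁻¹ * (H * y * H⁻¹) = H * (x * y) * H⁻¹ := by group
      _ = _ := by rw [h.eq]; group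
  have hx's : Commute x' S.s := by have := hconjC _ hxv'; rwa [hHv] at this
  have hx'v : Commute x' v := by have := hconjC _ hxs; rwa [hHs] at this
  have hx'w : Commute x' S.w := by
    have h1 := hconjC _ hxw
    rw [hHw] at h1
    have := hx's.mul_right h1
    rwa [← mul_assoc, S.ss, one_mul] at this
  obtain ⟨i, j, l, m, hx'e⟩ : ∃ i j l m : Fin 2,
      x' = S.s ^ (i : ℕ) * v ^ (j : ℕ) * x ^ (l : ℕ) * S.w ^ (m : ℕ) := by
    obtain ⟨i, j, l, he⟩ := hcent (η (S.q ⟨x', S.mem_Cw.mpr hx'w⟩))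
      (by rw [← map_mul, ← map_mul, ← map_mul, ← map_mul]; exact congrArg η (congrArg S.q (Subtype.ext hx's.eq)))
      (by rw [← map_mul, ← map_mul, ← map_mul, ← map_mul]; exact congrArg η (congrArg S.q (Subtype.ext hx'v.eq)))
    have he : η (S.q ⟨x', S.mem_Cw.mpr hx'w⟩) =
        η (S.q (sC ^ (i : ℕ) * vC ^ (j : ℕ) * xC ^ (l : ℕ))) := by
      rw [he]; simp only [map_mul, map_pow, hxq]
    rcases S.q_eq.mp (η.injective he) with e' | e'
    · exact ⟨i, j, l, 0, by rw [Fin.val_zero, pow_zero, mul_one]; simpa using e'⟩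
    · exact ⟨i, j, l, 1, by rw [show ((1 : Fin 2) : ℕ) = 1 from rfl, pow_one]; simpa using e'⟩
  have hHT : H * T * H⁻¹ = v * S.s * x' := by
    rw [hT, show H * (S.s * v * x) * H⁻¹ = (H * S.s * H⁻¹) * (H * v * H⁻¹) * (H * x * H⁻¹) by group,
      hHs, hHv, ← hx']
  have hHTw : H * (T * S.w) * H⁻¹ = v * S.s * x' * (S.s * S.w) := by
    rw [show H * (T * S.w) * H⁻¹ = (H * T * H⁻¹) * (H * S.w * H⁻¹) by group, hHT, hHw]
  fin_cases l
  · -- inside the first four group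
    have hE : ∀ (i : Fin 2) (y : G), H * y ^ (i : ℕ) * H⁻¹ = (H * y * H⁻¹) ^ (i : ℕ) :=
      fun i y => (conj_pow).symm
    have e1 : H * (v ^ (i : ℕ) * S.s ^ (j : ℕ) * S.o ^ (m : ℕ)) * H⁻¹ = x' := by
      rw [show H * (v ^ (i : ℕ) * S.s ^ (j : ℕ) * S.o ^ (m : ℕ)) * H⁻¹ =
        (H * v ^ (i : ℕ) * H⁻¹) * (H * S.s ^ (j : ℕ) * H⁻¹) * (H * S.o ^ (m : ℕ) * H⁻¹) by group,
        hE, hE, hE, hHv, hHs, hHo, hx'e]
      simp
    have e2 : x = v ^ (i : ℕ) * S.s ^ (j : ℕ) * S.o ^ (m : ℕ) := by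
      rw [hx'] at e1
      exact (mul_left_cancel (mul_right_cancel e1)).symm
    have e3 : S.q xC = S.q vC ^ (i : ℕ) * S.q sC ^ (j : ℕ) * S.q vC ^ (m : ℕ) := by
      rw [← map_pow, ← map_pow, ← map_pow, ← map_mul, ← map_mul, S.q_eq]
      show x = v ^ (i : ℕ) * S.s ^ (j : ℕ) * v ^ (m : ℕ) ∨
        x = v ^ (i : ℕ) * S.s ^ (j : ℕ) * v ^ (m : ℕ) * S.w
      fin_cases m
      · left; simpa using e2
      · right
        rw [e2, hv']
        simp [mul_assoc, S.ww]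
    have e4 := congrArg η e3
    rw [hxq, map_mul, map_mul, map_pow, map_pow, map_pow] at e4
    have huv' : η (S.q vC) * η (S.q sC) = η (S.q sC) * η (S.q vC) := by
      rw [← map_mul, ← map_mul, ← map_mul, ← map_mul]
      exact congrArg η (congrArg S.q (Subtype.ext hsv.eq.symm))
    have hv2' : η (S.q vC) * η (S.q vC) = 1 := by
      rw [← map_mul, ← map_mul, show vC * vC = 1 from Subtype.ext hvv, map_one, map_one]
    fin_cases i <;> fin_cases j <;> fin_cases m <;>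
      simp [huv', mul_assoc, hv2'] at e4
    all_goals first
      | exact hx_1 e4
      | exact hx_u e4
      | exact hx_v e4
      | exact hx_uv e4
  · have hx1 : x ^ ((1 : Fin 2) : ℕ) = x := pow_one x
    simp only [show ((⟨1, by norm_num⟩ : Fin 2)) = 1 from rfl, hx1] at hx'e
    fin_cases i <;> fin_cases j <;> fin_cases m <;> simp at hx'e
    · -- x
      refine hTwnotW ((hxvwW.trans ?_))
      refine IsConj.symm (isConj_iff.mpr ⟨H, ?_⟩)
      rw [hHTw, hx'e, mul_assoc v, (hxs.symm).eq, ← mul_assoc v, ← hxv'.eq, mul_assoc (x * v), ← mul_assoc S.s S.s,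
        S.ss, one_mul]
    · exact S.not_V_of_W h0 hxwW (hx'e ▸ hx'V)
    · -- x v
      rw [hxv'.eq.symm] at hx'e
      refine hTnotV ((hx'V.trans ?_))
      refine IsConj.symm ((isConj_iff.mpr ⟨H, hHT⟩).trans ?_)
      rw [hx'e]
      have e' : v * S.s * (x * v) = S.s * x := by
        rw [← hsv.eq, mul_assoc, ← mul_assoc v x v, ← hxv'.eq, mul_assoc x v v, hvv, mul_one]
      rw [e']
      exact (isConj_iff.mpr ⟨(k₁ : G), hD12⟩).symm.trans (isConj_iff.mpr ⟨(k₂ : G), hD13⟩)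
    · rw [← hxv'.eq] at hx'e
      exact S.not_V_of_W h0 hxvwW (hx'e ▸ hx'V)
    · -- s x
      refine hTnotV ((hx'V.trans ?_))
      refine IsConj.symm ((isConj_iff.mpr ⟨H, hHT⟩).trans ?_)
      rw [hx'e]
      have e' : v * S.s * (S.s * x) = x * v := by
        rw [mul_assoc, ← mul_assoc S.s S.s, S.ss, one_mul, hxv'.eq]
      rw [e']
      exact (isConj_iff.mpr ⟨(k₂ : G), hD13⟩).symm.trans (isConj_iff.mpr ⟨(k₁ : G), hD12⟩)
    · exact S.not_V_of_W h0 hxswW (hx'e ▸ hx'V)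
    · exact hTnotV (by rw [hT, ← hx'e]; exact hx'V)
    · exact hTwnotV (by rw [hT, ← hx'e]; exact hx'V)

end Setup

end CfsgLib.SymEightThree
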