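import Cfsg.Agent.Lib.SymEightThree.ProdCentW

/-!
# The product case: two commuting groups `A₅`
-/

set_option autoImplicit false

open Equiv

namespace CfsgLib.SymEightThree

/-- The image of `a` under the exchange of `w` and `o`. -/
def aL' : L := ρL * aL * ρL

theorem cent_swo : ∀ p : L, Commute p sL → Commute p wL → Commute p oL →
    p * aL' * p⁻¹ = aL' ∨ p * aL' * p⁻¹ = aL'⁻¹ := by decide +kernel

/-- Twelve elements of `A₅`. -/
def twelve (i j : Fin 2) (k : Fin 3) : Perm (Fin 5) :=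
  (swap 0 3 * swap 1 4) ^ (i : ℕ) * (swap 0 1 * swap 3 4) ^ (j : ℕ) * cA ^ (k : ℕ)

set_option maxRecDepth 8000 in
theorem alt_words : ∀ π : Perm (Fin 5), Perm.sign π = 1 →
    ∃ i j k i' j' k' i'' j'' k'', π = twelve i j k * twelve i' j' k' * twelve i'' j'' k'' := by
  decide +kernel

theorem swap_word : swap (3 : Fin 5) 4 = cA * (swap 0 3 * swap 1 4 * swap 3 4) * cA *
    (swap 0 3 * swap 1 4 * swap 3 4) * cA * cA * (swap 0 3 * swap 1 4 * swap 3 4) * cA * cA *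
    (swap 0 3 * swap 1 4 * swap 3 4) * cA * (swap 0 3 * swap 1 4 * swap 3 4) := by decide +kernel

set_option maxRecDepth 8000 in
theorem alt_center : ∀ π : Perm (Fin 5), Perm.sign π = 1 → π * cA = cA * π →
    π * (swap 0 3 * swap 1 4) = swap 0 3 * swap 1 4 * π → π = 1 := by decide +kernel

set_option maxRecDepth 8000 in
theorem alt_cent_cA : ∀ π : Perm (Fin 5), Perm.sign π = 1 → π * cA = cA * π →
    ∃ i : Fin 3, π = cA ^ (i : ℕ) := by decide +kernel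

set_option maxRecDepth 8000 in
theorem two_words : ∀ π : Perm (Fin 5), Perm.sign π = 1 → ∃ x y z t u v : Fin 3,
    π = cA ^ (x : ℕ) * ((swap 0 3 * swap 1 4) * cA * (swap 0 3 * swap 1 4)) ^ (y : ℕ) *
      cA ^ (z : ℕ) * ((swap 0 3 * swap 1 4) * cA * (swap 0 3 * swap 1 4)) ^ (t : ℕ) *
      cA ^ (u : ℕ) * ((swap 0 3 * swap 1 4) * cA * (swap 0 3 * swap 1 4)) ^ (v : ℕ) := by decide +kernel

theorem alt_two_gen (ρ : Perm (Fin 5)) (h : Perm.sign ρ = 1) :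
    ρ ∈ Subgroup.closure ({cA, (swap 0 3 * swap 1 4) * cA * (swap 0 3 * swap 1 4)} : Set (Perm (Fin 5))) := by
  obtain ⟨x, y, z, t, u, v, rfl⟩ := two_words ρ h
  exact mul_mem (mul_mem (mul_mem (mul_mem (mul_mem (pow_mem (Subgroup.subset_closure (by simp)) _)
    (pow_mem (Subgroup.subset_closure (by simp)) _)) (pow_mem (Subgroup.subset_closure (by simp)) _))
    (pow_mem (Subgroup.subset_closure (by simp)) _)) (pow_mem (Subgroup.subset_closure (by simp)) _))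
    (pow_mem (Subgroup.subset_closure (by simp)) _)

namespace Setup

variable {G : Type*} [Group G] [Finite G] (S : Setup G)

/-- The embedding of the first alternating group. -/
def E2 : alternatingGroup (Fin 5) →* G := S.Ω.comp (alternatingGroup (Fin 5)).subtype

/-- The involution exchanging `w` and `ws`. -/
def u1 : G := S.τ (S.Θ ρL)

theorem g_w_comm : Commute S.g S.w := S.normD_w S.g_normD

variable (h0 : S.π0 = swap 0 1 * swap 3 4)

include h0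

theorem cent_sw {x : G} (hs : Commute x S.s) (hw : Commute x S.w) : ∃ p : L, InM p ∧ Commute p sL ∧ x = S.Θ p := by
  obtain ⟨p, hp, rfl | rfl⟩ := S.normD_iff.mp (S.cent_w_le_normD h0 hw)
  · exact ⟨p, hp, S.Θ_commute_iff.mp hs, rfl⟩
  · exfalso
    have h1 : S.Θ p * S.g * S.s * (S.Θ p * S.g)⁻¹ = S.s := by rw [hs.eq, mul_inv_cancel_right]
    rw [mul_inv_rev, S.g_inv, show S.Θ p * S.g * S.s * (S.g * (S.Θ p)⁻¹) = S.Θ p * (S.g * S.s * S.g) * (S.Θ p)⁻¹ by group,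
      ← S.τ_apply, S.τ_s, Ω_apply, ← map_inv, ← map_mul, ← map_mul] at h1
    have h2 := congrArg Prod.fst (S.inj h1)
    simp [sL] at h2
    exact absurd h2.symm (by decide)

theorem u1_facts : S.u1 * S.u1 = 1 ∧ S.u1 * S.s * S.u1 = S.s ∧ S.u1 * S.w * S.u1 = S.w * S.s ∧
    S.u1 * S.o * S.u1 = S.o * S.s ∧ Commute S.u1 S.a := by
  have hρi : (S.Θ ρL)⁻¹ = S.Θ ρL := by rw [← map_inv]; exact congrArg S.Θ (by decide)
  have hρ : S.Θ ρL * S.Θ ρL = 1 := by rw [← map_mul, ← map_one S.Θ]; exact congrArg S.Θ (by decide)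
  obtain ⟨r1, r2, r3⟩ := S.ρ_conj
  rw [hρi] at r1 r2 r3
  have hconj : ∀ y, S.u1 * S.τ y * S.u1 = S.τ (S.Θ ρL * y * S.Θ ρL) := fun y => by
    rw [u1, ← map_mul, ← map_mul]
  have hπρ : S.Θ ρL * S.Ω S.π0 * S.Θ ρL = S.Ω S.π0 := by
    rw [h0, Ω_apply, ← map_mul, ← map_mul]; exact congrArg S.Θ (by decide)
  have hsw : Commute S.s S.w := S.sΩ (swap 3 4)
  have how : Commute S.o S.w := S.Θ_commute (by decide)
  refine ⟨by rw [u1, ← map_mul, hρ, map_one], ?_, ?_, ?_, ?_⟩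
  · conv_lhs => rw [← S.τ_π0]
    rw [hconj, hπρ, S.τ_π0]
  · conv_lhs => rw [← S.τ_w]
    rw [hconj, r1, S.τ_o' h0, hsw.eq]
  · have e : S.o = S.τ (S.s * S.w) := by rw [← S.τ_o' h0, S.τ_τ]
    conv_lhs => rw [e]
    rw [hconj, show S.Θ ρL * (S.s * S.w) * S.Θ ρL =
      (S.Θ ρL * S.s * S.Θ ρL) * (S.Θ ρL * S.w * S.Θ ρL) by
        rw [show S.Θ ρL * S.s * S.Θ ρL * (S.Θ ρL * S.w * S.Θ ρL) =
          S.Θ ρL * S.s * (S.Θ ρL * S.Θ ρL) * S.w * S.Θ ρL by group, hρ]; group,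
      r3, r1, map_mul, S.τ_s' h0, S.τ_o' h0, mul_assoc S.o, ← mul_assoc S.w, ← hsw.eq, mul_assoc S.s S.w,
      S.ww, mul_one]
  · rw [u1, ← S.τ_z]
    exact ((S.zΩ (swap 0 3 * swap 1 4)).symm).map S.τ.toMonoidHom

/-- The first alternating group and its conjugate by `g` commute. -/
theorem commute_factors : ∀ π ρ : Perm (Fin 5), Perm.sign π = 1 → Perm.sign ρ = 1 →
    Commute (S.τ (S.Ω π)) (S.Ω ρ) := by
  obtain ⟨huu, hus, huw, huo, hua⟩ := S.u1_facts h0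
  have hρi : (S.Θ ρL)⁻¹ = S.Θ ρL := by rw [← map_inv]; exact congrArg S.Θ (by decide)
  have hρ : S.Θ ρL * S.Θ ρL = 1 := by rw [← map_mul, ← map_one S.Θ]; exact congrArg S.Θ (by decide)
  obtain ⟨r1, r2, r3⟩ := S.ρ_conj
  rw [hρi] at r1 r2 r3
  set P := S.Θ ρL with hP
  set a' := S.Θ aL' with ha'
  have hPa : P * S.a * P = a' := by rw [hP, ha', aL', map_mul, map_mul]; rfl
  set u := P * S.u1 * P with hu
  have hc : ∀ y : G, P * (P * y * P) * P = y := fun y => by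
    rw [show P * (P * y * P) * P = (P * P) * y * (P * P) by group, hρ, one_mul, mul_one]
  have hmul : ∀ y y' : G, P * (y * y') * P = (P * y * P) * (P * y' * P) := fun y y' => by
    rw [show P * y * P * (P * y' * P) = P * y * (P * P) * y' * P by group, hρ]; group
  have huconj : ∀ y : G, u * y * u = P * (S.u1 * (P * y * P) * S.u1) * P := fun y => by rw [hu]; group
  have huw' : u * S.w * u = S.w * S.s := by rw [huconj, r1, huo, hmul, r2, r3]
  have huo' : u * S.o * u = S.o * S.s := by rw [huconj, r2, huw, hmul, r1, r3]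
  have hus' : u * S.s * u = S.s := by rw [huconj, r3, hus, r3]
  have hua' : u * a' * u = a' := by
    rw [huconj, ← hPa, hc, hua.eq, mul_assoc S.a, huu, mul_one]
  have huu' : u * u = 1 := by
    rw [hu, show P * S.u1 * P * (P * S.u1 * P) = P * S.u1 * (P * P) * S.u1 * P by group, hρ, mul_one,
      mul_assoc P, huu, mul_one, hρ]
  have hui : u⁻¹ = u := inv_eq_of_mul_eq_one_left huu'
  have hu1i : S.u1⁻¹ = S.u1 := inv_eq_of_mul_eq_one_left huu
  set c := S.u1 * u with hcdef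
  have hconjc : ∀ y : G, c * y * c⁻¹ = S.u1 * (u * y * u) * S.u1 := fun y => by
    rw [hcdef, mul_inv_rev, hui, hu1i]; group
  have hmul1 : ∀ y y' : G, S.u1 * (y * y') * S.u1 = (S.u1 * y * S.u1) * (S.u1 * y' * S.u1) := fun y y' => by
    rw [show S.u1 * y * S.u1 * (S.u1 * y' * S.u1) = S.u1 * y * (S.u1 * S.u1) * y' * S.u1 by group, huu]; group
  have hcs : Commute c S.s := mul_inv_eq_iff_eq_mul.mp (by rw [hconjc, hus', hus])
  have hcw : Commute c S.w := mul_inv_eq_iff_eq_mul.mp (by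
    rw [hconjc, huw', hmul1, huw, hus, mul_assoc, S.ss, mul_one])
  have hco : Commute c S.o := mul_inv_eq_iff_eq_mul.mp (by
    rw [hconjc, huo', hmul1, huo, hus, mul_assoc, S.ss, mul_one])
  obtain ⟨p, -, hps, hp⟩ := S.cent_sw h0 hcs hcw
  have hca : c * a' * c⁻¹ = a' ∨ c * a' * c⁻¹ = a'⁻¹ := by
    rw [hp, ha', ← map_inv, ← map_mul, ← map_mul, ← map_inv]
    exact (cent_swo p hps (S.Θ_commute_iff.mp (by rw [← hp]; exact hcw))
      (S.Θ_commute_iff.mp (by rw [← hp]; exact hco))).imp (congrArg S.Θ) (congrArg S.Θ)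
  have hcase : S.u1 * a' * S.u1 = a' ∨ S.u1 * a' * S.u1 = a'⁻¹ := by
    rw [hconjc, hua'] at hca
    exact hca
  let K : Subgroup (Perm (Fin 5)) :=
    (Subgroup.centralizer ({S.a, a'} : Set G)).comap (S.τ.toMonoidHom.comp S.Ω)
  have hK : ∀ π, Commute (S.τ (S.Ω π)) S.a → Commute (S.τ (S.Ω π)) a' → π ∈ K := fun π h1 h2 => by
    refine Subgroup.mem_centralizer_iff.mpr ?_
    rintro y (rfl | rfl)
    · exact h1.eq.symm
    · exact h2.eq.symm
  have hKA : cA ∈ K := by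
    refine hK cA ?_ ?_ <;> rw [← S.a_eq, S.τ_a]
    · exact S.za_comm
    · exact S.Θ_commute (by decide)
  have hKπ : S.π0 ∈ K := by
    refine hK _ ?_ ?_ <;> rw [S.τ_π0]
    · exact S.sΩ cA
    · exact S.Θ_commute (by decide)
  have hu1τ : S.u1 = S.τ (S.Ω (swap 0 3 * swap 1 4)) := rfl
  have hu1K : swap 0 3 * swap 1 4 ∈ K := by
    refine hK _ hua ?_
    rw [← hu1τ]
    rcases hcase with e | e
    · refine mul_inv_eq_iff_eq_mul.mp ?_
      rw [hu1i]; exact e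
    · exfalso
      have hwa : Commute (S.u1 * S.w) S.a := hua.mul_left (S.Θ_commute (by decide))
      have hwa' : S.w * a' * S.w = a'⁻¹ := by
        rw [ha', w, ← map_mul, ← map_mul, ← map_inv]; exact congrArg S.Θ (by decide)
      have hwi : S.w⁻¹ = S.w := inv_eq_of_mul_eq_one_left S.ww
      have hd : swap 0 3 * swap 1 4 * swap 3 4 ∈ K := by
        have e' : S.τ (S.Ω (swap 0 3 * swap 1 4 * swap 3 4)) = S.u1 * S.w := by
          rw [map_mul S.Ω _ (swap 3 4), map_mul, ← hu1τ, ← S.w_eq, S.τ_w]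
        refine hK _ (e' ▸ hwa) (e' ▸ mul_inv_eq_iff_eq_mul.mp ?_)
        rw [mul_inv_rev, hu1i, hwi, show S.u1 * S.w * a' * (S.w * S.u1) = S.u1 * (S.w * a' * S.w) * S.u1 by group,
          hwa']
        have := congrArg (fun t => t⁻¹) e
        simpa [mul_inv_rev, hu1i, mul_assoc] using this
      have hwK : swap (3 : Fin 5) 4 ∈ K := by
        rw [swap_word]
        exact K.mul_mem (K.mul_mem (K.mul_mem (K.mul_mem (K.mul_mem (K.mul_mem (K.mul_mem (K.mul_mem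
          (K.mul_mem (K.mul_mem (K.mul_mem hKA hd) hKA) hd) hKA) hKA) hd) hKA) hKA) hd) hKA) hd
      have h1 : Commute S.w a' := by
        have := (Subgroup.mem_centralizer_iff.mp hwK a' (by simp)).symm
        rwa [show (S.τ.toMonoidHom.comp S.Ω) (swap 3 4) = S.w from S.τ_w] at this
      rw [h1.eq, mul_assoc, S.ww, mul_one] at hwa'
      rw [ha', ← map_inv] at hwa'
      exact absurd (S.inj hwa') (by decide)
  have hall : ∀ π, Perm.sign π = 1 → π ∈ K := by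
    intro π hπ
    obtain ⟨i, j, k, i', j', k', i'', j'', k'', rfl⟩ := alt_words π hπ
    have ht : ∀ i j k, twelve i j k ∈ K := fun i j k =>
      mul_mem (mul_mem (pow_mem hu1K _) (pow_mem (h0 ▸ hKπ) _)) (pow_mem hKA _)
    exact mul_mem (mul_mem (ht _ _ _) (ht _ _ _)) (ht _ _ _)
  intro π ρ hπ hρ'
  have h2 := Subgroup.mem_centralizer_iff.mp (hall π hπ)
  let K' : Subgroup (Perm (Fin 5)) := (Subgroup.centralizer ({S.τ (S.Ω π)} : Set G)).comap S.Ω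
  have hA : cA ∈ K' := Subgroup.mem_centralizer_singleton_iff.mpr (h2 S.a (by simp))
  have hA' : (swap 0 3 * swap 1 4) * cA * (swap 0 3 * swap 1 4) ∈ K' :=
    Subgroup.mem_centralizer_singleton_iff.mpr (by
      have e : S.Ω ((swap 0 3 * swap 1 4) * cA * (swap 0 3 * swap 1 4)) = a' := by
        rw [ha', Ω_apply]; exact congrArg S.Θ (by decide)
      rw [e]; exact h2 a' (by simp))
  have hgen : ρ ∈ Subgroup.closure ({cA, (swap 0 3 * swap 1 4) * cA * (swap 0 3 * swap 1 4)} : Set (Perm (Fin 5))) :=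
    alt_two_gen ρ hρ'
  refine (Subgroup.mem_centralizer_singleton_iff.mp ((Subgroup.closure_le K').mpr ?_ hgen)).symm
  rintro y (rfl | rfl)
  · exact hA
  · exact hA'

/-- The subgroup `A₅ × A₅`. -/
def Ψ : alternatingGroup (Fin 5) × alternatingGroup (Fin 5) →* G :=
  MonoidHom.noncommCoprod (S.τ.toMonoidHom.comp S.E2) S.E2 fun p q =>
    S.commute_factors h0 p q (Perm.mem_alternatingGroup.mp p.2) (Perm.mem_alternatingGroup.mp q.2)

theorem Ψ_apply (p : alternatingGroup (Fin 5) × alternatingGroup (Fin 5)) :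
    S.Ψ h0 p = S.τ (S.Ω (p.1 : Perm (Fin 5))) * S.Ω (p.2 : Perm (Fin 5)) := rfl

theorem Ψ_inj : Function.Injective (S.Ψ h0) := by
  rw [injective_iff_map_eq_one]
  rintro ⟨p, q⟩ h
  rw [S.Ψ_apply h0] at h
  have he : S.τ (S.Ω (p : Perm (Fin 5))) = (S.Ω (q : Perm (Fin 5)))⁻¹ := mul_eq_one_iff_eq_inv.mp h
  have hc : ∀ π : Perm (Fin 5), Perm.sign π = 1 → (q : Perm (Fin 5)) * π = π * q := fun π hπ => by
    have h1 := S.commute_factors h0 p π (Perm.mem_alternatingGroup.mp p.2) hπ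
    rw [he, Commute.inv_left_iff] at h1
    exact S.Ω_inj (by rw [map_mul, map_mul]; exact h1.eq)
  have hq : (q : Perm (Fin 5)) = 1 :=
    alt_center q (Perm.mem_alternatingGroup.mp q.2) (hc _ (by decide)) (hc _ (by decide))
  rw [hq, map_one, inv_one, MulEquiv.map_eq_one_iff] at he
  exact Prod.ext (Subtype.ext (S.Ω_inj (he.trans (map_one _).symm))) (Subtype.ext hq)

/-- The image of `A₅ × A₅`. -/
def N0 : Subgroup G := (S.Ψ h0).range

theorem mem_N0 {x : G} : x ∈ S.N0 h0 ↔ ∃ p q : Perm (Fin 5), Perm.sign p = 1 ∧ Perm.sign q = 1 ∧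
    x = S.τ (S.Ω p) * S.Ω q := by
  constructor
  · rintro ⟨⟨p, q⟩, rfl⟩
    exact ⟨p, q, Perm.mem_alternatingGroup.mp p.2, Perm.mem_alternatingGroup.mp q.2, rfl⟩
  · rintro ⟨p, q, hp, hq, rfl⟩
    exact ⟨(⟨p, Perm.mem_alternatingGroup.mpr hp⟩, ⟨q, Perm.mem_alternatingGroup.mpr hq⟩), rfl⟩

theorem Ω_mem_N0 {q : Perm (Fin 5)} (hq : Perm.sign q = 1) : S.Ω q ∈ S.N0 h0 :=
  (S.mem_N0 h0).mpr ⟨1, q, map_one _, hq, by rw [map_one, map_one, one_mul]⟩

theorem τΩ_mem_N0 {q : Perm (Fin 5)} (hq : Perm.sign q = 1) : S.τ (S.Ω q) ∈ S.N0 h0 :=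
  (S.mem_N0 h0).mpr ⟨q, 1, hq, map_one _, by rw [map_one, mul_one]⟩

theorem g_norm_N0 : S.g ∈ Subgroup.normalizer (S.N0 h0 : Set G) := by
  rw [Subgroup.mem_normalizer_iff_map_conj_eq]
  refine Subgroup.eq_of_le_of_card_ge ?_ (le_of_eq
    (Subgroup.card_map_of_injective (MulAut.conj S.g).injective).symm)
  rintro _ ⟨x, hx, rfl⟩
  obtain ⟨p, q, hp, hq, rfl⟩ := (S.mem_N0 h0).mp hx
  show S.τ _ ∈ _
  rw [map_mul, S.τ_τ]
  exact mul_mem (S.Ω_mem_N0 h0 hp) (S.τΩ_mem_N0 h0 hq)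

theorem w_conj (p q : Perm (Fin 5)) : S.w * (S.τ (S.Ω p) * S.Ω q) * S.w =
    S.τ (S.Ω (swap 3 4 * p * swap 3 4)) * S.Ω (swap 3 4 * q * swap 3 4) := by
  rw [map_mul, map_mul, map_mul, map_mul, map_mul, map_mul, ← S.w_eq, S.τ_w]
  rw [show S.w * S.τ (S.Ω p) * S.w * (S.w * S.Ω q * S.w) = S.w * S.τ (S.Ω p) * (S.w * S.w) * S.Ω q * S.w by group,
    S.ww]
  group

theorem w_norm_N0 : S.w ∈ Subgroup.normalizer (S.N0 h0 : Set G) := by
  rw [Subgroup.mem_normalizer_iff_map_conj_eq]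
  refine Subgroup.eq_of_le_of_card_ge ?_ (le_of_eq
    (Subgroup.card_map_of_injective (MulAut.conj S.w).injective).symm)
  rintro _ ⟨x, hx, rfl⟩
  obtain ⟨p, q, hp, hq, rfl⟩ := (S.mem_N0 h0).mp hx
  show S.w * _ * S.w⁻¹ ∈ _
  rw [inv_eq_of_mul_eq_one_left S.ww, S.w_conj h0]
  have hs : ∀ π : Perm (Fin 5), Perm.sign (swap 3 4 * π * swap 3 4) = Perm.sign π := fun π => by
    rw [Perm.sign_mul, Perm.sign_mul, mul_comm (Perm.sign (swap (3 : Fin 5) 4)), mul_assoc,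
      Int.units_mul_self, mul_one]
  exact (S.mem_N0 h0).mpr ⟨_, _, (hs p).trans hp, (hs q).trans hq, rfl⟩

/-- The group generated by `A₅ × A₅`, `w` and `g`. -/
def G0 : Subgroup G := S.N0 h0 ⊔ Subgroup.closure {S.w, S.g}

theorem mem_G0 {x : G} : x ∈ S.G0 h0 ↔ ∃ n ∈ S.N0 h0, ∃ k l : Fin 2, x = n * S.w ^ (k : ℕ) * S.g ^ (l : ℕ) := by
  have hle : Subgroup.closure {S.w, S.g} ≤ Subgroup.normalizer (S.N0 h0 : Set G) := by
    rw [Subgroup.closure_le]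
    rintro y (rfl | rfl)
    · exact S.w_norm_N0 h0
    · exact S.g_norm_N0 h0
  have hfin : ∀ y ∈ Subgroup.closure {S.w, S.g}, ∃ k l : Fin 2, y = S.w ^ (k : ℕ) * S.g ^ (l : ℕ) := by
    have hc := S.g_w_comm
    intro y hy
    induction hy using Subgroup.closure_induction with
    | mem t ht =>
      rcases ht with rfl | rfl
      · exact ⟨1, 0, by simp⟩
      · exact ⟨0, 1, by simp⟩
    | one => exact ⟨0, 0, by simp⟩
    | mul t t' _ _ h h' =>
      obtain ⟨k, l, rfl⟩ := h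
      obtain ⟨k', l', rfl⟩ := h'
      refine ⟨k + k', l + l', ?_⟩
      have hw2 : S.w ^ 2 = 1 := by rw [sq, S.ww]
      have hg2 : S.g ^ 2 = 1 := by rw [sq, S.gg]
      rw [mul_assoc, ← mul_assoc (S.g ^ (l : ℕ)), (hc.pow_pow (l : ℕ) (k' : ℕ)).eq, mul_assoc (S.w ^ (k' : ℕ)),
        ← mul_assoc (S.w ^ (k : ℕ)), ← pow_add, ← pow_add, Fin.val_add, Fin.val_add,
        ← pow_eq_pow_mod _ hw2, ← pow_eq_pow_mod _ hg2]
    | inv t _ h =>
      obtain ⟨k, l, rfl⟩ := h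
      refine ⟨k, l, ?_⟩
      rw [mul_inv_rev, ← inv_pow, ← inv_pow, S.g_inv, inv_eq_of_mul_eq_one_left S.ww]
      exact (hc.pow_pow _ _).eq
  constructor
  · intro hx
    rw [G0, ← SetLike.mem_coe, Subgroup.coe_mul_of_right_le_normalizer_left _ _ hle] at hx
    obtain ⟨n, hn, y, hy, rfl⟩ := hx
    obtain ⟨k, l, rfl⟩ := hfin y hy
    exact ⟨n, hn, k, l, (mul_assoc _ _ _).symm⟩
  · rintro ⟨n, hn, k, l, rfl⟩
    exact mul_mem (mul_mem (Subgroup.mem_sup_left hn)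
      (pow_mem (Subgroup.mem_sup_right (Subgroup.subset_closure (by simp))) _))
      (pow_mem (Subgroup.mem_sup_right (Subgroup.subset_closure (by simp))) _)

theorem N0_le_G0 : S.N0 h0 ≤ S.G0 h0 := le_sup_left
theorem w_mem_G0 : S.w ∈ S.G0 h0 := Subgroup.mem_sup_right (Subgroup.subset_closure (by simp))
theorem g_mem_G0 : S.g ∈ S.G0 h0 := Subgroup.mem_sup_right (Subgroup.subset_closure (by simp))

theorem Ω_mem_G0 (π : Perm (Fin 5)) : S.Ω π ∈ S.G0 h0 := by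
  rcases Int.units_eq_one_or (Perm.sign π) with h | h
  · exact S.N0_le_G0 h0 (S.Ω_mem_N0 h0 h)
  · have e : S.Ω π = S.Ω (π * swap 3 4) * S.w := by
      rw [w_eq, ← map_mul, mul_assoc, swap_mul_self, mul_one]
    rw [e]
    refine mul_mem (S.N0_le_G0 h0 (S.Ω_mem_N0 h0 ?_)) (S.w_mem_G0 h0)
    rw [Perm.sign_mul, h, Perm.sign_swap (by decide)]; rfl

theorem z_mem_N0 : S.z ∈ S.N0 h0 := S.τ_a ▸ S.τΩ_mem_N0 h0 (q := cA) (by decide)
theorem a_mem_N0 : S.a ∈ S.N0 h0 := S.Ω_mem_N0 h0 (q := cA) (by decide)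
theorem s_mem_N0 : S.s ∈ S.N0 h0 := S.τ_π0 ▸ S.τΩ_mem_N0 h0 (q := S.π0) (by rw [h0]; decide)

theorem Θ_mem_G0 (p : L) : S.Θ p ∈ S.G0 h0 := by
  have hw : ∀ σ : Perm (Fin 3), ∃ (i : Fin 3) (j : Fin 2), σ = cZ ^ (i : ℕ) * swap 0 1 ^ (j : ℕ) := by decide
  obtain ⟨i, j, hij⟩ := hw p.1
  have e : S.Θ p = S.z ^ (i : ℕ) * S.s ^ (j : ℕ) * S.Ω p.2 := by
    rw [z, s, Ω_apply, ← map_pow, ← map_pow, ← map_mul, ← map_mul]
    exact congrArg S.Θ (Prod.ext (by simp [zL, sL, hij]) (by simp [zL, sL]))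
  rw [e]
  exact mul_mem (mul_mem (pow_mem (S.N0_le_G0 h0 (S.z_mem_N0 h0)) _)
    (pow_mem (S.N0_le_G0 h0 (S.s_mem_N0 h0)) _)) (S.Ω_mem_G0 h0 _)

theorem normD_le_G0 {x : G} (hx : x ∈ Subgroup.normalizer (S.D : Set G)) : x ∈ S.G0 h0 := by
  obtain ⟨p, -, rfl | rfl⟩ := S.normD_iff.mp hx
  · exact S.Θ_mem_G0 h0 p
  · exact mul_mem (S.Θ_mem_G0 h0 p) (S.g_mem_G0 h0)

theorem cent_w_G0 {x : G} (h : Commute x S.w) : x ∈ S.G0 h0 := S.normD_le_G0 h0 (S.cent_w_le_normD h0 h)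

theorem cent_za_G0 {x : G} (h : Commute x (S.Θ (zL * aL))) : x ∈ S.G0 h0 := by
  obtain ⟨p, -, -, rfl | rfl⟩ := S.cent_za x h.symm
  · exact S.Θ_mem_G0 h0 p
  · exact mul_mem (S.Θ_mem_G0 h0 p) (S.g_mem_G0 h0)

theorem line_z_G0 {x : G} (h : x * S.z * x⁻¹ = S.z ∨ x * S.z * x⁻¹ = S.z⁻¹) : x ∈ S.G0 h0 := by
  obtain ⟨p, rfl⟩ := S.norm x h
  exact S.Θ_mem_G0 h0 p

theorem cent_z_G0 {x : G} (h : Commute x S.z) : x ∈ S.G0 h0 :=
  S.line_z_G0 h0 (Or.inl (by rw [h.eq, mul_inv_cancel_right]))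

theorem τ_mem_G0 {x : G} (h : S.τ x ∈ S.G0 h0) : x ∈ S.G0 h0 := by
  rw [show x = S.g * S.τ x * S.g by rw [← S.τ_apply, S.τ_τ]]
  exact mul_mem (mul_mem (S.g_mem_G0 h0) h) (S.g_mem_G0 h0)

theorem cent_a_G0 {x : G} (h : Commute x S.a) : x ∈ S.G0 h0 := by
  refine S.τ_mem_G0 h0 (S.cent_z_G0 h0 ?_)
  rw [← S.τ_a]
  exact h.map S.τ.toMonoidHom

end Setup

end CfsgLib.SymEightThree
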