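import Cfsg.Agent.Lib.SymEightThree.ProdTransfer
import Cfsg.Agent.Lib.ZStar.Main
import Cfsg.Agent.Lib.SelfCentThree.Simple
import Cfsg.Agent.Lib.Invol.Dihedral

/-!
# The product case: the subgroup of index four is `A₅ × A₅`
-/

set_option autoImplicit false

open Equiv

namespace CfsgLib.SymEightThree

/-- The alternating group on five points has no proper normal subgroup but the trivial one. -/
theorem alt_five_all (K : Subgroup (Perm (Fin 5)))
    (hconj : ∀ r q : Perm (Fin 5), Perm.sign r = 1 → Perm.sign q = 1 → q ∈ K → r * q * r⁻¹ ∈ K)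
    {q₀ : Perm (Fin 5)} (hq₀ : Perm.sign q₀ = 1) (hne : q₀ ≠ 1) (hmem : q₀ ∈ K)
    {q : Perm (Fin 5)} (hq : Perm.sign q = 1) : q ∈ K := by
  haveI : IsSimpleGroup (alternatingGroup (Fin 5)) := alternatingGroup.isSimpleGroup (by simp)
  set K' := K.subgroupOf (alternatingGroup (Fin 5)) with hK'
  have hn : K'.Normal := ⟨fun x hx r => Subgroup.mem_subgroupOf.mpr (by
    simpa using hconj r x (Perm.mem_alternatingGroup.mp r.2) (Perm.mem_alternatingGroup.mp x.2)
      (Subgroup.mem_subgroupOf.mp hx))⟩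
  rcases hn.eq_bot_or_eq_top with h | h
  · exfalso
    have : (⟨q₀, Perm.mem_alternatingGroup.mpr hq₀⟩ : alternatingGroup (Fin 5)) ∈ K' :=
      Subgroup.mem_subgroupOf.mpr hmem
    rw [h, Subgroup.mem_bot] at this
    exact hne (congrArg Subtype.val this)
  · have : (⟨q, Perm.mem_alternatingGroup.mpr hq⟩ : alternatingGroup (Fin 5)) ∈ K' := h ▸ Subgroup.mem_top _
    exact Subgroup.mem_subgroupOf.mp this

set_option maxRecDepth 8000 in
theorem cent_pi0_eight : ∀ p : Perm (Fin 5),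
    p * (swap 0 1 * swap 3 4) = swap 0 1 * swap 3 4 * p → p ^ 8 = 1 := by decide +kernel

set_option maxRecDepth 8000 in
theorem cent_pi0_four : ∀ p : Perm (Fin 5), Perm.sign p = 1 →
    p * (swap 0 1 * swap 3 4) = swap 0 1 * swap 3 4 * p → ∃ i j, p = vP i j := by decide +kernel

set_option maxRecDepth 8000 in
theorem invol_conj : ∀ p : Perm (Fin 5), Perm.sign p = 1 → p * p = 1 → p ≠ 1 →
    ∃ r : Perm (Fin 5), Perm.sign r = 1 ∧ r * (swap 0 1 * swap 3 4) * r⁻¹ = p := by decide +kernel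

set_option maxRecDepth 8000 in
theorem three_conj_alt : ∀ p : Perm (Fin 5), Perm.sign p = 1 → p ^ 3 = 1 → p ≠ 1 →
    ∃ r : Perm (Fin 5), Perm.sign r = 1 ∧ r * p * r⁻¹ = cA := by decide +kernel

theorem eq_one_of_pow_eight {M : Type*} [Monoid M] {x : M} {n : ℕ} (hn : Odd n) (h : x ^ n = 1)
    (h8 : x ^ 8 = 1) : x = 1 := by
  have h2 : orderOf x ∣ 2 ^ 3 := orderOf_dvd_of_pow_eq_one h8
  have hc : Nat.Coprime n (2 ^ 3) := (Nat.coprime_two_right.mpr hn).pow_right 3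
  exact orderOf_eq_one_iff.mp (Nat.eq_one_of_dvd_coprimes hc (orderOf_dvd_of_pow_eq_one h) h2)

/-- An involution without fixed points inverts a finite group of odd order. -/
theorem invert_of_fpf {G : Type*} [Group G] [Finite G] (O : Subgroup G) (hodd : Odd (Nat.card O)) {t : G}
    (ht : t * t = 1) (hn : ∀ x ∈ O, t * x * t ∈ O) (hfix : ∀ x ∈ O, Commute x t → x = 1) :
    ∀ x ∈ O, t * x * t = x⁻¹ := by
  have htt : ∀ y : G, t * (t * y * t) * t = y := fun y => by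
    rw [show t * (t * y * t) * t = (t * t) * y * (t * t) by group, ht, one_mul, mul_one]
  let f : O → O := fun x => ⟨(x : G)⁻¹ * (t * x * t), mul_mem (inv_mem x.2) (hn x x.2)⟩
  have hf : Function.Injective f := by
    intro x y h
    have h1 : (x : G)⁻¹ * (t * x * t) = (y : G)⁻¹ * (t * y * t) := congrArg Subtype.val h
    have h2 : Commute ((y : G) * (x : G)⁻¹) t := by
      have h3 : (y : G) * (x : G)⁻¹ * t = t * y * t * (t * x * t)⁻¹ * t := by
        rw [show (y : G) * (x : G)⁻¹ = (y : G) * ((x : G)⁻¹ * (t * x * t)) * (t * x * t)⁻¹ by group, h1]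
        group
      show _ = _
      rw [h3, mul_inv_rev, mul_inv_rev, inv_eq_of_mul_eq_one_left ht,
        show t * y * t * (t * ((x : G)⁻¹ * t)) * t = t * y * (t * t) * (x : G)⁻¹ * (t * t) by group, ht]
      group
    have h4 := hfix _ (mul_mem y.2 (inv_mem x.2)) h2
    exact Subtype.ext (mul_inv_eq_one.mp h4).symm
  have hs := (Finite.injective_iff_surjective.mp hf)
  intro y hy
  obtain ⟨x, hx⟩ := hs ⟨y, hy⟩
  have e : y = (x : G)⁻¹ * (t * x * t) := (congrArg Subtype.val hx).symm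
  rw [e, mul_inv_rev, inv_inv, mul_inv_rev, mul_inv_rev, inv_eq_of_mul_eq_one_left ht,
    show t * ((x : G)⁻¹ * (t * x * t)) * t = t * (x : G)⁻¹ * t * x * (t * t) by group, ht]
  group

/-- Two commuting involutions inverting a group: their product centralizes it. -/
theorem prod_centralizes {G : Type*} [Group G] {t t' x : G} (h : t * x * t = x⁻¹)
    (h' : t' * x⁻¹ * t' = x) : (t' * t) * x * (t * t') = x := by
  rw [show t' * t * x * (t * t') = t' * (t * x * t) * t' by group, h, h']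

theorem vP_inv : ∀ i j : Fin 2, (vP i j)⁻¹ = vP i j := by decide

namespace Setup

variable {G : Type*} [Group G] [Finite G] (S : Setup G)

/-- The two subgroups of order four of the factors. -/
theorem pow_vP (i j : Fin 2) : S.τ (S.Ω (vP i j)) = S.u1 ^ (i : ℕ) * S.τ (S.Ω (swap 0 1 * swap 3 4)) ^ (j : ℕ) := by
  rw [vP, map_mul, map_mul, map_pow, map_pow, map_pow, map_pow]
  rfl

theorem pi0_cA : Commute (S.Ω S.π0) S.z := (S.zΩ S.π0).symm

variable (h0 : S.π0 = swap 0 1 * swap 3 4) (N : Subgroup G)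

include h0

theorem τ_mem_normal (hN : N.Normal) {x : G} (hx : x ∈ N) : S.τ x ∈ N := hN.conj_mem x hx S.g

theorem conj_z_N0 {n : G} (hn : n ∈ S.N0 h0) :
    n * S.z * n⁻¹ ≠ S.a ∧ n * S.z * n⁻¹ ≠ S.a⁻¹ := by
  obtain ⟨p, q, hp, hq, rfl⟩ := (S.mem_N0 h0).mp hn
  have e : S.τ (S.Ω p) * S.Ω q * S.z * (S.τ (S.Ω p) * S.Ω q)⁻¹ = S.τ (S.Ω (p * cA * p⁻¹)) := by
    rw [mul_inv_rev, show S.τ (S.Ω p) * S.Ω q * S.z * ((S.Ω q)⁻¹ * (S.τ (S.Ω p))⁻¹) =
      S.τ (S.Ω p) * (S.Ω q * S.z * (S.Ω q)⁻¹) * (S.τ (S.Ω p))⁻¹ by group, (S.zΩ q).symm.eq,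
      mul_inv_cancel_right, map_mul, map_mul, map_mul, map_mul, map_inv, map_inv, ← S.a_eq, S.τ_a]
  have hs : Perm.sign (p * cA * p⁻¹) = 1 := by
    rw [Perm.sign_mul, Perm.sign_mul, Perm.sign_inv, hp, show Perm.sign cA = 1 by decide]; rfl
  have key : ∀ c : Perm (Fin 5), Perm.sign c = 1 → c ≠ 1 → S.τ (S.Ω (p * cA * p⁻¹)) ≠ S.Ω c := by
    intro c hc hc1 he
    have h := S.Ψ_inj h0 (a₁ := (⟨_, Perm.mem_alternatingGroup.mpr hs⟩, 1))
      (a₂ := (1, ⟨c, Perm.mem_alternatingGroup.mpr hc⟩)) (by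
        rw [S.Ψ_apply h0, S.Ψ_apply h0]
        simpa using he)
    exact hc1 (congrArg (fun t => (t.2 : Perm (Fin 5))) h).symm
  constructor <;> rw [e]
  · exact key cA (by decide) (by decide)
  · rw [S.a_eq, ← map_inv]; exact key cA⁻¹ (by decide) (by decide)

variable (hN : N.Normal) (hidx : N.index = 4) (hle : S.N0 h0 ≤ N) (hG0 : S.G0 h0 ⊓ N = S.N0 h0)

include hN hidx hle hG0

theorem G0_N {x : G} (hx : x ∈ S.G0 h0) (hxN : x ∈ N) : x ∈ S.N0 h0 := hG0 ▸ ⟨hx, hxN⟩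

theorem two_le_sixteen {Q : Subgroup G} (hQ : IsPGroup 2 Q) (hQN : Q ≤ N) : Nat.card Q ≤ 16 := by
  haveI : Fact (Nat.Prime 2) := ⟨Nat.prime_two⟩
  obtain ⟨P, hP⟩ := S.exists_sylow h0
  obtain ⟨n, hn⟩ := IsPGroup.iff_card.mp hQ
  have h1 : 2 ^ (n + 2) ∣ Nat.card G := by
    rw [pow_add, ← N.card_mul_index, hidx]
    exact Nat.mul_dvd_mul (hn ▸ Subgroup.card_dvd_of_le hQN) (dvd_refl _)
  have h2 := (Nat.prime_two.pow_dvd_iff_le_factorization Nat.card_pos.ne').mp h1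
  have h3 : Nat.card (P : Subgroup G) = 2 ^ (Nat.card G).factorization 2 := P.card_eq_multiplicity
  rw [hP, S.card_T h0, show (64 : ℕ) = 2 ^ 6 by norm_num] at h3
  have h4 := Nat.pow_right_injective le_rfl h3
  rw [hn, show (16 : ℕ) = 2 ^ 4 by norm_num]
  exact Nat.pow_le_pow_right (by norm_num) (by omega)

theorem s_not_v_N {k : G} (hk : k ∈ N) : k * S.s * k⁻¹ ≠ S.Ω S.π0 := by
  intro hks
  haveI : Fact (Nat.Prime 3) := ⟨Nat.prime_three⟩
  set C := Subgroup.centralizer ({S.s} : Set G) ⊓ N with hC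
  set r := k⁻¹ * S.z * k with hr
  have haC : S.a ∈ C := ⟨Subgroup.mem_centralizer_singleton_iff.mpr (S.sΩ cA).eq.symm, hle (S.a_mem_N0 h0)⟩
  have hrC : r ∈ C := by
    refine ⟨Subgroup.mem_centralizer_singleton_iff.mpr ?_, by
      have := hN.conj_mem S.z (hle (S.z_mem_N0 h0)) k⁻¹
      rwa [inv_inv] at this⟩
    rw [hr, show S.s = k⁻¹ * S.Ω S.π0 * k by rw [← hks]; group]
    calc k⁻¹ * S.z * k * (k⁻¹ * S.Ω S.π0 * k) = k⁻¹ * (S.z * S.Ω S.π0) * k := by group
      _ = _ := by rw [(S.zΩ S.π0).eq]; group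
  have hr3 : r ^ 3 = 1 := by
    have : r = k⁻¹ * S.z * (k⁻¹)⁻¹ := by rw [inv_inv, hr]
    rw [this, conj_pow, S.hz, mul_one, mul_inv_cancel]
  have hp : ∀ (t : C), t ^ 3 = 1 → IsPGroup 3 (Subgroup.zpowers t) := fun t ht y => ⟨1, by
    obtain ⟨i, hi⟩ := Subgroup.mem_zpowers_iff.mp y.2
    refine Subtype.ext ?_
    rw [pow_one, SubgroupClass.coe_pow, OneMemClass.coe_one, ← hi, ← zpow_natCast, ← zpow_mul, mul_comm,
      zpow_mul, zpow_natCast, ht, one_zpow]⟩
  obtain ⟨P, hP⟩ := (hp ⟨S.a, haC⟩ (Subtype.ext (by simpa using S.ha3))).exists_le_sylow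
  obtain ⟨R, hR⟩ := (hp ⟨r, hrC⟩ (Subtype.ext (by simpa using hr3))).exists_le_sylow
  obtain ⟨c, hc⟩ := MulAction.exists_smul_eq C R P
  have hcr : c * ⟨r, hrC⟩ * c⁻¹ ∈ (P : Subgroup C) := by
    rw [← hc, Sylow.coe_subgroup_smul]
    exact ⟨⟨r, hrC⟩, hR (Subgroup.mem_zpowers _), rfl⟩
  set d : G := (c : G) * r * (c : G)⁻¹ with hd
  have hd3 : d ^ 3 = 1 := by rw [hd, conj_pow, hr3, mul_one, mul_inv_cancel]
  have hdP : d ∈ (P : Subgroup C).map C.subtype := ⟨_, hcr, rfl⟩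
  have haP : S.a ∈ (P : Subgroup C).map C.subtype := ⟨_, hP (Subgroup.mem_zpowers _), rfl⟩
  have hda : Commute d S.a := by
    obtain ⟨n, hn⟩ := IsPGroup.iff_card.mp (P.2.map C.subtype)
    have hn2 : n ≤ 2 := by
      by_contra hc'
      have := Nat.pow_le_pow_right (show 0 < 3 by norm_num) (show 3 ≤ n by omega)
      have h9 := S.three _ (P.2.map C.subtype)
      omega
    have hcomm : ∀ a b : ((P : Subgroup C).map C.subtype), a * b = b * a := by
      intro a b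
      interval_cases n
      · haveI := (Nat.card_eq_one_iff_unique.mp (by rw [hn]; norm_num)).1
        exact Subsingleton.elim _ _
      · haveI := isCyclic_of_prime_card (α := ((P : Subgroup C).map C.subtype)) (p := 3) (by rw [hn]; norm_num)
        exact IsCyclic.commGroup.mul_comm a b
      · exact (IsPGroup.commGroupOfCardEqPrimeSq (p := 3) (G := ((P : Subgroup C).map C.subtype)) hn).mul_comm a b
    exact congrArg Subtype.val (hcomm ⟨d, hdP⟩ ⟨S.a, haP⟩)
  have hdN : d ∈ N := by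
    obtain ⟨v, -, e⟩ := hdP
    exact e ▸ v.2.2
  have hds : Commute d S.s := by
    obtain ⟨v, -, e⟩ := hdP
    exact e ▸ Subgroup.mem_centralizer_singleton_iff.mp v.2.1
  obtain ⟨i, π, e⟩ := S.cent_a hda
  have hπ3 : π ^ 3 = 1 := by
    have hc : Commute (S.a ^ (i : ℕ)) (S.τ (S.Ω π)) := by
      have := ((S.zΩ π).pow_left (i : ℕ)).map S.τ.toMonoidHom
      simpa [S.τ_z] using this
    rw [e, hc.mul_pow, ← pow_mul, mul_comm (i : ℕ), pow_mul, S.ha3, one_pow, one_mul, ← map_pow,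
      ← map_pow, ← map_one S.τ] at hd3
    exact S.Ω_inj ((S.τ.injective hd3).trans (map_one _).symm)
  have hπc : π * (swap 0 1 * swap 3 4) = swap 0 1 * swap 3 4 * π := by
    have h1 : Commute (S.τ (S.Ω π)) S.s := by
      have e' : S.τ (S.Ω π) = (S.a ^ (i : ℕ))⁻¹ * d := by rw [e, inv_mul_cancel_left]
      rw [e']
      exact ((S.sΩ cA).symm.pow_left _).inv_left.mul_left hds
    rw [← S.τ_π0] at h1
    refine S.Ω_inj (S.τ.injective ?_)
    rw [← h0, map_mul, map_mul, map_mul, map_mul]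
    exact h1.eq
  rw [cube_pi0 π hπ3 hπc, map_one, map_one, mul_one] at e
  -- the element carrying `z` into the line of `a`
  set m := (c : G) * k⁻¹ with hm
  have hmN : m ∈ N := mul_mem c.2.2 (inv_mem hk)
  have hmz : m * S.z * m⁻¹ = d := by rw [hm, hd, hr]; group
  rcases (show ∀ i : Fin 3, i = 0 ∨ i = 1 ∨ i = 2 by decide) i with rfl | rfl | rfl
  · rw [Fin.val_zero, pow_zero, ← hmz, conj_eq_one_iff] at e
    exact S.z_ne e
  all_goals
    have hza : m * S.z * m⁻¹ = S.a ∨ m * S.z * m⁻¹ = S.a⁻¹ := by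
      first
        | exact Or.inl (hmz.trans (e.trans (pow_one _)))
        | exact Or.inr (hmz.trans (e.trans (eq_inv_of_mul_eq_one_left
            (show S.a ^ 2 * S.a = 1 by rw [← pow_succ, S.ha3]))))
    have hgm : S.g * m * S.z * (S.g * m)⁻¹ = S.z ∨ S.g * m * S.z * (S.g * m)⁻¹ = S.z⁻¹ := by
      have e2 : S.g * m * S.z * (S.g * m)⁻¹ = S.τ (m * S.z * m⁻¹) := by
        rw [S.τ_apply, mul_inv_rev, S.g_inv]; group
      rcases hza with h | h <;> rw [e2, h]
      · exact Or.inl S.τ_a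
      · exact Or.inr (by rw [map_inv, S.τ_a])
    have hm0 : m ∈ S.G0 h0 := by
      have := mul_mem (S.g_mem_G0 h0) (S.line_z_G0 h0 hgm)
      rwa [← mul_assoc, S.gg, one_mul] at this
    obtain ⟨h1, h2⟩ := S.conj_z_N0 h0 (S.G0_N h0 N hN hidx hle hG0 hm0 hmN)
    rcases hza with h | h
    · exact h1 h
    · exact h2 h

theorem v_not_sv : ¬ IsConj (S.Ω S.π0) (S.s * S.Ω S.π0) := fun h => by
  refine S.s_not_sv h0 ((isConj_iff.mpr ⟨S.g, S.τ_s⟩ : IsConj S.s (S.Ω S.π0)).trans h)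

/-- Conjugates of `s` and of `Ω π0` under `N` inside `A₅ × A₅`. -/
theorem class_N0 {k : G} (hk : k ∈ N) {p q : Perm (Fin 5)} (hp : Perm.sign p = 1) (hq : Perm.sign q = 1) :
    (k * S.s * k⁻¹ = S.τ (S.Ω p) * S.Ω q → q = 1) ∧
      (k * S.Ω S.π0 * k⁻¹ = S.τ (S.Ω p) * S.Ω q → p = 1) := by
  have hk' : ∀ x : G, x * x = 1 → k * x * k⁻¹ * (k * x * k⁻¹) = 1 := fun x hx => by
    rw [show k * x * k⁻¹ * (k * x * k⁻¹) = k * (x * x) * k⁻¹ by group, hx, mul_one, mul_inv_cancel]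
  have hvv : S.Ω S.π0 * S.Ω S.π0 = 1 := by
    rw [h0, ← map_mul, ← map_one S.Ω]; exact congrArg S.Ω (by decide)
  have hinv : S.τ (S.Ω p) * S.Ω q * (S.τ (S.Ω p) * S.Ω q) = 1 → p * p = 1 ∧ q * q = 1 := fun h => by
    rw [S.pair_mul h0 p q p q hq hp] at h
    have h2 := S.Ψ_inj h0
      (a₁ := (⟨p * p, Perm.mem_alternatingGroup.mpr (by rw [Perm.sign_mul, hp, one_mul])⟩,
        ⟨q * q, Perm.mem_alternatingGroup.mpr (by rw [Perm.sign_mul, hq, one_mul])⟩)) (a₂ := 1)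
      (by rw [map_one]; exact h)
    exact ⟨congrArg (fun t => (t.1 : Perm (Fin 5))) h2, congrArg (fun t => (t.2 : Perm (Fin 5))) h2⟩
  have hboth : ∀ p q : Perm (Fin 5), Perm.sign p = 1 → Perm.sign q = 1 → p * p = 1 → q * q = 1 → p ≠ 1 → q ≠ 1 →
      IsConj (S.s * S.Ω S.π0) (S.τ (S.Ω p) * S.Ω q) := by
    intro p q hp hq hpp hqq hp1 hq1
    obtain ⟨r, hrs, hr⟩ := invol_conj p hp hpp hp1
    obtain ⟨r', hrs', hr'⟩ := invol_conj q hq hqq hq1
    refine isConj_iff.mpr ⟨S.τ (S.Ω r) * S.Ω r', ?_⟩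
    have e0 : S.τ (S.Ω r) * S.Ω r' * (S.s * S.Ω S.π0) =
        S.τ (S.Ω (r * (swap 0 1 * swap 3 4))) * S.Ω (r' * (swap 0 1 * swap 3 4)) := by
      rw [← S.τ_π0, h0]
      exact S.pair_mul h0 r r' _ _ hrs' (by decide)
    rw [e0, ← hr, ← hr', mul_inv_eq_iff_eq_mul,
      S.pair_mul h0 (r * (swap 0 1 * swap 3 4) * r⁻¹) (r' * (swap 0 1 * swap 3 4) * r'⁻¹) r r'
        (by rw [Perm.sign_mul, Perm.sign_mul, Perm.sign_inv, hrs']; decide) hrs, inv_mul_cancel_right,
      inv_mul_cancel_right]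
  constructor <;> intro he
  · obtain ⟨hpp, hqq⟩ := hinv (he ▸ hk' _ S.ss)
    by_contra hq1
    by_cases hp1 : p = 1
    · obtain ⟨r, hrs, hr⟩ := invol_conj q hq hqq hq1
      refine S.s_not_v_N h0 N hN hidx hle hG0 (k := (S.Ω r)⁻¹ * k)
        (mul_mem (inv_mem (hle (S.Ω_mem_N0 h0 hrs))) hk) ?_
      rw [hp1, map_one, map_one, one_mul] at he
      rw [mul_inv_rev, show (S.Ω r)⁻¹ * k * S.s * (k⁻¹ * (S.Ω r)⁻¹⁻¹) = (S.Ω r)⁻¹ * (k * S.s * k⁻¹) * S.Ω r by group,
        he, ← hr, h0, map_mul, map_mul, map_inv]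
      group
    · exact S.s_not_sv h0 ((isConj_iff.mpr ⟨k, he⟩).trans (hboth p q hp hq hpp hqq hp1 hq1).symm)
  · obtain ⟨hpp, hqq⟩ := hinv (he ▸ hk' _ hvv)
    by_contra hp1
    by_cases hq1 : q = 1
    · obtain ⟨r, hrs, hr⟩ := invol_conj p hp hpp hp1
      refine S.s_not_v_N h0 N hN hidx hle hG0 (k := k⁻¹ * S.τ (S.Ω r))
        (mul_mem (inv_mem hk) (hle (S.τΩ_mem_N0 h0 hrs))) ?_
      rw [hq1, map_one, mul_one] at he
      rw [← hr, map_mul, map_mul, map_inv, map_mul, map_mul, map_inv, ← h0, S.τ_π0] at he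
      rw [mul_inv_rev, inv_inv, show k⁻¹ * S.τ (S.Ω r) * S.s * ((S.τ (S.Ω r))⁻¹ * k) =
        k⁻¹ * (S.τ (S.Ω r) * S.s * (S.τ (S.Ω r))⁻¹) * k by group, ← he]
      group
    · exact S.v_not_sv h0 N hN hidx hle hG0
        ((isConj_iff.mpr ⟨k, he⟩).trans (hboth p q hp hq hpp hqq hp1 hq1).symm)

omit hN hidx hle hG0

/-- The Sylow 2-subgroup of `A₅ × A₅`. -/
def T1 : Subgroup G where
  carrier := {x | ∃ a b c d, x = S.el (vP a b) (vP c d) 0 0}
  one_mem' := ⟨0, 0, 0, 0, by rw [vP_values.1, S.el_one]⟩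
  mul_mem' := by
    rintro _ _ ⟨a, b, c, d, rfl⟩ ⟨a', b', c', d', rfl⟩
    refine ⟨a + a', b + b', c + c', d + d', ?_⟩
    rw [S.el_mul h0 _ _ _ _ _ _ _ _ (vP_sign _ _) (vP_sign _ _) (vP_sign _ _)]
    simp [δc_zero, vP_mul]
  inv_mem' := by
    rintro _ ⟨a, b, c, d, rfl⟩
    refine ⟨a, b, c, d, inv_eq_of_mul_eq_one_right ?_⟩
    rw [S.el_mul h0 _ _ _ _ _ _ _ _ (vP_sign _ _) (vP_sign _ _) (vP_sign _ _)]
    have : ∀ a b : Fin 2, vP (a + a) (b + b) = 1 := by decide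
    simp [δc_zero, vP_mul, this, S.el_one]

theorem T1_facts : Nat.card (S.T1 h0) = 16 ∧ S.T1 h0 ≤ S.N0 h0 ∧
    ∀ x ∈ S.T1 h0, ∀ y ∈ S.T1 h0, Commute x y := by
  refine ⟨?_, ?_, ?_⟩
  · let F : Fin 2 × Fin 2 × Fin 2 × Fin 2 → S.T1 h0 := fun t =>
      ⟨S.el (vP t.1 t.2.1) (vP t.2.2.1 t.2.2.2) 0 0, _, _, _, _, rfl⟩
    have hF : Function.Bijective F := by
      refine ⟨?_, fun x => ?_⟩
      · rintro ⟨a, b, c, d⟩ ⟨a', b', c', d'⟩ h
        obtain ⟨e1, e2, -, -⟩ := S.el_inj h0 (vP_sign _ _) (vP_sign _ _) (vP_sign _ _) (vP_sign _ _)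
          (congrArg Subtype.val h)
        obtain ⟨rfl, rfl⟩ := vP_inj _ _ _ _ e1
        obtain ⟨rfl, rfl⟩ := vP_inj _ _ _ _ e2
        rfl
      · obtain ⟨a, b, c, d, e⟩ := x.2
        exact ⟨⟨a, b, c, d⟩, Subtype.ext e.symm⟩
    rw [← Nat.card_congr (Equiv.ofBijective F hF)]; simp
  · rintro _ ⟨a, b, c, d, rfl⟩
    exact S.el_mem_N0 h0 (vP_sign _ _) (vP_sign _ _)
  · rintro _ ⟨a, b, c, d, rfl⟩ _ ⟨a', b', c', d', rfl⟩
    show _ = _
    rw [S.el_mul h0 _ _ _ _ _ _ _ _ (vP_sign _ _) (vP_sign _ _) (vP_sign _ _),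
      S.el_mul h0 _ _ _ _ _ _ _ _ (vP_sign _ _) (vP_sign _ _) (vP_sign _ _)]
    simp [δc_zero, vP_mul, add_comm]

include hN hidx hle hG0

/-- `T1` is a Sylow 2-subgroup of any subgroup of `N` containing it. -/
theorem T1_sylow {H : Subgroup G} (hH : H ≤ N) (hT : S.T1 h0 ≤ H) :
    ∃ P : Sylow 2 H, (P : Subgroup H) = (S.T1 h0).subgroupOf H := by
  haveI : Fact (Nat.Prime 2) := ⟨Nat.prime_two⟩
  have hp : IsPGroup 2 ((S.T1 h0).subgroupOf H) :=
    (IsPGroup.of_card (n := 4) (p := 2) (S.T1_facts h0).1).comap_of_injective H.subtype H.subtype_injective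
  obtain ⟨P, hP⟩ := hp.exists_le_sylow
  refine ⟨P, (Subgroup.eq_of_le_of_card_ge hP ?_).symm⟩
  rw [Nat.card_congr (Subgroup.subgroupOfEquivOfLe hT).toEquiv, (S.T1_facts h0).1,
    ← Subgroup.card_map_of_injective H.subtype_injective]
  exact S.two_le_sixteen h0 N hN hidx hle hG0 (P.2.map H.subtype) (le_trans (Subgroup.map_subtype_le _) hH)

theorem cent_s_comm_u1 {x : G} (hxN : x ∈ N) (hxs : Commute x S.s) : Commute x S.u1 := by
  classical
  haveI : Fact (Nat.Prime 2) := ⟨Nat.prime_two⟩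
  set H := Subgroup.centralizer ({S.s} : Set G) ⊓ N with hH
  have hu1 : S.u1 = S.τ (S.Ω (swap 0 3 * swap 1 4)) := rfl
  have hTH : S.T1 h0 ≤ H := by
    rintro y hy
    refine ⟨Subgroup.mem_centralizer_singleton_iff.mpr ((S.T1_facts h0).2.2 y hy S.s ?_).eq,
      hle ((S.T1_facts h0).2.1 hy)⟩
    exact ⟨0, 1, 0, 0, (S.el_s h0).symm⟩
  have hu1T : S.u1 ∈ S.T1 h0 := ⟨1, 0, 0, 0, by simp [el, vP_values, hu1]⟩
  obtain ⟨huu, hus, -, -, -⟩ := S.u1_facts h0
  obtain ⟨P, hP⟩ := S.T1_sylow h0 N hN hidx hle hG0 (H := H) inf_le_right hTH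
  set u : H := ⟨S.u1, hTH hu1T⟩ with hu
  have hu2 : orderOf u = 2 := by
    rw [← Subgroup.orderOf_coe]
    refine orderOf_eq_prime (show S.u1 ^ 2 = 1 by rw [sq]; exact huu) fun h => ?_
    change S.u1 = 1 at h
    rw [hu1, ← map_one S.τ] at h
    exact absurd (S.Ω_inj ((S.τ.injective h).trans (map_one _).symm)) (by decide)
  have huP : u ∈ (P : Subgroup H) := by rw [hP]; exact Subgroup.mem_subgroupOf.mpr hu1T
  have hHs : ∀ h : H, (h : G) * S.s * (h : G)⁻¹ = S.s := fun h => by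
    rw [Subgroup.mem_centralizer_singleton_iff.mp h.2.1, mul_inv_cancel_right]
  have hA : ∀ k : G, k ∈ N → k * S.u1 * k⁻¹ ∈ S.T1 h0 →
      k * S.u1 * k⁻¹ = S.s ∨ k * S.u1 * k⁻¹ = S.u1 ∨ k * S.u1 * k⁻¹ = S.u1 * S.s := by
    intro k hk hkT
    obtain ⟨a, b, c, d, e⟩ := hkT
    obtain ⟨r, hrs, hr⟩ := invol_conj (swap 0 3 * swap 1 4) (by decide) (by decide) (by decide)
    have e' : k * S.τ (S.Ω r) * S.s * (k * S.τ (S.Ω r))⁻¹ = S.τ (S.Ω (vP a b)) * S.Ω (vP c d) := by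
      rw [show S.τ (S.Ω (vP a b)) * S.Ω (vP c d) = S.el (vP a b) (vP c d) 0 0 by simp [el], ← e, hu1, ← hr, ← h0,
        map_mul, map_mul, map_inv, map_mul, map_mul, map_inv, S.τ_π0]
      group
    have hc1 := (S.class_N0 h0 N hN hidx hle hG0 (mul_mem hk (hle (S.τΩ_mem_N0 h0 hrs))) (vP_sign a b) (vP_sign c d)).1 e'
    have e2 : k * S.u1 * k⁻¹ = S.τ (S.Ω (vP a b)) := by rw [e]; simp [el, hc1]
    have hs : S.τ (S.Ω (swap 0 1 * swap 3 4)) = S.s := by rw [← h0, S.τ_π0]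
    rw [e2, S.pow_vP, hs]
    fin_cases a <;> fin_cases b
    · exfalso
      rw [S.pow_vP] at e2
      simp only [Fin.zero_eta, Fin.val_zero, pow_zero, one_mul, conj_eq_one_iff] at e2
      rw [show u = 1 from Subtype.ext e2, orderOf_one] at hu2
      exact absurd hu2 (by norm_num)
    · exact Or.inl (by simp)
    · exact Or.inr (Or.inl (by simp))
    · exact Or.inr (Or.inr (by simp))
  have hiso : ∀ g : H, g * u * g⁻¹ ∈ P → g * u * g⁻¹ = u := by
    intro g hg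
    have hgT : (g : G) * S.u1 * (g : G)⁻¹ ∈ S.T1 h0 := by
      rw [← SetLike.mem_coe] at hg
      have : g * u * g⁻¹ ∈ (P : Subgroup H) := hg
      rw [hP, Subgroup.mem_subgroupOf] at this
      simpa using this
    rcases hA (g : G) g.2.2 hgT with e | e | e
    · exfalso
      have h2 : (g : G) * S.u1 * (g : G)⁻¹ = (g : G) * S.s * (g : G)⁻¹ := by rw [e, hHs g]
      have h3 : S.u1 = S.s := mul_left_cancel (mul_right_cancel h2)
      rw [hu1, ← S.τ_π0, h0] at h3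
      exact absurd (S.Ω_inj (S.τ.injective h3)) (by decide)
    · exact Subtype.ext e
    · exfalso
      haveI : IsMulCommutative (P : Subgroup H) := ⟨⟨fun x y => by
        refine Subtype.ext (Subtype.ext ?_)
        have hx := (SetLike.ext_iff.mp hP _).mp x.2
        have hy := (SetLike.ext_iff.mp hP _).mp y.2
        exact ((S.T1_facts h0).2.2 _ (Subgroup.mem_subgroupOf.mp hx) _ (Subgroup.mem_subgroupOf.mp hy)).eq⟩⟩
      obtain ⟨n, hn, hne⟩ := P.conj_eq_normalizer_conj_of_mem u g⁻¹ huP (by rwa [inv_inv])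
      rw [inv_inv] at hne
      set m := n⁻¹ with hm
      have hmn : m ∈ Subgroup.normalizer ((P : Subgroup H) : Set H) := inv_mem hn
      have hmu : (m : G) * S.u1 * (m : G)⁻¹ = S.u1 * S.s := by
        rw [← e]
        have := congrArg Subtype.val hne
        simp only [Subgroup.coe_mul, Subgroup.coe_inv] at this
        simp only [hm, Subgroup.coe_inv, inv_inv]
        exact this.symm
      have hiter : ∀ j : ℕ, ((m ^ j : H) : G) * S.u1 * ((m ^ j : H) : G)⁻¹ = S.u1 * S.s ^ j := by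
        intro j
        induction j with
        | zero => simp
        | succ j ih =>
          rw [pow_succ', Subgroup.coe_mul, mul_inv_rev,
            show (m : G) * ((m ^ j : H) : G) * S.u1 * (((m ^ j : H) : G)⁻¹ * (m : G)⁻¹) =
              (m : G) * (((m ^ j : H) : G) * S.u1 * ((m ^ j : H) : G)⁻¹) * (m : G)⁻¹ by group, ih,
            show (m : G) * (S.u1 * S.s ^ j) * (m : G)⁻¹ = ((m : G) * S.u1 * (m : G)⁻¹) * ((m : G) * S.s ^ j * (m : G)⁻¹) by group,
            ← conj_pow, hHs m, hmu, mul_assoc, ← pow_succ']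
      obtain ⟨e2, r, hr, her⟩ := Nat.exists_eq_two_pow_mul_odd (orderOf_pos m).ne'
      have hp2 : IsPGroup 2 (Subgroup.zpowers (m ^ r)) := by
        refine IsPGroup.of_card (n := e2) ?_
        rw [Nat.card_zpowers, orderOf_pow, her, Nat.gcd_mul_left_left, Nat.mul_div_cancel _ hr.pos]
      have hmem : m ^ r ∈ (P : Subgroup H) := by
        have hsup := IsPGroup.to_sup_of_normal_right' hp2 P.2
          ((Subgroup.zpowers_le).mpr (pow_mem hmn r))
        rw [← P.3 hsup le_sup_right]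
        exact Subgroup.mem_sup_left (Subgroup.mem_zpowers _)
      rw [hP, Subgroup.mem_subgroupOf] at hmem
      have h1 := hiter r
      rw [((S.T1_facts h0).2.2 _ hmem _ hu1T).eq, mul_inv_cancel_right] at h1
      obtain ⟨j, rfl⟩ := hr
      rw [pow_succ, pow_mul, sq, S.ss, one_pow, one_mul] at h1
      exact S.s_ne (mul_eq_left.mp h1.symm)
  obtain ⟨O, hOn, hOodd, hOc⟩ := ZStar.exists_normal_odd_commutator_mem P u hu2 huP hiso
  set O2 := Cfsg.pPrimeCore 2 H with hO2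
  haveI hO2n : O2.Normal := Transfer.pPrimeCore_normal 2 H
  have hO2odd : Odd (Nat.card O2) := ZStar.odd_card_core
  have hOle : O ≤ O2 := le_sSup ⟨hOn, Nat.coprime_two_right.mpr hOodd⟩
  set O' := O2.map H.subtype with hO'
  have hO'odd : Odd (Nat.card O') := by rw [hO', Subgroup.card_map_of_injective H.subtype_injective]; exact hO2odd
  have hinv : ∀ t : G, Commute t S.s → ∀ y ∈ O', t * y * t⁻¹ ∈ O' := by
    intro t hts y hy
    obtain ⟨⟨y, hyH⟩, hy2, rfl⟩ := hy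
    have hmem : ∀ {t : G}, Commute t S.s → ∀ {v : G}, v ∈ H → t * v * t⁻¹ ∈ H := fun {t} ht {v} hv =>
      ⟨Subgroup.mem_centralizer_singleton_iff.mpr
        ((ht.mul_left (Subgroup.mem_centralizer_singleton_iff.mp hv.1)).mul_left ht.inv_left).eq,
        hN.conj_mem v hv.2 t⟩
    let φ : H →* H := MonoidHom.mk' (fun v => ⟨t * v * t⁻¹, hmem hts v.2⟩) fun v v' => Subtype.ext (by
      show t * ((v : G) * v') * t⁻¹ = t * v * t⁻¹ * (t * v' * t⁻¹); group)
    have hφi : Function.Injective φ := fun v v' h =>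
      Subtype.ext (mul_left_cancel (mul_right_cancel (congrArg Subtype.val h)))
    have hφs : Function.Surjective φ := Finite.surjective_of_injective hφi
    have : O2.map φ ≤ O2 := le_sSup ⟨hO2n.map φ hφs, by
      rw [Subgroup.card_map_of_injective hφi]; exact Nat.coprime_two_right.mpr hO2odd⟩
    exact ⟨φ ⟨y, hyH⟩, this ⟨⟨y, hyH⟩, hy2, rfl⟩, rfl⟩
  have hO'H : ∀ y ∈ O', y ∈ N ∧ Commute y S.s := by
    rintro y ⟨⟨y, hyH⟩, -, rfl⟩
    exact ⟨hyH.2, Subgroup.mem_centralizer_singleton_iff.mp hyH.1⟩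
  have hpow : ∀ y ∈ O', y ^ Nat.card O' = 1 := fun y hy => by
    have := congrArg Subtype.val (pow_card_eq_one' (x := (⟨y, hy⟩ : O')))
    rwa [SubgroupClass.coe_pow, OneMemClass.coe_one] at this
  -- nothing of `O'` lies in `A₅ × A₅`
  have hsmall : ∀ y ∈ O', y ∈ S.N0 h0 → y = 1 := by
    intro y hy hy0
    obtain ⟨p, q, hp, hq, rfl⟩ := (S.mem_N0 h0).mp hy0
    have hps : p * (swap 0 1 * swap 3 4) = swap 0 1 * swap 3 4 * p := by
      have h1 : Commute (S.τ (S.Ω p)) S.s := by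
        have := (hO'H _ hy).2.mul_left (S.sΩ q).symm.inv_left
        rwa [mul_inv_cancel_right] at this
      rw [← S.τ_π0] at h1
      refine S.Ω_inj (S.τ.injective ?_)
      rw [← h0, map_mul, map_mul, map_mul, map_mul]
      exact h1.eq
    have hp1 : p = 1 := by
      have h8 := cent_pi0_eight p hps
      have hn := hpow _ hy
      rw [(S.commute_factors h0 p q hp hq).mul_pow, ← map_pow, ← map_pow, ← map_pow] at hn
      have h2 := S.Ψ_inj h0
        (a₁ := (⟨p ^ Nat.card O', Perm.mem_alternatingGroup.mpr (by rw [map_pow, hp, one_pow])⟩,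
          ⟨q ^ Nat.card O', Perm.mem_alternatingGroup.mpr (by rw [map_pow, hq, one_pow])⟩)) (a₂ := 1)
        (by rw [map_one]; exact hn)
      exact eq_one_of_pow_eight hO'odd (congrArg (fun t => (t.1 : Perm (Fin 5))) h2) h8
    subst hp1
    rw [map_one, map_one, one_mul] at hy ⊢
    by_contra hne
    have hq1 : q ≠ 1 := fun h => hne (by rw [h, map_one])
    have hall := alt_five_all (O'.comap S.Ω) (fun r q' hr _ hq' => by
      show S.Ω (r * q' * r⁻¹) ∈ O'
      rw [map_mul, map_mul, map_inv]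
      exact hinv _ (S.sΩ r).symm _ hq') hq hq1 hy (q := swap 0 1 * swap 3 4) (by decide)
    have hall' : S.Ω (swap 0 1 * swap 3 4) ∈ O' := hall
    have h2 := hpow _ hall'
    obtain ⟨j, hj⟩ := hO'odd
    rw [hj, pow_succ, pow_mul, ← map_pow, show (swap (0 : Fin 5) 1 * swap 3 4) ^ 2 = 1 by decide, map_one,
      one_pow, one_mul, ← map_one S.Ω] at h2
    exact absurd (S.Ω_inj h2) (by decide)
  have hwi : S.w⁻¹ = S.w := inv_eq_of_mul_eq_one_left S.ww
  have hoi : S.o⁻¹ = S.o := inv_eq_of_mul_eq_one_left S.oo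
  have hws : Commute S.w S.s := (S.sΩ (swap 3 4)).symm
  have hos : Commute S.o S.s := (S.sΩ (swap 0 1)).symm
  have hw' : ∀ y ∈ O', S.w * y * S.w = y⁻¹ :=
    invert_of_fpf O' hO'odd S.ww (fun y hy => by simpa [hwi] using hinv _ hws y hy) fun y hy hc =>
      hsmall y hy (S.G0_N h0 N hN hidx hle hG0 (S.cent_w_G0 h0 hc) (hO'H y hy).1)
  have ho' : ∀ y ∈ O', S.o * y * S.o = y⁻¹ :=
    invert_of_fpf O' hO'odd S.oo (fun y hy => by simpa [hoi] using hinv _ hos y hy) fun y hy hc => by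
      refine hsmall y hy (S.G0_N h0 N hN hidx hle hG0 ?_ (hO'H y hy).1)
      obtain ⟨r1, r2, -⟩ := S.ρ_conj
      have hρ : S.Θ ρL ∈ S.G0 h0 := S.Θ_mem_G0 h0 ρL
      have hc' : Commute ((S.Θ ρL) * y * (S.Θ ρL)⁻¹) S.w := by
        show _ = _
        rw [← r2]
        calc S.Θ ρL * y * (S.Θ ρL)⁻¹ * (S.Θ ρL * S.o * (S.Θ ρL)⁻¹) = S.Θ ρL * (y * S.o) * (S.Θ ρL)⁻¹ := by group
          _ = _ := by rw [hc.eq]; group
      have h1 := mul_mem (mul_mem (inv_mem hρ) (S.cent_w_G0 h0 hc')) hρ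
      rwa [show (S.Θ ρL)⁻¹ * (S.Θ ρL * y * (S.Θ ρL)⁻¹) * S.Θ ρL = y by group] at h1
  have hv : ∀ y ∈ O', Commute (S.Ω S.π0) y := by
    intro y hy
    have h1 := prod_centralizes (ho' y hy) (t' := S.w) (by
      have := hw' y⁻¹ (inv_mem hy); rwa [inv_inv] at this)
    have how : Commute S.w S.o := S.Θ_commute (by decide)
    rw [S.π0_ow h0]
    refine mul_inv_eq_iff_eq_mul.mp ?_
    rw [mul_inv_rev, hwi, hoi, how.eq.symm]
    rwa [how.eq.symm] at h1
  have hO'one : ∀ y ∈ O', y = 1 := by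
    intro y hy
    refine hsmall y hy (S.G0_N h0 N hN hidx hle hG0 (S.cent_a_G0 h0 ?_) (hO'H y hy).1)
    have hall := alt_five_all ((Subgroup.centralizer (O' : Set G)).comap S.Ω) (fun r q hr _ hq => by
      refine Subgroup.mem_centralizer_iff.mpr fun t ht => ?_
      have h1 := Subgroup.mem_centralizer_iff.mp hq _ (hinv _ (S.sΩ r⁻¹).symm t ht)
      simp only [map_inv, inv_inv] at h1
      rw [map_mul, map_mul, map_inv]
      calc t * (S.Ω r * S.Ω q * (S.Ω r)⁻¹)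
          = S.Ω r * ((S.Ω r)⁻¹ * t * S.Ω r * S.Ω q) * (S.Ω r)⁻¹ := by group
        _ = _ := by rw [h1]; group)
      (q₀ := S.π0) (by rw [h0]; decide) (by rw [h0]; decide)
      (Subgroup.mem_centralizer_iff.mpr fun t ht => (hv t ht).eq.symm) (q := cA) (by decide)
    exact Subgroup.mem_centralizer_iff.mp hall y hy
  have h1 := hO'one _ ⟨_, hOle (hOc ⟨x, Subgroup.mem_centralizer_singleton_iff.mpr hxs.eq, hxN⟩), rfl⟩
  have h2 : S.u1 * x * S.u1⁻¹ * x⁻¹ = 1 := h1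
  exact (mul_inv_eq_iff_eq_mul.mp (mul_inv_eq_one.mp h2)).symm

theorem cent_s_le {x : G} (hxN : x ∈ N) (hxs : Commute x S.s) : x ∈ S.N0 h0 := by
  classical
  set H := Subgroup.centralizer ({S.s} : Set G) ⊓ N with hH
  have hu : ∀ h : H, Commute (h : G) S.u1 := fun h => S.cent_s_comm_u1 h0 N hN hidx hle hG0 h.2.2
    (Subgroup.mem_centralizer_singleton_iff.mp h.2.1)
  have hπs : S.τ (S.Ω (swap 0 1 * swap 3 4)) = S.s := by rw [← h0, S.τ_π0]
  have hV : ∀ i j, Commute S.s (S.τ (S.Ω (vP i j))) ∧ ∀ h : H, Commute (h : G) (S.τ (S.Ω (vP i j))) := by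
    intro i j
    rw [S.pow_vP, hπs]
    have hus : Commute S.s S.u1 := (hu ⟨S.s, Subgroup.mem_centralizer_singleton_iff.mpr rfl,
      hle (S.s_mem_N0 h0)⟩)
    exact ⟨(hus.pow_right _).mul_right ((Commute.refl _).pow_right _),
      fun h => ((hu h).pow_right _).mul_right
        ((show Commute (h : G) S.s from Subgroup.mem_centralizer_singleton_iff.mp h.2.1).pow_right _)⟩
  have hVH : ∀ i j, S.τ (S.Ω (vP i j)) ∈ H := fun i j =>
    ⟨Subgroup.mem_centralizer_singleton_iff.mpr (hV i j).1.eq.symm, hle (S.τΩ_mem_N0 h0 (vP_sign _ _))⟩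
  let V : Subgroup H :=
    { carrier := {h | ∃ i j, (h : G) = S.τ (S.Ω (vP i j))}
      one_mem' := ⟨0, 0, by simp [vP_values]⟩
      mul_mem' := by
        rintro h h' ⟨i, j, e⟩ ⟨i', j', e'⟩
        exact ⟨i + i', j + j', by rw [Subgroup.coe_mul, e, e', ← map_mul, ← map_mul, vP_mul]⟩
      inv_mem' := by
        rintro h ⟨i, j, e⟩
        refine ⟨i, j, ?_⟩
        rw [Subgroup.coe_inv, e, ← map_inv, ← map_inv]
        exact congrArg _ (congrArg _ (vP_inv i j)) }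
  have hVz : ∀ v ∈ V, ∀ h : H, h * v = v * h := fun v ⟨i, j, e⟩ h => Subtype.ext (by
    simp only [Subgroup.coe_mul, e]; exact ((hV i j).2 h).eq)
  haveI : V.Normal := ⟨fun v hv h => by rw [hVz v hv h, mul_inv_cancel_right]; exact hv⟩
  set π := QuotientGroup.mk' V with hπ
  have hV4 : Nat.card V = 4 := by
    let F : Fin 2 × Fin 2 → V := fun t => ⟨⟨_, hVH t.1 t.2⟩, t.1, t.2, rfl⟩
    have hF : Function.Bijective F := by
      refine ⟨fun t t' h => ?_, fun v => ?_⟩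
      · obtain ⟨e1, e2⟩ := vP_inj _ _ _ _ (S.Ω_inj (S.τ.injective (congrArg (fun v : V => ((v : H) : G)) h)))
        exact Prod.ext e1 e2
      · obtain ⟨i, j, e⟩ := v.2
        exact ⟨(i, j), Subtype.ext (Subtype.ext e.symm)⟩
    rw [← Nat.card_congr (Equiv.ofBijective F hF)]; simp
  have hΩH : ∀ q : alternatingGroup (Fin 5), S.E2 q ∈ H := fun q =>
    ⟨Subgroup.mem_centralizer_singleton_iff.mpr (S.sΩ (q : Perm (Fin 5))).eq.symm,
      hle (S.Ω_mem_N0 h0 (Perm.mem_alternatingGroup.mp q.2))⟩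
  let f : alternatingGroup (Fin 5) →* H ⧸ V := π.comp (S.E2.codRestrict H hΩH)
  have hfi : Function.Injective f := by
    rw [injective_iff_map_eq_one]
    intro q hq
    obtain ⟨i, j, e⟩ := (QuotientGroup.eq_one_iff _).mp hq
    have e' : S.Ω (q : Perm (Fin 5)) = S.τ (S.Ω (vP i j)) := e
    have h := S.Ψ_inj h0 (a₁ := (1, q)) (a₂ := (⟨vP i j, Perm.mem_alternatingGroup.mpr (vP_sign i j)⟩, 1)) (by
      rw [S.Ψ_apply h0, S.Ψ_apply h0]
      simpa using e')
    exact congrArg Prod.snd h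
  haveI : IsSimpleGroup (alternatingGroup (Fin 5)) := alternatingGroup.isSimpleGroup (by simp)
  set aA : alternatingGroup (Fin 5) := ⟨cA, Perm.mem_alternatingGroup.mpr (by decide)⟩ with haA
  have hoa : orderOf (f aA) = 3 :=
    orderOf_eq_prime (by rw [← map_pow, show aA ^ 3 = 1 from Subtype.ext (by rw [SubgroupClass.coe_pow]; decide), map_one])
      ((map_ne_one_iff f hfi).mpr fun h => absurd (congrArg Subtype.val h) (by decide))
  have hsc : SCThree.SC (f aA) := by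
    refine ⟨Nat.prime_three, hoa, le_antisymm (fun y hy => ?_) ?_⟩
    · obtain ⟨h, rfl⟩ := QuotientGroup.mk'_surjective V y
      set aH : H := ⟨S.E2 aA, hΩH aA⟩ with haH
      have e : π (h * aH * h⁻¹ * aH⁻¹) = 1 := by
        rw [map_mul, map_mul, map_mul, map_inv, map_inv]
        have := Subgroup.mem_centralizer_singleton_iff.mp hy
        change π h * π aH = π aH * π h at this
        rw [this, mul_inv_cancel_right, mul_inv_cancel]
      obtain ⟨i, j, e'⟩ := (QuotientGroup.eq_one_iff _).mp e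
      simp only [Subgroup.coe_mul, Subgroup.coe_inv] at e'
      change (h : G) * S.a * (h : G)⁻¹ * S.a⁻¹ = S.τ (S.Ω (vP i j)) at e'
      have hta : Commute (S.τ (S.Ω (vP i j))) S.a := by
        rw [← S.τ_z]; exact (S.zΩ (vP i j)).symm.map S.τ.toMonoidHom
      have e2 : (h : G) * S.a * (h : G)⁻¹ = S.τ (S.Ω (vP i j)) * S.a := mul_inv_eq_iff_eq_mul.mp e'
      have h3 : ((h : G) * S.a * (h : G)⁻¹) ^ 3 = 1 := by rw [conj_pow, S.ha3, mul_one, mul_inv_cancel]
      rw [e2, hta.mul_pow, S.ha3, mul_one, ← map_pow, ← map_pow, ← map_one S.τ] at h3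
      have hv : vP i j ^ 3 = 1 := S.Ω_inj ((S.τ.injective h3).trans (map_one _).symm)
      have hij : ∀ i j : Fin 2, vP i j ^ 3 = 1 → vP i j = 1 := by decide +kernel
      rw [hij i j hv, map_one, map_one, one_mul, mul_inv_eq_iff_eq_mul] at e2
      have hh0 := S.G0_N h0 N hN hidx hle hG0 (S.cent_a_G0 h0 e2) h.2.2
      obtain ⟨p, q, hp, hq, ehq⟩ := (S.mem_N0 h0).mp hh0
      have hqa : q * cA = cA * q := by
        have hpa : Commute (S.τ (S.Ω p)) S.a := by rw [← S.τ_z]; exact (S.zΩ p).symm.map S.τ.toMonoidHom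
        have h1 : Commute (S.τ (S.Ω p) * S.Ω q) S.a := ehq ▸ e2
        have h2 := hpa.inv_left.mul_left h1
        rw [inv_mul_cancel_left, S.a_eq] at h2
        exact S.Ω_inj (by rw [map_mul, map_mul]; exact h2.eq)
      obtain ⟨k, rfl⟩ := alt_cent_cA q hq hqa
      have hps : p * (swap 0 1 * swap 3 4) = swap 0 1 * swap 3 4 * p := by
        have h1 : Commute (S.τ (S.Ω p)) S.s := by
          have hhs : Commute (h : G) S.s := Subgroup.mem_centralizer_singleton_iff.mp h.2.1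
          rw [ehq] at hhs
          have := hhs.mul_left (S.sΩ (cA ^ (k : ℕ))).symm.inv_left
          rwa [mul_inv_cancel_right] at this
        rw [← S.τ_π0] at h1
        refine S.Ω_inj (S.τ.injective ?_)
        rw [← h0, map_mul, map_mul, map_mul, map_mul]
        exact h1.eq
      obtain ⟨i', j', rfl⟩ := cent_pi0_four p hp hps
      have eh : h = ⟨_, hVH i' j'⟩ * aH ^ (k : ℕ) := by
        refine Subtype.ext ?_
        rw [ehq, map_pow]
        rfl
      rw [eh, map_mul, show π ⟨_, hVH i' j'⟩ = 1 from (QuotientGroup.eq_one_iff _).mpr ⟨i', j', rfl⟩,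
        one_mul, map_pow]
      exact pow_mem (Subgroup.mem_zpowers (f aA)) _
    · rw [Subgroup.zpowers_le]
      exact Subgroup.mem_centralizer_singleton_iff.mpr rfl
  set O := SCThree.core3 (H ⧸ V) with hO
  have hO3 : ¬ 3 ∣ Nat.card O := SCThree.not_three_dvd_core3
  have hOf : O.comap f = ⊥ := by
    rcases (Subgroup.Normal.comap (inferInstance : O.Normal) f).eq_bot_or_eq_top with h | h
    · exact h
    · exfalso
      refine hO3 ?_
      have hm' : aA ∈ O.comap f := by rw [h]; exact Subgroup.mem_top _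
      have hm : f aA ∈ O := hm'
      rw [← hoa, ← Subgroup.orderOf_mk (f aA) hm]
      exact orderOf_dvd_natCard _
  have h60 : 60 ≤ O.index := by
    rw [Subgroup.index_eq_card]
    have hinj : Function.Injective ((QuotientGroup.mk' O).comp f) := by
      rw [← MonoidHom.ker_eq_bot_iff, ← MonoidHom.comap_ker, QuotientGroup.ker_mk', hOf]
    refine le_trans (le_of_eq ?_) (Nat.card_le_card_of_injective _ hinj)
    rw [nat_card_alternatingGroup, Nat.card_fin]; rfl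
  have hY : Nat.card (H ⧸ V) = 60 := by
    rcases SCThree.shape_of_selfCent hsc with (h | h) | ⟨h, -, -, hsq⟩ | ⟨-, h, -⟩
    · change O.index = 3 at h; omega
    · change O.index = 6 at h; omega
    · have hp : IsPGroup 2 O := fun y => ⟨1, Subtype.ext (by rw [pow_one, sq]; simpa using hsq y y.2)⟩
      obtain ⟨n, hn⟩ := IsPGroup.iff_card.mp hp
      have hc : Nat.card H = 4 * (2 ^ n * 60) := by
        rw [← V.card_mul_index, hV4, Subgroup.index_eq_card, ← O.card_mul_index, hn, h]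
      obtain ⟨P⟩ := (inferInstance : Nonempty (Sylow 2 H))
      have h16 := S.two_le_sixteen h0 N hN hidx hle hG0 (P.2.map H.subtype)
        (le_trans (Subgroup.map_subtype_le _) inf_le_right)
      haveI : Fact (Nat.Prime 2) := ⟨Nat.prime_two⟩
      rw [Subgroup.card_map_of_injective H.subtype_injective, P.card_eq_multiplicity, hc,
        show 4 * (2 ^ n * 60) = 2 ^ (n + 4) * 15 by ring, Nat.factorization_mul (by positivity) (by norm_num),
        Finsupp.add_apply, Nat.Prime.factorization_pow Nat.prime_two,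
        Nat.factorization_eq_zero_of_not_dvd (n := 15) (by norm_num), Finsupp.single_eq_same, add_zero,
        show (16 : ℕ) = 2 ^ 4 by norm_num, Nat.pow_le_pow_iff_right (by norm_num)] at h16
      have hn0 : n = 0 := by omega
      rw [← O.card_mul_index, hn, h, hn0]
      rfl
    · exfalso
      have hd : Nat.card (alternatingGroup (Fin 5)) ∣ Nat.card (H ⧸ V) := by
        rw [Nat.card_congr (MonoidHom.ofInjective hfi).toEquiv]
        exact Subgroup.card_subgroup_dvd_card _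
      rw [nat_card_alternatingGroup, Nat.card_fin, h] at hd
      norm_num [Nat.factorial] at hd
  have hsurj : Function.Surjective f := ((Nat.bijective_iff_injective_and_card f).mpr ⟨hfi, by
    rw [hY, nat_card_alternatingGroup, Nat.card_fin]; rfl⟩).2
  obtain ⟨q, hq⟩ := hsurj (π ⟨x, Subgroup.mem_centralizer_singleton_iff.mpr hxs.eq, hxN⟩)
  have hm := QuotientGroup.eq.mp hq
  obtain ⟨i, j, e⟩ := hm
  have e' : (S.E2 q)⁻¹ * x = S.τ (S.Ω (vP i j)) := e
  rw [inv_mul_eq_iff_eq_mul] at e'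
  rw [e']
  exact mul_mem (S.Ω_mem_N0 h0 (Perm.mem_alternatingGroup.mp q.2)) (S.τΩ_mem_N0 h0 (vP_sign i j))

theorem cent_v_le {x : G} (hxN : x ∈ N) (hxv : Commute x (S.Ω S.π0)) : x ∈ S.N0 h0 := by
  have h1 : Commute (S.τ x) S.s := by
    have := hxv.map S.τ.toMonoidHom
    simpa [S.τ_π0] using this
  have h2 := S.cent_s_le h0 N hN hidx hle hG0 (S.τ_mem_normal h0 N hN hxN) h1
  have h3 := (Subgroup.mem_normalizer_iff.mp (S.g_norm_N0 h0) _).mp h2
  rwa [show S.g * S.τ x * S.g⁻¹ = x by rw [S.g_inv, ← S.τ_apply, S.τ_τ]] at h3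

set_option maxHeartbeats 1000000 in
theorem cent_sv_le {x : G} (hxN : x ∈ N) (hxv : Commute x (S.s * S.Ω S.π0)) : x ∈ S.N0 h0 := by
  classical
  haveI : Fact (Nat.Prime 2) := ⟨Nat.prime_two⟩
  set H := Subgroup.centralizer ({S.s * S.Ω S.π0} : Set G) ⊓ N with hH
  have hsT : S.s ∈ S.T1 h0 := ⟨0, 1, 0, 0, (S.el_s h0).symm⟩
  have hvT : S.Ω S.π0 ∈ S.T1 h0 := ⟨0, 0, 0, 1, (S.el_v h0).symm⟩
  have hTH : S.T1 h0 ≤ H := fun y hy =>
    ⟨Subgroup.mem_centralizer_singleton_iff.mpr ((S.T1_facts h0).2.2 y hy _ (mul_mem hsT hvT)).eq,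
      hle ((S.T1_facts h0).2.1 hy)⟩
  obtain ⟨P, hP⟩ := S.T1_sylow h0 N hN hidx hle hG0 (H := H) inf_le_right hTH
  have hNC : Subgroup.normalizer ((P : Subgroup H) : Set H) ≤ Subgroup.centralizer ((P : Subgroup H) : Set H) := by
    intro n hn
    have hconj : ∀ y ∈ S.T1 h0, (n : G) * y * (n : G)⁻¹ ∈ S.T1 h0 := by
      intro y hy
      have h1 : (⟨y, hTH hy⟩ : H) ∈ (P : Subgroup H) := by rw [hP]; exact Subgroup.mem_subgroupOf.mpr hy
      have h2 := (Subgroup.mem_normalizer_iff.mp hn _).mp h1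
      rw [hP, Subgroup.mem_subgroupOf] at h2
      simpa using h2
    obtain ⟨a, b, c, d, e1⟩ := hconj _ hsT
    obtain ⟨a', b', c', d', e2⟩ := hconj _ hvT
    have hq1 := (S.class_N0 h0 N hN hidx hle hG0 n.2.2 (vP_sign a b) (vP_sign c d)).1 (by rw [e1]; simp [el])
    have hp1 := (S.class_N0 h0 N hN hidx hle hG0 n.2.2 (vP_sign a' b') (vP_sign c' d')).2 (by rw [e2]; simp [el])
    have e3 : (n : G) * S.s * (n : G)⁻¹ = S.el (vP a b) 1 0 0 := by rw [e1, hq1]
    have e4 : (n : G) * S.Ω S.π0 * (n : G)⁻¹ = S.el 1 (vP c' d') 0 0 := by rw [e2, hp1]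
    have e5 : (n : G) * (S.s * S.Ω S.π0) * (n : G)⁻¹ = S.s * S.Ω S.π0 := by
      rw [Subgroup.mem_centralizer_singleton_iff.mp n.2.1, mul_inv_cancel_right]
    rw [show (n : G) * (S.s * S.Ω S.π0) * (n : G)⁻¹ = ((n : G) * S.s * (n : G)⁻¹) * ((n : G) * S.Ω S.π0 * (n : G)⁻¹) by group,
      e3, e4, S.el_mul h0 _ _ _ _ _ _ _ _ (map_one _) (map_one _) (vP_sign _ _), S.sv_eq h0] at e5
    simp only [if_true, δc_zero, mul_one, one_mul] at e5
    obtain ⟨f1, f2, -, -⟩ := S.el_inj h0 (vP_sign _ _) (vP_sign _ _) (vP_sign _ _) (vP_sign _ _) e5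
    rw [f1] at e3
    rw [f2] at e4
    have hns : Commute (n : G) S.s := mul_inv_eq_iff_eq_mul.mp (by
      rw [e3, show (1 : Perm (Fin 5)) = vP 0 0 from vP_values.1.symm]; exact S.el_s h0)
    have hnv : Commute (n : G) (S.Ω S.π0) := mul_inv_eq_iff_eq_mul.mp (by
      rw [e4, show (1 : Perm (Fin 5)) = vP 0 0 from vP_values.1.symm]; exact S.el_v h0)
    obtain ⟨p, q, hp, hq, en⟩ := (S.mem_N0 h0).mp (S.cent_s_le h0 N hN hidx hle hG0 n.2.2 hns)
    have hps : p * (swap 0 1 * swap 3 4) = swap 0 1 * swap 3 4 * p := by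
      have h1 : Commute (S.τ (S.Ω p)) S.s := by
        have := (en ▸ hns).mul_left (S.sΩ q).symm.inv_left
        rwa [mul_inv_cancel_right] at this
      rw [← S.τ_π0] at h1
      refine S.Ω_inj (S.τ.injective ?_)
      rw [← h0, map_mul, map_mul, map_mul, map_mul]
      exact h1.eq
    have hqv : q * (swap 0 1 * swap 3 4) = swap 0 1 * swap 3 4 * q := by
      have h2 : Commute (S.τ (S.Ω p)) (S.Ω S.π0) := S.commute_factors h0 p S.π0 hp (by rw [h0]; decide)
      have h1 := h2.inv_left.mul_left (en ▸ hnv)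
      rw [inv_mul_cancel_left, h0] at h1
      exact S.Ω_inj (by rw [map_mul S.Ω q, map_mul S.Ω _ q]; exact h1.eq)
    obtain ⟨i, j, rfl⟩ := cent_pi0_four p hp hps
    obtain ⟨i', j', rfl⟩ := cent_pi0_four q hq hqv
    have hnT : (n : G) ∈ S.T1 h0 := ⟨i, j, i', j', by rw [en]; simp [el]⟩
    refine Subgroup.mem_centralizer_iff.mpr fun y hy => Subtype.ext ?_
    have hy' : y ∈ (P : Subgroup H) := hy
    rw [hP, Subgroup.mem_subgroupOf] at hy'
    exact ((S.T1_facts h0).2.2 _ hy' _ hnT).eq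
  set K := (MonoidHom.transferSylow P hNC).ker with hK
  have hKc : Subgroup.IsComplement' K (P : Subgroup H) := MonoidHom.ker_transferSylow_isComplement' P hNC
  have hKodd : Odd (Nat.card K) :=
    Nat.odd_iff.mpr (Nat.two_dvd_ne_zero.mp (MonoidHom.not_dvd_card_ker_transferSylow P hNC))
  have hKn : K.Normal := MonoidHom.normal_ker (MonoidHom.transferSylow P hNC)
  clear_value K
  set O := K.map H.subtype with hO
  have hOodd : Odd (Nat.card O) := by rw [hO, Subgroup.card_map_of_injective H.subtype_injective]; exact hKodd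
  have hOH : ∀ y ∈ O, y ∈ N ∧ Commute y (S.s * S.Ω S.π0) := by
    rintro y ⟨⟨y, hyH⟩, -, rfl⟩
    exact ⟨hyH.2, Subgroup.mem_centralizer_singleton_iff.mp hyH.1⟩
  have hsmall : ∀ y ∈ O, y ∈ S.N0 h0 → y = 1 := by
    intro y hy hy0
    obtain ⟨p, q, hp, hq, rfl⟩ := (S.mem_N0 h0).mp hy0
    have hc := (hOH _ hy).2.eq
    rw [← S.τ_π0, h0, S.pair_mul h0 p q _ _ hq (by decide), S.pair_mul h0 _ _ p q (by decide) hp] at hc
    have hsπ : Perm.sign (swap 0 1 * swap 3 4 : Perm (Fin 5)) = 1 := by decide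
    have hs1 : ∀ r : Perm (Fin 5), Perm.sign r = 1 → Perm.sign (r * (swap 0 1 * swap 3 4)) = 1 ∧
        Perm.sign (swap 0 1 * swap 3 4 * r) = 1 := fun r hr => by
      rw [map_mul Perm.sign r, map_mul Perm.sign _ r, hr, hsπ]; exact ⟨one_mul _, one_mul _⟩
    have h2 := S.Ψ_inj h0
      (a₁ := (⟨p * (swap 0 1 * swap 3 4), Perm.mem_alternatingGroup.mpr (hs1 p hp).1⟩,
        ⟨q * (swap 0 1 * swap 3 4), Perm.mem_alternatingGroup.mpr (hs1 q hq).1⟩))
      (a₂ := (⟨swap 0 1 * swap 3 4 * p, Perm.mem_alternatingGroup.mpr (hs1 p hp).2⟩,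
        ⟨swap 0 1 * swap 3 4 * q, Perm.mem_alternatingGroup.mpr (hs1 q hq).2⟩))
      hc
    have hpow : (⟨_, hy⟩ : O) ^ Nat.card O = 1 := pow_card_eq_one'
    have hn : (S.τ (S.Ω p) * S.Ω q) ^ Nat.card O = 1 := by
      have := congrArg Subtype.val hpow
      rwa [SubgroupClass.coe_pow, OneMemClass.coe_one] at this
    rw [(S.commute_factors h0 p q hp hq).mul_pow, ← map_pow, ← map_pow, ← map_pow] at hn
    have h3 := S.Ψ_inj h0
      (a₁ := (⟨p ^ Nat.card O, Perm.mem_alternatingGroup.mpr (by rw [map_pow, hp, one_pow])⟩,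
        ⟨q ^ Nat.card O, Perm.mem_alternatingGroup.mpr (by rw [map_pow, hq, one_pow])⟩)) (a₂ := 1)
      (by rw [map_one]; exact hn)
    rw [eq_one_of_pow_eight hOodd (congrArg (fun t => (t.1 : Perm (Fin 5))) h3)
        (cent_pi0_eight p (congrArg (fun t => (t.1 : Perm (Fin 5))) h2)),
      eq_one_of_pow_eight hOodd (congrArg (fun t => (t.2 : Perm (Fin 5))) h3)
        (cent_pi0_eight q (congrArg (fun t => (t.2 : Perm (Fin 5))) h2)),
      map_one, map_one, one_mul]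
  have hsub : ∀ t ∈ S.T1 h0, ∀ y ∈ O, t * y * t⁻¹ ∈ O := by
    rintro t ht _ ⟨y, hy, rfl⟩
    refine Subgroup.mem_map.mpr ⟨⟨t, hTH ht⟩ * y * ⟨t, hTH ht⟩⁻¹, hKn.conj_mem y hy _, ?_⟩
    simp only [Subgroup.coe_subtype, Subgroup.coe_mul, Subgroup.coe_inv]
  have hA : ∀ p : Perm (Fin 5), Perm.sign p = 1 → p * p = 1 → p ≠ 1 → S.τ (S.Ω p) ∈ S.T1 h0 →
      ∀ y ∈ O, S.τ (S.Ω p) * y * S.τ (S.Ω p) = y⁻¹ := by
    intro p hp hpp hp1 hpT
    have ht2 : S.τ (S.Ω p) * S.τ (S.Ω p) = 1 := by rw [← map_mul, ← map_mul, hpp, map_one, map_one]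
    refine invert_of_fpf O hOodd ht2 (fun y hy => ?_) fun y hy hc => hsmall y hy ?_
    · have := hsub _ hpT y hy
      rwa [inv_eq_of_mul_eq_one_left ht2] at this
    · obtain ⟨r, hrs, hr⟩ := invol_conj p hp hpp hp1
      set n := S.τ (S.Ω r) with hn
      have hn0 : n ∈ S.N0 h0 := S.τΩ_mem_N0 h0 hrs
      have hps : S.τ (S.Ω p) = n * S.s * n⁻¹ := by
        rw [hn, ← hr, ← h0, map_mul, map_mul, map_inv, map_mul, map_mul, map_inv, S.τ_π0]
      have hc' : Commute (n⁻¹ * y * n) S.s := by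
        show _ = _
        rw [show S.s = n⁻¹ * S.τ (S.Ω p) * n by rw [hps]; group]
        calc n⁻¹ * y * n * (n⁻¹ * S.τ (S.Ω p) * n) = n⁻¹ * (y * S.τ (S.Ω p)) * n := by group
          _ = _ := by rw [hc.eq]; group
      have h1 := S.cent_s_le h0 N hN hidx hle hG0
        (mul_mem (mul_mem (inv_mem (hle hn0)) (hOH y hy).1) (hle hn0)) hc'
      have h2 := mul_mem (mul_mem hn0 h1) (inv_mem hn0)
      rwa [show n * (n⁻¹ * y * n) * n⁻¹ = y by group] at h2
  have hO1 : ∀ y ∈ O, y = 1 := by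
    intro y hy
    have hu1 : S.τ (S.Ω (swap 0 3 * swap 1 4)) ∈ S.T1 h0 := ⟨1, 0, 0, 0, by simp [el, vP_values]⟩
    have hs1 : S.τ (S.Ω (swap 0 1 * swap 3 4)) ∈ S.T1 h0 := by rw [← h0, S.τ_π0]; exact hsT
    have hus : S.τ (S.Ω (swap 0 3 * swap 1 4 * (swap 0 1 * swap 3 4))) ∈ S.T1 h0 := by
      rw [map_mul, map_mul]; exact mul_mem hu1 hs1
    have h1 := hA _ (by decide) (by decide) (by decide) hu1 y hy
    have h2 := hA _ (by decide) (by decide) (by decide) hs1 y⁻¹ (inv_mem hy)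
    rw [inv_inv] at h2
    have h3 := hA _ (by decide) (by decide) (by decide) hus y hy
    have h4 := prod_centralizes h1 h2
    have e : S.τ (S.Ω (swap 0 1 * swap 3 4)) * S.τ (S.Ω (swap 0 3 * swap 1 4)) =
        S.τ (S.Ω (swap 0 3 * swap 1 4 * (swap 0 1 * swap 3 4))) := by
      rw [← map_mul, ← map_mul]; exact congrArg _ (congrArg _ (by decide))
    have e' : S.τ (S.Ω (swap 0 3 * swap 1 4)) * S.τ (S.Ω (swap 0 1 * swap 3 4)) =
        S.τ (S.Ω (swap 0 3 * swap 1 4 * (swap 0 1 * swap 3 4))) := by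
      rw [← map_mul, ← map_mul]
    rw [e, e', h3] at h4
    have hy2 : y * y = 1 := by nth_rewrite 1 [← h4]; exact inv_mul_cancel y
    obtain ⟨j, hj⟩ := hOodd
    have hp : y ^ Nat.card O = 1 := by
      have := congrArg Subtype.val (pow_card_eq_one' (x := (⟨y, hy⟩ : O)))
      rwa [SubgroupClass.coe_pow, OneMemClass.coe_one] at this
    rwa [hj, pow_succ, pow_mul, sq, hy2, one_pow, one_mul] at hp
  obtain ⟨⟨⟨k, hk⟩, ⟨t, ht⟩⟩, he⟩ := hKc.2 (⟨x, Subgroup.mem_centralizer_singleton_iff.mpr hxv.eq, hxN⟩ : H)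
  have hk1 : (k : G) = 1 := hO1 _ ⟨k, hk, rfl⟩
  have ht' : t ∈ (P : Subgroup H) := ht
  rw [hP, Subgroup.mem_subgroupOf] at ht'
  have hx : (k : G) * (t : G) = x := congrArg Subtype.val he
  rw [← hx, hk1, one_mul]
  exact (S.T1_facts h0).2.1 ht'

/-- The centralizer in `N` of an involution of `A₅ × A₅` lies in it. -/
theorem cent_invol_le {t x : G} (ht : t ∈ S.N0 h0) (ht2 : t * t = 1) (ht1 : t ≠ 1) (hxN : x ∈ N)
    (hxt : Commute x t) : x ∈ S.N0 h0 := by
  obtain ⟨p, q, hp, hq, rfl⟩ := (S.mem_N0 h0).mp ht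
  rw [S.pair_mul h0 p q p q hq hp] at ht2
  have h2 := S.Ψ_inj h0
    (a₁ := (⟨p * p, Perm.mem_alternatingGroup.mpr (by rw [Perm.sign_mul, hp, one_mul])⟩,
      ⟨q * q, Perm.mem_alternatingGroup.mpr (by rw [Perm.sign_mul, hq, one_mul])⟩)) (a₂ := 1)
    (by rw [map_one]; exact ht2)
  have hpp : p * p = 1 := congrArg (fun t => (t.1 : Perm (Fin 5))) h2
  have hqq : q * q = 1 := congrArg (fun t => (t.2 : Perm (Fin 5))) h2
  -- move the involution to a standard one
  have key : ∀ (n c : G), n ∈ S.N0 h0 → n * c * n⁻¹ = S.τ (S.Ω p) * S.Ω q →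
      (∀ y : G, y ∈ N → Commute y c → y ∈ S.N0 h0) → x ∈ S.N0 h0 := by
    intro n c hn e hc
    have h1 := hc (n⁻¹ * x * n) (mul_mem (mul_mem (inv_mem (hle hn)) hxN) (hle hn)) (by
      show _ = _
      rw [show c = n⁻¹ * (S.τ (S.Ω p) * S.Ω q) * n by rw [← e]; group]
      calc n⁻¹ * x * n * (n⁻¹ * (S.τ (S.Ω p) * S.Ω q) * n) = n⁻¹ * (x * (S.τ (S.Ω p) * S.Ω q)) * n := by group
        _ = _ := by rw [hxt.eq]; group)
    have h3 := mul_mem (mul_mem hn h1) (inv_mem hn)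
    rwa [show n * (n⁻¹ * x * n) * n⁻¹ = x by group] at h3
  by_cases hp1 : p = 1
  · have hq1 : q ≠ 1 := fun h => ht1 (by rw [hp1, h, map_one, map_one, one_mul])
    obtain ⟨r, hrs, hr⟩ := invol_conj q hq hqq hq1
    refine key (S.Ω r) (S.Ω S.π0) (S.Ω_mem_N0 h0 hrs) ?_ fun y hy hc => S.cent_v_le h0 N hN hidx hle hG0 hy hc
    rw [hp1, map_one, map_one, one_mul, h0, ← hr]
    simp only [map_mul, map_inv]
  by_cases hq1 : q = 1
  · obtain ⟨r, hrs, hr⟩ := invol_conj p hp hpp hp1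
    refine key (S.τ (S.Ω r)) S.s (S.τΩ_mem_N0 h0 hrs) ?_ fun y hy hc => S.cent_s_le h0 N hN hidx hle hG0 hy hc
    rw [hq1, map_one, mul_one, ← hr, ← h0, map_mul, map_mul, map_inv, map_mul, map_mul, map_inv, S.τ_π0]
  obtain ⟨r, hrs, hr⟩ := invol_conj p hp hpp hp1
  obtain ⟨r', hrs', hr'⟩ := invol_conj q hq hqq hq1
  refine key (S.τ (S.Ω r) * S.Ω r') (S.s * S.Ω S.π0) ((S.mem_N0 h0).mpr ⟨r, r', hrs, hrs', rfl⟩) ?_
    fun y hy hc => S.cent_sv_le h0 N hN hidx hle hG0 hy hc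
  have e0 : S.τ (S.Ω r) * S.Ω r' * (S.s * S.Ω S.π0) =
      S.τ (S.Ω (r * (swap 0 1 * swap 3 4))) * S.Ω (r' * (swap 0 1 * swap 3 4)) := by
    rw [← S.τ_π0, h0]
    exact S.pair_mul h0 r r' _ _ hrs' (by decide)
  rw [e0, ← hr, ← hr', mul_inv_eq_iff_eq_mul,
    S.pair_mul h0 (r * (swap 0 1 * swap 3 4) * r⁻¹) (r' * (swap 0 1 * swap 3 4) * r'⁻¹) r r'
      (by rw [Perm.sign_mul, Perm.sign_mul, Perm.sign_inv, hrs']; decide) hrs, inv_mul_cancel_right,
    inv_mul_cancel_right]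

/-- The subgroup of index four is `A₅ × A₅`. -/
theorem N_eq : N = S.N0 h0 := by
  classical
  refine le_antisymm (fun k hk => ?_) hle
  have hv2 : orderOf (S.Ω S.π0) = 2 := by
    refine orderOf_eq_prime ?_ fun h => ?_
    · rw [sq, h0, ← map_mul, ← map_one S.Ω]; exact congrArg S.Ω (by decide)
    · rw [h0, ← map_one S.Ω] at h
      exact absurd (S.Ω_inj h) (by decide)
  have hs2 : orderOf S.s = 2 := orderOf_eq_prime (by rw [sq, S.ss]) S.s_ne
  have hmove : ∀ l ∈ N, ∃ q : Perm (Fin 5), Perm.sign q = 1 ∧ l * S.Ω S.π0 * l⁻¹ = S.Ω q := by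
    intro l hl
    set y := l * S.Ω S.π0 * l⁻¹ with hy
    have hy2 : orderOf y = 2 := Invol.conj_orderOf_two hv2 l
    have hyN : y ∈ N := mul_mem (mul_mem hl (hle (S.Ω_mem_N0 h0 (by rw [h0]; decide)))) (inv_mem hl)
    have hyy := Invol.mul_self_of_orderOf_two hy2
    have hsN : S.s ∈ N := hle (S.s_mem_N0 h0)
    have heven : Even (orderOf (S.s * y)) := by
      by_contra hodd
      obtain ⟨d, hd, hde⟩ := Invol.exists_mem_closure_conj_of_odd hs2 hy2 (Nat.not_even_iff_odd.mp hodd)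
      have hdN : d ∈ N := by
        refine (Subgroup.closure_le N).mpr ?_ hd
        rintro t (rfl | rfl)
        · exact hsN
        · exact hyN
      refine S.s_not_v_N h0 N hN hidx hle hG0 (k := l⁻¹ * d) (mul_mem (inv_mem hl) hdN) ?_
      rw [mul_inv_rev, inv_inv, show l⁻¹ * d * S.s * (d⁻¹ * l) = l⁻¹ * (d * S.s * d⁻¹) * l by group, hde, hy]
      group
    set u := Invol.centralInvol S.s y with hu
    have huN : u ∈ N := by
      refine (Subgroup.closure_le N).mpr ?_ (Invol.centralInvol_mem_closure S.s y)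
      rintro t (rfl | rfl)
      · exact hsN
      · exact hyN
    have hu0 : u ∈ S.N0 h0 :=
      S.cent_s_le h0 N hN hidx hle hG0 huN (Invol.centralInvol_comm_left hs2 hy2 heven)
    have hu2 := Invol.mul_self_of_orderOf_two (Invol.orderOf_centralInvol S.s y heven)
    have hy0 : y ∈ S.N0 h0 := S.cent_invol_le h0 N hN hidx hle hG0 hu0 hu2
      (Invol.centralInvol_ne_one S.s y heven) hyN (Invol.centralInvol_comm_right hs2 hy2 heven).symm
    obtain ⟨p, q, hp, hq, e⟩ := (S.mem_N0 h0).mp hy0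
    have hp1 := (S.class_N0 h0 N hN hidx hle hG0 hl hp hq).2 e
    exact ⟨q, hq, by rw [e, hp1, map_one, map_one, one_mul]⟩
  -- the second factor is normal in `N`
  let K : Subgroup (Perm (Fin 5)) :=
    { carrier := {q | ∀ l ∈ N, ∃ r : Perm (Fin 5), Perm.sign r = 1 ∧ l * S.Ω q * l⁻¹ = S.Ω r}
      one_mem' := fun l _ => ⟨1, map_one _, by simp⟩
      mul_mem' := by
        intro q q' hq hq' l hl
        obtain ⟨r, hr, e⟩ := hq l hl
        obtain ⟨r', hr', e'⟩ := hq' l hl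
        refine ⟨r * r', by rw [Perm.sign_mul, hr, hr', one_mul], ?_⟩
        rw [map_mul, map_mul, ← e, ← e']; group
      inv_mem' := by
        intro q hq l hl
        obtain ⟨r, hr, e⟩ := hq l hl
        refine ⟨r⁻¹, by rw [Perm.sign_inv, hr], ?_⟩
        rw [map_inv, map_inv, ← e]; group }
  have hall := alt_five_all K (fun r q hr _ hq l hl => by
      obtain ⟨t, ht, e⟩ := hq (l * S.Ω r) (mul_mem hl (hle (S.Ω_mem_N0 h0 hr)))
      refine ⟨t, ht, ?_⟩
      rw [map_mul, map_mul, map_inv, ← e]; group)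
    (q₀ := S.π0) (by rw [h0]; decide) (by rw [h0]; decide) hmove (q := cA) (by decide)
  obtain ⟨q, hq, e⟩ := hall k hk
  have hq3 : q ^ 3 = 1 := S.Ω_inj (by
    rw [map_pow, ← e, map_one, ← S.a_eq, conj_pow, S.ha3, mul_one, mul_inv_cancel])
  have hq1 : q ≠ 1 := by
    rintro rfl
    rw [map_one, conj_eq_one_iff] at e
    exact S.a_ne e
  obtain ⟨r, hr, hre⟩ := three_conj_alt q hq hq3 hq1
  have hc : Commute (S.Ω r * k) S.a := by
    refine mul_inv_eq_iff_eq_mul.mp ?_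
    rw [mul_inv_rev, show S.Ω r * k * S.a * (k⁻¹ * (S.Ω r)⁻¹) = S.Ω r * (k * S.a * k⁻¹) * (S.Ω r)⁻¹ by group]
    conv_lhs => rw [S.a_eq, e, ← map_inv, ← map_mul, ← map_mul, hre]
    rfl
  have hrk := S.G0_N h0 N hN hidx hle hG0 (S.cent_a_G0 h0 hc) (mul_mem (hle (S.Ω_mem_N0 h0 hr)) hk)
  have := mul_mem (inv_mem (S.Ω_mem_N0 h0 hr)) hrk
  rwa [inv_mul_cancel_left] at this

end Setup

end CfsgLib.SymEightThree
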