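import Cfsg.Agent.Lib.SymEightThree.ProdHom

/-!
# The product case: a Sylow 2-subgroup and its classes of involutions
-/

set_option autoImplicit false

open Equiv

namespace CfsgLib.SymEightThree

/-- The four group in `A₅`. -/
def vP (i j : Fin 2) : Perm (Fin 5) :=
  (swap 0 3 * swap 1 4) ^ (i : ℕ) * (swap 0 1 * swap 3 4) ^ (j : ℕ)

/-- Conjugation by a power of the transposition `(3 4)`. -/
def δc (k : Fin 2) (π : Perm (Fin 5)) : Perm (Fin 5) :=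
  swap 3 4 ^ (k : ℕ) * π * swap 3 4 ^ (k : ℕ)

theorem vP_sign : ∀ i j, Perm.sign (vP i j) = 1 := by decide +kernel

theorem vP_mul : ∀ i j i' j', vP i j * vP i' j' = vP (i + i') (j + j') := by decide +kernel

theorem vP_δ : ∀ (k i j : Fin 2), ∃ i' j', δc k (vP i j) = vP i' j' := by decide +kernel

theorem vP_inj : ∀ i j i' j', vP i j = vP i' j' → i = i' ∧ j = j' := by decide +kernel

theorem vP_values : vP 0 0 = 1 ∧ vP 0 1 = swap 0 1 * swap 3 4 ∧ vP 1 0 = swap 0 3 * swap 1 4 := by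
  decide +kernel

set_option maxRecDepth 8000 in
theorem vP_conj : ∀ i j, vP i j ≠ 1 →
    ∃ r : Perm (Fin 5), Perm.sign r = 1 ∧ r * (swap 0 1 * swap 3 4) * r⁻¹ = vP i j := by decide +kernel

theorem vP_invol_w : ∀ i j, vP i j * δc 1 (vP i j) = 1 → i = 0 := by decide +kernel

theorem vP_invol_g : ∀ (k i j i' j' : Fin 2), vP i j * δc k (vP i' j') = 1 → vP i' j' = δc k (vP i j) := by
  decide +kernel

theorem δc_sign (k : Fin 2) (π : Perm (Fin 5)) : Perm.sign (δc k π) = Perm.sign π := by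
  rw [δc, Perm.sign_mul, Perm.sign_mul, mul_comm (Perm.sign (swap (3 : Fin 5) 4 ^ (k : ℕ))), mul_assoc,
    Int.units_mul_self, mul_one]

theorem δc_zero (π : Perm (Fin 5)) : δc 0 π = π := by simp [δc]

theorem δc_mul (k : Fin 2) (π ρ : Perm (Fin 5)) : δc k (π * ρ) = δc k π * δc k ρ := by
  have h : swap (3 : Fin 5) 4 ^ (k : ℕ) * swap 3 4 ^ (k : ℕ) = 1 := by revert k; decide
  simp only [δc]
  rw [show swap (3 : Fin 5) 4 ^ (k : ℕ) * π * swap 3 4 ^ (k : ℕ) * (swap 3 4 ^ (k : ℕ) * ρ * swap 3 4 ^ (k : ℕ)) =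
    swap (3 : Fin 5) 4 ^ (k : ℕ) * π * (swap 3 4 ^ (k : ℕ) * swap 3 4 ^ (k : ℕ)) * ρ * swap 3 4 ^ (k : ℕ) by group, h]
  group

set_option maxRecDepth 8000 in
theorem δc_cA : ∀ π : Perm (Fin 5), π * cA = cA * π → Perm.sign π = 1 → π ^ 3 = 1 := by decide +kernel

set_option maxRecDepth 8000 in
theorem InM_fix_g : ∀ i k : Fin 3, ∀ j l m : Fin 2, ∀ i' k' : Fin 3, ∀ j' l' m' : Fin 2,
    mL i j k l m = mL i' j' k' l' m' → i = i' ∧ j = j' ∧ k = k' ∧ l = l' ∧ m = m' := by decide +kernel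

set_option maxRecDepth 8000 in
theorem card_InM_s : (Finset.univ.filter fun p : L => InM p ∧ Commute p sL).card = 24 := by decide +kernel

namespace Setup

variable {G : Type*} [Group G] [Finite G] (S : Setup G)

/-- The general element of `(A₅ × A₅)⟨w, g⟩`. -/
def el (p q : Perm (Fin 5)) (k l : Fin 2) : G :=
  S.τ (S.Ω p) * S.Ω q * S.w ^ (k : ℕ) * S.g ^ (l : ℕ)

variable (h0 : S.π0 = swap 0 1 * swap 3 4)

include h0

theorem pair_mul (p q p' q' : Perm (Fin 5)) (hq : Perm.sign q = 1) (hp' : Perm.sign p' = 1) :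
    S.τ (S.Ω p) * S.Ω q * (S.τ (S.Ω p') * S.Ω q') = S.τ (S.Ω (p * p')) * S.Ω (q * q') := by
  have hc := S.commute_factors h0 p' q hp' hq
  rw [map_mul, map_mul, map_mul]
  calc S.τ (S.Ω p) * S.Ω q * (S.τ (S.Ω p') * S.Ω q')
      = S.τ (S.Ω p) * (S.Ω q * S.τ (S.Ω p')) * S.Ω q' := by group
    _ = _ := by rw [← hc.eq]; group

omit h0 in
theorem wpow_conj (k : Fin 2) (p q : Perm (Fin 5)) :
    S.w ^ (k : ℕ) * (S.τ (S.Ω p) * S.Ω q) =
      S.τ (S.Ω (δc k p)) * S.Ω (δc k q) * S.w ^ (k : ℕ) := by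
  have hw : S.τ (S.Ω (swap 3 4)) = S.w := S.τ_w
  fin_cases k
  · simp [δc]
  · show S.w ^ 1 * _ = _ * S.w ^ 1
    simp only [δc, show (((⟨1, by norm_num⟩ : Fin 2)) : ℕ) = 1 from rfl, pow_one, map_mul, hw, ← S.w_eq, S.τ_w]
    rw [show S.w * S.τ (S.Ω p) * S.w * (S.w * S.Ω q * S.w) * S.w =
      S.w * S.τ (S.Ω p) * (S.w * S.w) * S.Ω q * (S.w * S.w) by group, S.ww, mul_one, mul_one, mul_assoc]

theorem gpow_conj (l : Fin 2) (p q : Perm (Fin 5)) (hp : Perm.sign p = 1) (hq : Perm.sign q = 1) :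
    S.g ^ (l : ℕ) * (S.τ (S.Ω p) * S.Ω q) =
      S.τ (S.Ω (if l = 0 then p else q)) * S.Ω (if l = 0 then q else p) * S.g ^ (l : ℕ) := by
  fin_cases l
  · simp
  · show S.g ^ 1 * _ = S.τ (S.Ω q) * S.Ω p * S.g ^ 1
    have e : S.τ (S.τ (S.Ω p) * S.Ω q) = S.τ (S.Ω q) * S.Ω p := by
      rw [map_mul, S.τ_τ, (S.commute_factors h0 q p hq hp).eq]
    rw [pow_one, ← e, S.τ_apply (S.τ (S.Ω p) * S.Ω q), mul_assoc (S.g * _), S.gg, mul_one]

theorem el_mul (p q p' q' : Perm (Fin 5)) (k l k' l' : Fin 2) (hq : Perm.sign q = 1)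
    (hp' : Perm.sign p' = 1) (hq' : Perm.sign q' = 1) :
    S.el p q k l * S.el p' q' k' l' =
      S.el (p * δc k (if l = 0 then p' else q')) (q * δc k (if l = 0 then q' else p')) (k + k') (l + l') := by
  have hc : Commute S.g S.w := S.g_w_comm
  set A := if l = 0 then p' else q' with hA
  set B := if l = 0 then q' else p' with hB
  have hAs : Perm.sign A = 1 := by rw [hA]; split_ifs <;> assumption
  unfold el
  calc S.τ (S.Ω p) * S.Ω q * S.w ^ (k : ℕ) * S.g ^ (l : ℕ) *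
        (S.τ (S.Ω p') * S.Ω q' * S.w ^ (k' : ℕ) * S.g ^ (l' : ℕ))
      = S.τ (S.Ω p) * S.Ω q * S.w ^ (k : ℕ) * (S.g ^ (l : ℕ) * (S.τ (S.Ω p') * S.Ω q')) *
        S.w ^ (k' : ℕ) * S.g ^ (l' : ℕ) := by group
    _ = S.τ (S.Ω p) * S.Ω q * (S.w ^ (k : ℕ) * (S.τ (S.Ω A) * S.Ω B)) *
        (S.g ^ (l : ℕ) * S.w ^ (k' : ℕ)) * S.g ^ (l' : ℕ) := by
          rw [S.gpow_conj h0 l p' q' hp' hq', ← hA, ← hB]; group
    _ = (S.τ (S.Ω p) * S.Ω q * (S.τ (S.Ω (δc k A)) * S.Ω (δc k B))) * (S.w ^ (k : ℕ) * S.w ^ (k' : ℕ)) *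
        (S.g ^ (l : ℕ) * S.g ^ (l' : ℕ)) := by
          rw [S.wpow_conj k A B, (hc.pow_pow (l : ℕ) (k' : ℕ)).eq]; group
    _ = _ := by
      rw [S.pair_mul h0 p q _ _ hq ((δc_sign k A).trans hAs), ← pow_add, ← pow_add, Fin.val_add, Fin.val_add,
        ← pow_eq_pow_mod _ (show S.w ^ 2 = 1 by rw [sq, S.ww]),
        ← pow_eq_pow_mod _ (show S.g ^ 2 = 1 by rw [sq, S.gg])]

omit h0 in
theorem el_one : S.el 1 1 0 0 = 1 := by simp [el]

theorem el_mem_N0 {p q : Perm (Fin 5)} (hp : Perm.sign p = 1) (hq : Perm.sign q = 1) :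
    S.el p q 0 0 ∈ S.N0 h0 := (S.mem_N0 h0).mpr ⟨p, q, hp, hq, by simp [el]⟩

theorem el_mem_G0 {p q : Perm (Fin 5)} (hp : Perm.sign p = 1) (hq : Perm.sign q = 1) (k l : Fin 2) :
    S.el p q k l ∈ S.G0 h0 :=
  (S.mem_G0 h0).mpr ⟨_, (S.mem_N0 h0).mpr ⟨p, q, hp, hq, rfl⟩, k, l, rfl⟩

theorem wg_not_mem {k l : Fin 2} (h : S.w ^ (k : ℕ) * S.g ^ (l : ℕ) ∈ S.N0 h0) : k = 0 ∧ l = 0 := by
  obtain ⟨p, q, hp, hq, e⟩ := (S.mem_N0 h0).mp h
  have hl : l = 0 := by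
    by_contra hne
    have hl1 : (l : ℕ) = 1 := by omega
    have hwa : Commute S.w S.a := S.Θ_commute (by decide)
    have h1 : (S.w ^ (k : ℕ) * S.g ^ (l : ℕ)) * S.z * (S.w ^ (k : ℕ) * S.g ^ (l : ℕ))⁻¹ = S.a := by
      rw [hl1, pow_one, mul_inv_rev, S.g_inv,
        show S.w ^ (k : ℕ) * S.g * S.z * (S.g * (S.w ^ (k : ℕ))⁻¹) =
          S.w ^ (k : ℕ) * (S.g * S.z * S.g) * (S.w ^ (k : ℕ))⁻¹ by group, ← S.τ_apply, S.τ_z,
        (hwa.pow_left (k : ℕ)).eq, mul_inv_cancel_right]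
    rw [e] at h1
    have h2 : S.τ (S.Ω (p * cA * p⁻¹)) = S.Ω cA := by
      rw [← S.a_eq, ← h1, map_mul, map_mul, map_mul, map_mul, map_inv, map_inv, ← S.a_eq, S.τ_a]
      have hc : Commute (S.Ω q) S.z := (S.zΩ q).symm
      calc S.τ (S.Ω p) * S.z * (S.τ (S.Ω p))⁻¹
          = S.τ (S.Ω p) * (S.Ω q * S.z * (S.Ω q)⁻¹) * (S.τ (S.Ω p))⁻¹ := by rw [hc.eq, mul_inv_cancel_right]
        _ = _ := by group
    have h3 := S.commute_factors h0 (p * cA * p⁻¹) (swap 0 3 * swap 1 4)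
      (by rw [Perm.sign_mul, Perm.sign_mul, Perm.sign_inv, hp, show Perm.sign cA = 1 by decide]; rfl) (by decide)
    rw [h2] at h3
    have h4 : cA * (swap 0 3 * swap 1 4) = swap 0 3 * swap 1 4 * cA :=
      S.Ω_inj (by rw [map_mul S.Ω cA, map_mul S.Ω _ cA]; exact h3.eq)
    exact absurd h4 (by decide)
  refine ⟨?_, hl⟩
  by_contra hne
  have hk1 : (k : ℕ) = 1 := by omega
  rw [hl, hk1, Fin.val_zero, pow_zero, pow_one, mul_one] at e
  have hz : p * cA = cA * p := by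
    have h1 : Commute (S.τ (S.Ω p) * S.Ω q) S.z := by rw [← e]; exact (S.zΩ (swap 3 4)).symm
    have h2 : Commute (S.τ (S.Ω p)) (S.τ (S.Ω cA)) := by
      rw [← S.a_eq, S.τ_a]
      have h3 := h1.mul_left (S.zΩ q).symm.inv_left
      rwa [mul_inv_cancel_right] at h3
    exact S.Ω_inj (S.τ.injective (by simpa using h2.eq))
  have ha : q * cA = cA * q := by
    have h1 : Commute (S.τ (S.Ω p) * S.Ω q) S.a := by rw [← e]; exact S.Θ_commute (by decide)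
    have hpa : Commute (S.τ (S.Ω p)) S.a := by
      rw [← S.τ_z]
      exact (S.zΩ p).symm.map S.τ.toMonoidHom
    have h3 := hpa.inv_left.mul_left h1
    rw [inv_mul_cancel_left, S.a_eq] at h3
    exact S.Ω_inj (by rw [map_mul, map_mul]; exact h3.eq)
  have hw3 : S.w ^ 3 = 1 := by
    rw [e, (S.commute_factors h0 p q hp hq).mul_pow, ← map_pow, ← map_pow, ← map_pow,
      δc_cA p hz hp, δc_cA q ha hq, map_one, map_one, one_mul]
  rw [pow_succ, pow_two, S.ww, one_mul] at hw3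
  exact S.w_ne hw3

theorem el_inj {p q p' q' : Perm (Fin 5)} {k l k' l' : Fin 2} (hp : Perm.sign p = 1) (hq : Perm.sign q = 1)
    (hp' : Perm.sign p' = 1) (hq' : Perm.sign q' = 1) (h : S.el p q k l = S.el p' q' k' l') :
    p = p' ∧ q = q' ∧ k = k' ∧ l = l' := by
  have hc : Commute S.g S.w := S.g_w_comm
  have hn : S.τ (S.Ω p) * S.Ω q ∈ S.N0 h0 := (S.mem_N0 h0).mpr ⟨p, q, hp, hq, rfl⟩
  have hn' : S.τ (S.Ω p') * S.Ω q' ∈ S.N0 h0 := (S.mem_N0 h0).mpr ⟨p', q', hp', hq', rfl⟩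
  have hm : S.w ^ (((k : ℕ) + (k' : ℕ)) % 2) * S.g ^ (((l : ℕ) + (l' : ℕ)) % 2) ∈ S.N0 h0 := by
    rw [← pow_eq_pow_mod _ (show S.w ^ 2 = 1 by rw [sq, S.ww]),
      ← pow_eq_pow_mod _ (show S.g ^ 2 = 1 by rw [sq, S.gg])]
    have e : S.w ^ ((k : ℕ) + (k' : ℕ)) * S.g ^ ((l : ℕ) + (l' : ℕ)) =
        (S.τ (S.Ω p) * S.Ω q)⁻¹ * (S.τ (S.Ω p') * S.Ω q') := by
      have h2 : ∀ x : G, x * x = 1 → ∀ i : Fin 2, (x ^ (i : ℕ))⁻¹ = x ^ (i : ℕ) := fun x hx i => by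
        rw [← inv_pow, inv_eq_of_mul_eq_one_left hx]
      unfold el at h
      rw [pow_add, pow_add]
      calc S.w ^ (k : ℕ) * S.w ^ (k' : ℕ) * (S.g ^ (l : ℕ) * S.g ^ (l' : ℕ))
          = S.w ^ (k : ℕ) * (S.w ^ (k' : ℕ) * S.g ^ (l : ℕ)) * S.g ^ (l' : ℕ) := by group
        _ = S.w ^ (k : ℕ) * (S.g ^ (l : ℕ) * S.w ^ (k' : ℕ)) * S.g ^ (l' : ℕ) := by
            rw [(hc.pow_pow (l : ℕ) (k' : ℕ)).eq]
        _ = (S.τ (S.Ω p) * S.Ω q)⁻¹ * (S.τ (S.Ω p) * S.Ω q * S.w ^ (k : ℕ) * S.g ^ (l : ℕ)) *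
              ((S.w ^ (k' : ℕ))⁻¹ * (S.g ^ (l' : ℕ))⁻¹) := by rw [h2 _ S.ww, h2 _ S.gg]; group
        _ = (S.τ (S.Ω p) * S.Ω q)⁻¹ * (S.τ (S.Ω p') * S.Ω q') * S.w ^ (k' : ℕ) *
              (S.g ^ (l' : ℕ) * (S.w ^ (k' : ℕ))⁻¹) * (S.g ^ (l' : ℕ))⁻¹ := by rw [h]; group
        _ = _ := by rw [h2 _ S.ww, (hc.pow_pow (l' : ℕ) (k' : ℕ)).eq, h2 _ S.gg,
                      ← mul_assoc _ (S.w ^ (k' : ℕ)), mul_assoc _ (S.w ^ (k' : ℕ)) (S.w ^ (k' : ℕ))]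
                    have e1 : S.w ^ (k' : ℕ) * S.w ^ (k' : ℕ) = 1 := by
                      nth_rewrite 1 [← h2 _ S.ww]; exact inv_mul_cancel _
                    have e2 : S.g ^ (l' : ℕ) * S.g ^ (l' : ℕ) = 1 := by
                      nth_rewrite 1 [← h2 _ S.gg]; exact inv_mul_cancel _
                    rw [e1, mul_one, mul_assoc, e2, mul_one]
    rw [e]
    exact mul_mem (inv_mem hn) hn'
  obtain ⟨hk, hl⟩ := S.wg_not_mem h0 (k := ⟨_, Nat.mod_lt _ (by norm_num)⟩)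
    (l := ⟨_, Nat.mod_lt _ (by norm_num)⟩) hm
  have hk' : k = k' := Fin.ext (by have := congrArg Fin.val hk; simp at this; omega)
  have hl' : l = l' := Fin.ext (by have := congrArg Fin.val hl; simp at this; omega)
  subst hk' hl'
  unfold el at h
  have h1 := mul_right_cancel (mul_right_cancel h)
  have h2 := S.Ψ_inj h0 (a₁ := (⟨p, Perm.mem_alternatingGroup.mpr hp⟩, ⟨q, Perm.mem_alternatingGroup.mpr hq⟩))
    (a₂ := (⟨p', Perm.mem_alternatingGroup.mpr hp'⟩, ⟨q', Perm.mem_alternatingGroup.mpr hq'⟩)) h1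
  exact ⟨congrArg (fun t => (t.1 : Perm (Fin 5))) h2, congrArg (fun t => (t.2 : Perm (Fin 5))) h2, rfl, rfl⟩

/-- The Sylow 2-subgroup. -/
def T : Subgroup G where
  carrier := {x | ∃ a b c d k l, x = S.el (vP a b) (vP c d) k l}
  one_mem' := ⟨0, 0, 0, 0, 0, 0, by rw [vP_values.1, S.el_one]⟩
  mul_mem' := by
    rintro _ _ ⟨a, b, c, d, k, l, rfl⟩ ⟨a', b', c', d', k', l', rfl⟩
    rw [S.el_mul h0 _ _ _ _ _ _ _ _ (vP_sign _ _) (vP_sign _ _) (vP_sign _ _)]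
    have hA : ∃ i j, δc k (if l = 0 then vP a' b' else vP c' d') = vP i j := by
      split_ifs <;> exact vP_δ _ _ _
    have hB : ∃ i j, δc k (if l = 0 then vP c' d' else vP a' b') = vP i j := by
      split_ifs <;> exact vP_δ _ _ _
    obtain ⟨i, j, e⟩ := hA
    obtain ⟨i', j', e'⟩ := hB
    exact ⟨a + i, b + j, c + i', d + j', k + k', l + l', by rw [e, e', vP_mul, vP_mul]⟩
  inv_mem' := by
    rintro _ ⟨a, b, c, d, k, l, rfl⟩
    obtain ⟨i, j, e⟩ : ∃ i j, δc k (vP a b) = vP i j := vP_δ _ _ _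
    obtain ⟨i', j', e'⟩ : ∃ i j, δc k (vP c d) = vP i j := vP_δ _ _ _
    refine ⟨if l = 0 then i else i', if l = 0 then j else j', if l = 0 then i' else i, if l = 0 then j' else j,
      k, l, (eq_inv_of_mul_eq_one_right ?_).symm⟩
    rw [S.el_mul h0 _ _ _ _ _ _ _ _ (vP_sign _ _) (vP_sign _ _) (vP_sign _ _)]
    have hinv : ∀ (k a b : Fin 2) (i j : Fin 2), δc k (vP a b) = vP i j → vP a b * δc k (vP i j) = 1 := by
      decide +kernel
    have h2 : ∀ k : Fin 2, k + k = 0 := by decide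
    have hr : vP a b * δc k (vP i j) = 1 ∧ vP c d * δc k (vP i' j') = 1 := ⟨hinv _ _ _ _ _ e, hinv _ _ _ _ _ e'⟩
    by_cases hl : l = 0
    · simp only [hl, if_true]; rw [hr.1, hr.2, h2, show (0 : Fin 2) + 0 = 0 from rfl, S.el_one]
    · simp only [hl, if_false]; rw [hr.1, hr.2, h2, h2, S.el_one]

theorem mem_T {x : G} : x ∈ S.T h0 ↔ ∃ a b c d k l, x = S.el (vP a b) (vP c d) k l := Iff.rfl

theorem card_T : Nat.card (S.T h0) = 64 := by
  let F : Fin 2 × Fin 2 × Fin 2 × Fin 2 × Fin 2 × Fin 2 → S.T h0 := fun t =>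
    ⟨S.el (vP t.1 t.2.1) (vP t.2.2.1 t.2.2.2.1) t.2.2.2.2.1 t.2.2.2.2.2, _, _, _, _, _, _, rfl⟩
  have hF : Function.Bijective F := by
    refine ⟨?_, fun x => ?_⟩
    · rintro ⟨a, b, c, d, k, l⟩ ⟨a', b', c', d', k', l'⟩ h
      obtain ⟨e1, e2, rfl, rfl⟩ := S.el_inj h0 (vP_sign _ _) (vP_sign _ _) (vP_sign _ _) (vP_sign _ _)
        (congrArg Subtype.val h)
      obtain ⟨rfl, rfl⟩ := vP_inj _ _ _ _ e1
      obtain ⟨rfl, rfl⟩ := vP_inj _ _ _ _ e2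
      rfl
    · obtain ⟨a, b, c, d, k, l, e⟩ := x.2
      exact ⟨⟨a, b, c, d, k, l⟩, Subtype.ext e.symm⟩
  rw [← Nat.card_congr (Equiv.ofBijective F hF)]; simp

theorem T_le_G0 : S.T h0 ≤ S.G0 h0 := by
  rintro _ ⟨a, b, c, d, k, l, rfl⟩
  exact S.el_mem_G0 h0 (vP_sign _ _) (vP_sign _ _) k l

theorem el_s : S.el (vP 0 1) (vP 0 0) 0 0 = S.s := by
  simp only [el, vP_values, map_one, mul_one, Fin.val_zero, pow_zero, ← h0, S.τ_π0]

theorem el_v : S.el (vP 0 0) (vP 0 1) 0 0 = S.Ω S.π0 := by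
  simp only [el, vP_values, map_one, one_mul, mul_one, Fin.val_zero, pow_zero, ← h0]

theorem T_cent_sv : ∀ x ∈ S.T h0, Commute x (S.s * S.Ω S.π0) := by
  rintro _ ⟨a, b, c, d, k, l, rfl⟩
  have e : S.s * S.Ω S.π0 = S.el (vP 0 1) (vP 0 1) 0 0 := by
    rw [← S.el_s h0, ← S.el_v h0, S.el_mul h0 _ _ _ _ _ _ _ _ (vP_sign _ _) (vP_sign _ _) (vP_sign _ _)]
    simp [δc_zero, vP_values]
  rw [e]
  show _ = _
  rw [S.el_mul h0 _ _ _ _ _ _ _ _ (vP_sign _ _) (vP_sign _ _) (vP_sign _ _),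
    S.el_mul h0 _ _ _ _ _ _ _ _ (vP_sign _ _) (vP_sign _ _) (vP_sign _ _)]
  simp only [ite_self, if_true, δc_zero, zero_add, add_zero]
  have hcm : ∀ a b k : Fin 2, vP a b * δc k (vP 0 1) = vP 0 1 * vP a b := by decide +kernel
  rw [hcm, hcm]

theorem card_cent_sw {x : G} (hx : x = S.s ∨ x = S.g ∨ x = S.w * S.g) :
    Nat.card (Subgroup.centralizer ({x, S.w} : Set G)) ≤ 24 := by
  classical
  have hmem : ∀ v : Subgroup.centralizer ({x, S.w} : Set G), Commute (v : G) x ∧ Commute (v : G) S.w := fun v =>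
    ⟨(Subgroup.mem_centralizer_iff.mp v.2 x (by simp)).symm, (Subgroup.mem_centralizer_iff.mp v.2 S.w (by simp)).symm⟩
  rcases hx with rfl | hx
  · let C24 : Finset L := Finset.univ.filter fun p : L => InM p ∧ Commute p sL
    have hsub : ∀ v : Subgroup.centralizer ({S.s, S.w} : Set G), ∃ t : C24, (v : G) = S.Θ t.1 := fun v => by
      obtain ⟨p, hp, hps, e⟩ := S.cent_sw h0 (hmem v).1 (hmem v).2
      exact ⟨⟨p, Finset.mem_filter.mpr ⟨Finset.mem_univ _, hp, hps⟩⟩, e⟩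
    choose F hF using hsub
    refine (Nat.card_le_card_of_injective F (fun v v' e => Subtype.ext (by rw [hF v, hF v', e]))).trans ?_
    rw [Nat.card_eq_finsetCard]
    exact le_of_eq card_InM_s
  · have hg : ∀ v : Subgroup.centralizer ({x, S.w} : Set G), Commute (v : G) S.g := fun v => by
      rcases hx with rfl | rfl
      · exact (hmem v).1
      · have := (hmem v).2.mul_right (hmem v).1
        rwa [← mul_assoc, S.ww, one_mul] at this
    have hsub : ∀ v : Subgroup.centralizer ({x, S.w} : Set G), ∃ t : Fin 3 × Fin 2 × Fin 2 × Fin 2,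
        (v : G) = S.Θ (mL t.1 t.2.1 t.1 t.2.1 t.2.2.1) * S.g ^ (t.2.2.2 : ℕ) := by
      intro v
      obtain ⟨p, hp, e⟩ := S.normD_iff.mp (S.cent_w_le_normD h0 (hmem v).2)
      have hpg : Commute (S.Θ p) S.g := by
        rcases e with e | e
        · exact e ▸ hg v
        · have := (e ▸ hg v).mul_left (Commute.refl S.g).inv_left
          rwa [mul_inv_cancel_right] at this
      obtain ⟨i, j, k, l, m, rfl⟩ := (InM_word p).mp hp
      have ht : S.τ (S.Θ (mL i j k l m)) = S.Θ (mL i j k l m) := by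
        rw [S.τ_apply, ← hpg.eq, mul_assoc, S.gg, mul_one]
      obtain ⟨m', hm'⟩ : ∃ m', S.τ (S.Θ (mL i j k l m)) = S.Θ (mL k l i j m') := by
        have hτ : S.τ (S.Θ (mL i j k l m)) = S.a ^ (i : ℕ) * (S.o * S.w) ^ (j : ℕ) * S.z ^ (k : ℕ) *
            (S.s * S.w) ^ (l : ℕ) * S.w ^ (m : ℕ) := by
          rw [S.Θ_mL, map_mul, map_mul, map_mul, map_mul, S.τ_pow, S.τ_pow, S.τ_pow, S.τ_pow, S.τ_pow,
            S.τ_z, S.τ_s' h0, S.τ_a, S.τ_o' h0, S.τ_w]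
        have hL : ∀ (i k : Fin 3) (j l m : Fin 2), ∃ m', aL ^ (i : ℕ) * (oL * wL) ^ (j : ℕ) * zL ^ (k : ℕ) *
            (sL * wL) ^ (l : ℕ) * wL ^ (m : ℕ) = mL k l i j m' := by decide +kernel
        obtain ⟨m', hm'⟩ := hL i k j l m
        exact ⟨m', by rw [hτ, ← hm']; simp only [map_mul, map_pow]; rfl⟩
      obtain ⟨rfl, rfl, -, -, -⟩ := InM_fix_g _ _ _ _ _ _ _ _ _ _ (S.inj (ht.symm.trans hm'))
      rcases e with e | e
      · exact ⟨(i, j, m, 0), by simpa using e⟩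
      · exact ⟨(i, j, m, 1), by simpa using e⟩
    choose F hF using hsub
    refine (Nat.card_le_card_of_injective F (fun v v' e => Subtype.ext (by rw [hF v, hF v', e]))).trans ?_
    simp

end Setup

end CfsgLib.SymEightThree
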