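import Cfsg.Agent.Lib.SymEightThree.ProdSylow
import Cfsg.Agent.Lib.Transfer.Thompson

/-!
# The product case: two transfers
-/

set_option autoImplicit false

open Equiv

namespace CfsgLib.SymEightThree

theorem squares_three : ∀ π : Perm (Fin 5), π ^ 3 = 1 → π = π ^ 2 * π ^ 2 := fun π h => by
  rw [← pow_add, show 2 + 2 = 3 + 1 from rfl, pow_add, h, one_mul, pow_one]

namespace Setup

variable {G : Type*} [Group G] [Finite G] (S : Setup G) (h0 : S.π0 = swap 0 1 * swap 3 4)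

include h0

theorem A_isV {p : Perm (Fin 5)} (h : ∃ r : Perm (Fin 5), r * (swap 0 1 * swap 3 4) * r⁻¹ = p) :
    IsConj S.s (S.τ (S.Ω p)) ∧ IsConj S.s (S.Ω p) := by
  obtain ⟨r, rfl⟩ := h
  constructor
  · refine isConj_iff.mpr ⟨S.τ (S.Ω r), ?_⟩
    conv_lhs => rw [← S.τ_π0]
    rw [← map_inv, ← map_mul, ← map_mul, ← map_inv, ← map_mul, ← map_mul, h0]
  · refine (isConj_iff.mpr ⟨S.g, S.τ_s⟩ : IsConj S.s (S.Ω S.π0)).trans (isConj_iff.mpr ⟨S.Ω r, ?_⟩)
    rw [← map_inv, ← map_mul, ← map_mul, h0]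

theorem sv_eq : S.s * S.Ω S.π0 = S.el (vP 0 1) (vP 0 1) 0 0 := by
  simp only [el, vP_values, Fin.val_zero, pow_zero, mul_one, ← h0, S.τ_π0]

theorem sv_not_W : ¬ IsConj S.w (S.s * S.Ω S.π0) := by
  intro h
  obtain ⟨k, hk⟩ := isConj_iff.mp h
  have hT : S.T h0 ≤ Subgroup.centralizer ({S.s * S.Ω S.π0} : Set G) := fun x hx =>
    Subgroup.mem_centralizer_singleton_iff.mpr (S.T_cent_sv h0 x hx).eq
  have hcard : Nat.card (Subgroup.centralizer ({S.s * S.Ω S.π0} : Set G)) =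
      Nat.card (Subgroup.centralizer ({S.w} : Set G)) := by rw [← hk, centralizer_conj_card]
  have h64 := Subgroup.card_dvd_of_le hT
  rw [S.card_T h0, hcard] at h64
  have h144 : Nat.card (Subgroup.centralizer ({S.w} : Set G)) ≤ 144 :=
    (Subgroup.card_le_of_le (fun x hx => S.cent_w_le_normD h0 (Subgroup.mem_centralizer_singleton_iff.mp hx) :
      Subgroup.centralizer ({S.w} : Set G) ≤ Subgroup.normalizer (S.D : Set G))).trans S.card_normD
  have h9 : 9 ∣ Nat.card (Subgroup.centralizer ({S.w} : Set G)) := S.card_D ▸ Subgroup.card_dvd_of_le S.D_le_Cw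
  have h576 : 64 * 9 ∣ Nat.card (Subgroup.centralizer ({S.w} : Set G)) :=
    (show Nat.Coprime 64 9 by norm_num).mul_dvd_of_dvd_of_dvd h64 h9
  have := Nat.le_of_dvd Nat.card_pos h576
  omega

/-- The elements of `T` conjugate to `w`. -/
theorem class_T {t : G} (ht : t ∈ S.T h0) (hW : IsConj S.w t) :
    ∃ b d : Fin 2, t = S.el (vP 0 b) (vP 0 d) 1 0 := by
  obtain ⟨a, b, c, d, k, l, rfl⟩ := ht
  obtain ⟨i, hi⟩ := isConj_iff.mp hW
  have h2 : S.el (vP a b) (vP c d) k l * S.el (vP a b) (vP c d) k l = S.el 1 1 0 0 := by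
    rw [← hi, show i * S.w * i⁻¹ * (i * S.w * i⁻¹) = i * (S.w * S.w) * i⁻¹ by group, S.ww, mul_one,
      mul_inv_cancel, S.el_one]
  rw [S.el_mul h0 _ _ _ _ _ _ _ _ (vP_sign _ _) (vP_sign _ _) (vP_sign _ _)] at h2
  have hsA : Perm.sign (vP a b * δc k (if l = 0 then vP a b else vP c d)) = 1 := by
    rw [Perm.sign_mul, δc_sign, vP_sign, one_mul]; split_ifs <;> exact vP_sign _ _
  have hsB : Perm.sign (vP c d * δc k (if l = 0 then vP c d else vP a b)) = 1 := by
    rw [Perm.sign_mul, δc_sign, vP_sign, one_mul]; split_ifs <;> exact vP_sign _ _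
  obtain ⟨eA, eB, -, -⟩ := S.el_inj h0 hsA hsB (map_one _) (map_one _) h2
  by_cases hl : l = 0
  · subst hl
    rw [if_pos rfl] at eA eB
    by_cases hk : k = 0
    · subst hk
      exfalso
      have e : S.el (vP a b) (vP c d) 0 0 = S.τ (S.Ω (vP a b)) * S.Ω (vP c d) := by simp [el]
      by_cases hp : vP a b = 1
      · by_cases hq : vP c d = 1
        · rw [hp, hq, S.el_one] at hi
          exact S.w_ne (conj_eq_one_iff.mp hi)
        · obtain ⟨r, -, hr⟩ := vP_conj c d hq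
          rw [e, hp, map_one, map_one, one_mul] at hW
          exact S.not_V_of_W h0 hW (S.A_isV h0 ⟨r, hr⟩).2
      · obtain ⟨r, hrs, hr⟩ := vP_conj a b hp
        by_cases hq : vP c d = 1
        · rw [e, hq, map_one, mul_one] at hW
          exact S.not_V_of_W h0 hW (S.A_isV h0 ⟨r, hr⟩).1
        · obtain ⟨r', hrs', hr'⟩ := vP_conj c d hq
          refine S.sv_not_W h0 (hW.trans (IsConj.symm (isConj_iff.mpr ⟨S.τ (S.Ω r) * S.Ω r', ?_⟩)))
          have e0 : S.τ (S.Ω r) * S.Ω r' * (S.s * S.Ω S.π0) =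
              S.τ (S.Ω (r * (swap 0 1 * swap 3 4))) * S.Ω (r' * (swap 0 1 * swap 3 4)) := by
            rw [← S.τ_π0, h0]
            exact S.pair_mul h0 r r' _ _ hrs' (by decide)
          rw [e0, e, ← hr, ← hr', mul_inv_eq_iff_eq_mul]
          rw [S.pair_mul h0 (r * (swap 0 1 * swap 3 4) * r⁻¹) (r' * (swap 0 1 * swap 3 4) * r'⁻¹) r r'
            (by rw [Perm.sign_mul, Perm.sign_mul, Perm.sign_inv, hrs']; decide) hrs, inv_mul_cancel_right,
            inv_mul_cancel_right]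
    · have hk1 : k = 1 := Fin.ext (by omega)
      subst hk1
      have ha := vP_invol_w a b eA
      have hc := vP_invol_w c d eB
      subst ha hc
      exact ⟨b, d, rfl⟩
  · exfalso
    rw [if_neg hl] at eA eB
    have hl1 : l = 1 := Fin.ext (by omega)
    subst hl1
    have hq : vP c d = δc k (vP a b) := vP_invol_g k a b c d eA
    have hδ : vP a b * δc k 1 = vP a b := by
      have : ∀ k : Fin 2, δc k 1 = 1 := by decide
      rw [this, mul_one]
    set r := S.el (vP a b) 1 0 0 with hr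
    have hinv : r * r = 1 := by
      rw [hr, S.el_mul h0 _ _ _ _ _ _ _ _ (map_one _) (vP_sign _ _) (map_one _), if_pos rfl, if_pos rfl,
        δc_zero, δc_zero, vP_mul, mul_one]
      have : ∀ a b : Fin 2, vP (a + a) (b + b) = 1 := by decide
      rw [this, show (0 : Fin 2) + 0 = 0 from rfl, S.el_one]
    have e1 : r * S.el 1 1 k 1 * r⁻¹ = S.el (vP a b) (vP c d) k 1 := by
      rw [inv_eq_of_mul_eq_one_right hinv, hr, S.el_mul h0 _ _ _ _ _ _ _ _ (map_one _) (map_one _) (map_one _),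
        if_pos rfl, δc_zero, mul_one, mul_one,
        show (0 : Fin 2) + k = k from zero_add k, show (0 : Fin 2) + 1 = 1 from rfl,
        S.el_mul h0 _ _ _ _ _ _ _ _ (map_one _) (vP_sign _ _) (map_one _), if_neg (by decide), if_neg (by decide),
        hδ, one_mul, ← hq, add_zero, add_zero]
    have hW' : IsConj S.w (S.el 1 1 k 1) := hW.trans (isConj_iff.mpr ⟨r⁻¹, by rw [← e1]; group⟩)
    have hgT : Commute S.g (S.Θ (zL * aL)) := by
      show _ = _
      have h : S.τ (S.Θ (zL * aL)) = S.Θ (zL * aL) := by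
        rw [map_mul, map_mul]
        show S.τ S.z * S.τ S.a = S.z * S.a
        rw [S.τ_z, S.τ_a, S.za_comm.eq]
      nth_rewrite 1 [← h]
      rw [S.τ_apply, ← mul_assoc, ← mul_assoc, S.gg, one_mul]
    have he : S.el 1 1 k 1 = S.w ^ (k : ℕ) * S.g := by simp [el]
    have hcom : Commute (S.el 1 1 k 1) (S.Θ (zL * aL)) := by
      rw [he]
      exact ((S.Θ_commute (by decide) : Commute S.w (S.Θ (zL * aL))).pow_left _).mul_left hgT
    have hw := S.W_za hW' hcom
    have he' : S.el 1 1 1 0 = S.w := by simp [el]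
    exact absurd (S.el_inj h0 (map_one _) (map_one _) (map_one _) (map_one _) (hw.trans he'.symm)).2.2.2 (by decide)

theorem class_T_N0 {t : G} (ht : t ∈ S.T h0) (hW : IsConj S.w t) :
    ∃ n ∈ S.N0 h0, n * S.w * n⁻¹ = t := by
  obtain ⟨b, d, rfl⟩ := S.class_T h0 ht hW
  refine ⟨S.el (vP b 0) (vP d 0) 0 0, S.el_mem_N0 h0 (vP_sign _ _) (vP_sign _ _), ?_⟩
  rw [mul_inv_eq_iff_eq_mul, show S.w = S.el 1 1 1 0 by simp [el],
    S.el_mul h0 _ _ _ _ _ _ _ _ (vP_sign _ _) (map_one _) (map_one _),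
    S.el_mul h0 _ _ _ _ _ _ _ _ (vP_sign _ _) (vP_sign _ _) (vP_sign _ _)]
  simp only [if_true, show (0 : Fin 2) + 1 = 1 from rfl, show (1 : Fin 2) + 0 = 1 from rfl,
    show (0 : Fin 2) + 0 = 0 from rfl]
  have h : ∀ b : Fin 2, vP b 0 * δc 0 1 = vP 0 b * δc 1 (vP b 0) := by decide +kernel
  rw [h, h]

/-- `T` is a Sylow 2-subgroup. -/
theorem exists_sylow : ∃ P : Sylow 2 G, (P : Subgroup G) = S.T h0 := by
  classical
  haveI : Fact (Nat.Prime 2) := ⟨Nat.prime_two⟩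
  obtain ⟨P, hP⟩ := (IsPGroup.of_card (n := 6) (p := 2) (S.card_T h0)).exists_le_sylow
  refine ⟨P, le_antisymm ?_ hP⟩
  -- a 2-group in `G0` has order at most 64
  let A := {p : Perm (Fin 5) // Perm.sign p = 1}
  have hcardG0 : Nat.card (S.G0 h0) = 64 * 225 := by
    let F : A × A × Fin 2 × Fin 2 → S.G0 h0 := fun t =>
      ⟨S.el t.1.1 t.2.1.1 t.2.2.1 t.2.2.2, S.el_mem_G0 h0 t.1.2 t.2.1.2 _ _⟩
    have hF : Function.Bijective F := by
      refine ⟨?_, fun x => ?_⟩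
      · rintro ⟨p, q, k, l⟩ ⟨p', q', k', l'⟩ h
        obtain ⟨e1, e2, rfl, rfl⟩ := S.el_inj h0 p.2 q.2 p'.2 q'.2 (congrArg Subtype.val h)
        rw [Subtype.ext e1, Subtype.ext e2]
      · obtain ⟨n, hn, k, l, e⟩ := (S.mem_G0 h0).mp x.2
        obtain ⟨p, q, hp, hq, rfl⟩ := (S.mem_N0 h0).mp hn
        exact ⟨(⟨p, hp⟩, ⟨q, hq⟩, k, l), Subtype.ext e.symm⟩
    rw [← Nat.card_congr (Equiv.ofBijective F hF)]
    have hA : Nat.card A = 60 := by
      rw [Nat.card_eq_fintype_card, Fintype.card_subtype]; decide +kernel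
    rw [Nat.card_prod, Nat.card_prod, Nat.card_prod, hA, Nat.card_fin]
  have hsmall : ∀ Q : Subgroup G, Q ≤ (P : Subgroup G) → Q ≤ S.G0 h0 → Nat.card Q ≤ 64 := by
    intro Q hQP hQ0
    have hd := Subgroup.card_dvd_of_le hQ0
    obtain ⟨n, hn⟩ := IsPGroup.iff_card.mp (P.2.to_le hQP)
    rw [hcardG0, hn] at hd
    have h2 : 2 ^ n ∣ 64 := (Nat.Coprime.pow_left n (show Nat.Coprime 2 225 by norm_num)).dvd_of_dvd_mul_right hd
    rw [hn]; exact Nat.le_of_dvd (by norm_num) h2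
  intro x hx
  by_contra hxT
  haveI : Group.IsNilpotent (P : Subgroup G) := P.2.isNilpotent
  have hlt : (S.T h0).subgroupOf (P : Subgroup G) < ⊤ :=
    lt_top_iff_ne_top.mpr fun h => hxT (Subgroup.subgroupOf_eq_top.mp h hx)
  obtain ⟨y, hyN, hyT⟩ := SetLike.exists_of_lt (Group.normalizerCondition_of_isNilpotent _ hlt)
  have hwT : S.w ∈ S.T h0 := ⟨0, 0, 0, 0, 1, 0, by simp [el, vP_values]⟩
  have hm := (Subgroup.mem_normalizer_iff.mp hyN ⟨S.w, hP hwT⟩).mp (Subgroup.mem_subgroupOf.mpr hwT)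
  rw [Subgroup.mem_subgroupOf] at hm
  obtain ⟨n, hn, e⟩ := S.class_T_N0 h0 (t := (y : G) * S.w * (y : G)⁻¹) (by simpa using hm)
    (isConj_iff.mpr ⟨y, rfl⟩)
  have hc : Commute (n⁻¹ * (y : G)) S.w := by
    refine mul_inv_eq_iff_eq_mul.mp ?_
    rw [mul_inv_rev, inv_inv, show n⁻¹ * (y : G) * S.w * ((y : G)⁻¹ * n) =
      n⁻¹ * ((y : G) * S.w * (y : G)⁻¹) * n by group, ← e]
    group
  have hy0 : (y : G) ∈ S.G0 h0 := by
    have := mul_mem (S.N0_le_G0 h0 hn) (S.cent_w_G0 h0 hc)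
    rwa [mul_inv_cancel_left] at this
  set Q := S.T h0 ⊔ Subgroup.zpowers (y : G) with hQ
  have hQP : Q ≤ (P : Subgroup G) := sup_le hP ((Subgroup.zpowers_le).mpr y.2)
  have hQ0 : Q ≤ S.G0 h0 := sup_le (S.T_le_G0 h0) ((Subgroup.zpowers_le).mpr hy0)
  have e64 : S.T h0 = Q := Subgroup.eq_of_le_of_card_ge le_sup_left (by rw [S.card_T h0]; exact hsmall Q hQP hQ0)
  refine hyT (Subgroup.mem_subgroupOf.mpr ?_)
  rw [e64]
  exact Subgroup.mem_sup_right (Subgroup.mem_zpowers _)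

/-- An involution commuting with `w` and an element of order three is no product of
involutions of the two factors. -/
theorem not_conj_sv {x e : G} (hcard : Nat.card (Subgroup.centralizer ({x, S.w} : Set G)) ≤ 24)
    (hxw : Commute x S.w) (he : e ^ 3 = 1) (he1 : e ≠ 1) (hex : Commute e x) (hew : Commute e S.w) :
    ¬ IsConj x (S.s * S.Ω S.π0) := by
  classical
  intro h
  haveI : Fact (Nat.Prime 2) := ⟨Nat.prime_two⟩
  obtain ⟨P, hP⟩ := S.exists_sylow h0
  obtain ⟨k, hk⟩ := isConj_iff.mp h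
  set C := Subgroup.centralizer ({x} : Set G) with hC
  have hwC : S.w ∈ C := Subgroup.mem_centralizer_singleton_iff.mpr hxw.eq.symm
  have hTC : (S.T h0).map (MulAut.conj k⁻¹).toMonoidHom ≤ C := by
    rintro _ ⟨t, ht, rfl⟩
    refine Subgroup.mem_centralizer_singleton_iff.mpr ?_
    have hc : t * (S.s * S.Ω S.π0) = S.s * S.Ω S.π0 * t := (S.T_cent_sv h0 t ht).eq
    show k⁻¹ * t * k⁻¹⁻¹ * x = x * (k⁻¹ * t * k⁻¹⁻¹)
    rw [← hk] at hc
    calc k⁻¹ * t * k⁻¹⁻¹ * x = k⁻¹ * (t * (k * x * k⁻¹)) * k := by group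
      _ = _ := by rw [hc]; group
  have hT2 : IsPGroup 2 (S.T h0) := IsPGroup.of_card (n := 6) (S.card_T h0)
  obtain ⟨R0, hR0⟩ := (((hT2.map (MulAut.conj k⁻¹).toMonoidHom)).comap_of_injective C.subtype C.subtype_injective).exists_le_sylow
  have hwp : IsPGroup 2 (Subgroup.zpowers (⟨S.w, hwC⟩ : C)) := fun y => ⟨1, by
    obtain ⟨i, hi⟩ := Subgroup.mem_zpowers_iff.mp y.2
    refine Subtype.ext ?_
    rw [pow_one, SubgroupClass.coe_pow, OneMemClass.coe_one, ← hi, ← zpow_natCast, ← zpow_mul, mul_comm,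
      zpow_mul, zpow_natCast, show (⟨S.w, hwC⟩ : C) ^ 2 = 1 from Subtype.ext (by simp [sq, S.ww]), one_zpow]⟩
  obtain ⟨R, hR⟩ := hwp.exists_le_sylow
  set R' := (R : Subgroup C).map C.subtype with hR'
  have h64 : 64 ≤ Nat.card R' := by
    rw [hR', Subgroup.card_map_of_injective C.subtype_injective, Nat.card_congr (R.equiv R0).toEquiv]
    refine le_trans (le_of_eq ?_) (Subgroup.card_le_of_le hR0)
    show _ = Nat.card (((S.T h0).map (MulAut.conj k⁻¹).toMonoidHom).subgroupOf C)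
    rw [Nat.card_congr (Subgroup.subgroupOfEquivOfLe hTC).toEquiv,
      Subgroup.card_map_of_injective (MulAut.conj k⁻¹).injective, S.card_T h0]
  obtain ⟨Q, hQ⟩ := (R.2.map C.subtype).exists_le_sylow
  have hQR : (Q : Subgroup G) = R' := by
    refine (Subgroup.eq_of_le_of_card_ge hQ ?_).symm
    rw [Nat.card_congr (Q.equiv P).toEquiv, hP, S.card_T h0]; exact h64
  obtain ⟨l, hl⟩ := MulAction.exists_smul_eq G P Q
  have hwR : S.w ∈ R' := ⟨⟨S.w, hwC⟩, hR (Subgroup.mem_zpowers _), rfl⟩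
  have hR'T : R' = (S.T h0).map (MulAut.conj l).toMonoidHom := by
    rw [← hQR, ← hl, Sylow.coe_subgroup_smul, hP]; rfl
  obtain ⟨t, ht, hte⟩ := hR'T ▸ hwR
  have hte' : l * t * l⁻¹ = S.w := hte
  have htW : IsConj S.w t := isConj_iff.mpr ⟨l⁻¹, by rw [inv_inv, ← hte']; group⟩
  -- the centralizer of `t` in `T`
  have hcls : ∀ u : S.T h0, ∃ bd : Fin 2 × Fin 2,
      (u : G) * t * (u : G)⁻¹ = S.el (vP 0 bd.1) (vP 0 bd.2) 1 0 := fun u => by
    obtain ⟨b, d, e⟩ := S.class_T h0 (mul_mem (mul_mem u.2 ht) (inv_mem u.2))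
      (htW.trans (isConj_iff.mpr ⟨(u : G), rfl⟩))
    exact ⟨(b, d), e⟩
  choose f hf using hcls
  set K := (Subgroup.centralizer ({t} : Set G) ⊓ S.T h0).map (MulAut.conj l).toMonoidHom with hK
  have h16 : 16 ≤ Nat.card K := by
    rw [hK, Subgroup.card_map_of_injective (MulAut.conj l).injective]
    let rep : Fin 2 × Fin 2 → S.T h0 := Function.invFun f
    let F : S.T h0 → ↥(Subgroup.centralizer ({t} : Set G) ⊓ S.T h0) × (Fin 2 × Fin 2) := fun u =>
      (⟨((rep (f u) : S.T h0) : G)⁻¹ * (u : G), by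
        refine ⟨Subgroup.mem_centralizer_singleton_iff.mpr ?_, (S.T h0).mul_mem ((S.T h0).inv_mem (rep (f u)).2) u.2⟩
        have h1 : f (rep (f u)) = f u := Function.invFun_eq ⟨u, rfl⟩
        have h2 := hf (rep (f u))
        rw [h1, ← hf u] at h2
        calc ((rep (f u) : S.T h0) : G)⁻¹ * (u : G) * t
            = ((rep (f u) : S.T h0) : G)⁻¹ * ((u : G) * t * (u : G)⁻¹) * (u : G) := by group
          _ = _ := by rw [← h2]; group⟩, f u)
    have hF : Function.Injective F := fun u u' e => by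
      have h1 : f u = f u' := congrArg Prod.snd e
      have h2 := congrArg Subtype.val (congrArg Prod.fst e)
      simp only [F] at h2
      rw [h1] at h2
      exact Subtype.ext (mul_left_cancel h2)
    have := Nat.card_le_card_of_injective F hF
    rw [S.card_T h0, Nat.card_prod, Nat.card_prod, Nat.card_fin] at this
    omega
  have hK2 : IsPGroup 2 K := (hT2.to_le inf_le_right).map _
  set CC := Subgroup.centralizer ({x, S.w} : Set G) with hCC
  have hKC : K ≤ CC := by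
    rintro _ ⟨u, ⟨hu1, hu2⟩, rfl⟩
    refine Subgroup.mem_centralizer_iff.mpr ?_
    rintro y (rfl | rfl)
    · have hm : (MulAut.conj l).toMonoidHom u ∈ R' := hR'T ▸ ⟨u, hu2, rfl⟩
      obtain ⟨c, -, hc⟩ := hm
      rw [← hc]
      exact (Subgroup.mem_centralizer_singleton_iff.mp c.2).symm
    · show S.w * (l * u * l⁻¹) = l * u * l⁻¹ * S.w
      rw [← hte', show l * t * l⁻¹ * (l * u * l⁻¹) = l * (t * u) * l⁻¹ by group,
        show l * u * l⁻¹ * (l * t * l⁻¹) = l * (u * t) * l⁻¹ by group,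
        Subgroup.mem_centralizer_singleton_iff.mp hu1]
  obtain ⟨n, hn⟩ := IsPGroup.iff_card.mp hK2
  have h16' : 16 ∣ Nat.card CC := by
    refine dvd_trans ?_ (Subgroup.card_dvd_of_le hKC)
    rw [hn] at h16 ⊢
    have : 4 ≤ n := by
      by_contra hc
      have := Nat.pow_lt_pow_right (show 1 < 2 by norm_num) (show n < 4 by omega)
      omega
    exact pow_dvd_pow 2 this
  have heC : e ∈ CC := Subgroup.mem_centralizer_iff.mpr (by
    rintro y (rfl | rfl)
    · exact hex.eq.symm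
    · exact hew.eq.symm)
  have h3 : 3 ∣ Nat.card CC := by
    have ho : orderOf e = 3 := orderOf_eq_prime he he1
    rw [← ho, ← Subgroup.orderOf_mk e heC]
    exact orderOf_dvd_natCard _
  have := Nat.le_of_dvd Nat.card_pos ((show Nat.Coprime 16 3 by norm_num).mul_dvd_of_dvd_of_dvd h16' h3)
  omega

/-- `s` is not conjugate to a product of involutions of the two factors. -/
theorem s_not_sv : ¬ IsConj S.s (S.s * S.Ω S.π0) :=
  S.not_conj_sv h0 (e := S.a) (S.card_cent_sw h0 (Or.inl rfl)) (S.sΩ _) S.ha3 S.a_ne (S.sΩ cA).symm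
    (S.Θ_commute (by decide))

/-- A subgroup of index two in which `g` or `w * g` lies and `w` does not. -/
theorem exists_index_two_w : ∃ H : Subgroup G, H.index = 2 ∧ S.w ∉ H := by
  classical
  obtain ⟨P, hP⟩ := S.exists_sylow h0
  let Q : Subgroup G :=
    { carrier := {x | ∃ a b c d l, x = S.el (vP a b) (vP c d) 0 l}
      one_mem' := ⟨0, 0, 0, 0, 0, by rw [vP_values.1, S.el_one]⟩
      mul_mem' := by
        rintro _ _ ⟨a, b, c, d, l, rfl⟩ ⟨a', b', c', d', l', rfl⟩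
        rw [S.el_mul h0 _ _ _ _ _ _ _ _ (vP_sign _ _) (vP_sign _ _) (vP_sign _ _)]
        by_cases hl : l = 0
        · exact ⟨a + a', b + b', c + c', d + d', l + l', by simp [hl, δc_zero, vP_mul]⟩
        · exact ⟨a + c', b + d', c + a', d + b', l + l', by simp [hl, δc_zero, vP_mul]⟩
      inv_mem' := by
        rintro _ ⟨a, b, c, d, l, rfl⟩
        have hh : ∀ a b : Fin 2, vP (a + a) (b + b) = 1 := by decide
        have h2 : ∀ l : Fin 2, l + l = 0 := by decide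
        by_cases hl : l = 0
        · refine ⟨a, b, c, d, l, inv_eq_of_mul_eq_one_right ?_⟩
          rw [S.el_mul h0 _ _ _ _ _ _ _ _ (vP_sign _ _) (vP_sign _ _) (vP_sign _ _)]
          simp [hl, δc_zero, vP_mul, hh, S.el_one]
        · refine ⟨c, d, a, b, l, inv_eq_of_mul_eq_one_right ?_⟩
          rw [S.el_mul h0 _ _ _ _ _ _ _ _ (vP_sign _ _) (vP_sign _ _) (vP_sign _ _)]
          simp [hl, δc_zero, vP_mul, hh, h2, vP_values.1, S.el_one] }
  have hQT : Q ≤ S.T h0 := by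
    rintro _ ⟨a, b, c, d, l, rfl⟩
    exact ⟨a, b, c, d, 0, l, rfl⟩
  have hwT : S.w ∈ S.T h0 := ⟨0, 0, 0, 0, 1, 0, by simp [el, vP_values]⟩
  have hQk : ∀ {a b c d k l}, S.el (vP a b) (vP c d) k l ∈ Q ↔ k = 0 := by
    intro a b c d k l
    constructor
    · rintro ⟨a', b', c', d', l', e⟩
      exact (S.el_inj h0 (vP_sign _ _) (vP_sign _ _) (vP_sign _ _) (vP_sign _ _) e).2.2.1
    · rintro rfl
      exact ⟨a, b, c, d, l, rfl⟩
  have hQi : Q.relIndex (P : Subgroup G) = 2 := by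
    rw [hP, Subgroup.relIndex, Subgroup.index_eq_two_iff]
    refine ⟨⟨S.w, hwT⟩, fun x => ?_⟩
    obtain ⟨a, b, c, d, k, l, e⟩ := x.2
    simp only [Subgroup.mem_subgroupOf, Subgroup.coe_mul, e]
    have he' : S.el (vP a b) (vP c d) k l * S.w = S.el (vP a b) (vP c d) (k + 1) l := by
      conv_lhs => rw [show S.w = S.el 1 1 1 0 by simp [el]]
      rw [S.el_mul h0 _ _ _ _ _ _ _ _ (vP_sign _ _) (map_one _) (map_one _)]
      simp only [ite_self]
      have : ∀ k : Fin 2, δc k 1 = 1 := by decide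
      rw [this, mul_one, mul_one, add_zero]
    rw [he', hQk, hQk]
    fin_cases k <;> simp [Xor]
  have hwQ : S.w ∉ Q := by
    rw [show S.w = S.el (vP 0 0) (vP 0 0) 1 0 by simp [el, vP_values], hQk]
    decide
  rcases CfsgLib.Transfer.thompson_transfer P hQi S.ww (hP ▸ hwT) hwQ with ⟨H, -, hH, hHw⟩ | ⟨k, -, hk⟩
  · exact ⟨H, hH, hHw⟩
  · obtain ⟨b, d, e⟩ := S.class_T h0 (hQT hk) (isConj_iff.mpr ⟨k, rfl⟩)
    rw [e, hQk] at hk
    exact absurd hk (by decide)

/-- A second subgroup of index two. -/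
theorem exists_index_two_g (k₀ : Fin 2) :
    ∃ H : Subgroup G, H.index = 2 ∧ S.w ^ (k₀ : ℕ) * S.g ∉ H := by
  classical
  obtain ⟨P, hP⟩ := S.exists_sylow h0
  set x := S.w ^ (k₀ : ℕ) * S.g with hx
  let Q : Subgroup G :=
    { carrier := {y | ∃ a b c d k, y = S.el (vP a b) (vP c d) k 0}
      one_mem' := ⟨0, 0, 0, 0, 0, by rw [vP_values.1, S.el_one]⟩
      mul_mem' := by
        rintro _ _ ⟨a, b, c, d, k, rfl⟩ ⟨a', b', c', d', k', rfl⟩
        rw [S.el_mul h0 _ _ _ _ _ _ _ _ (vP_sign _ _) (vP_sign _ _) (vP_sign _ _), if_pos rfl, if_pos rfl]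
        obtain ⟨i, j, e⟩ := vP_δ k a' b'
        obtain ⟨i', j', e'⟩ := vP_δ k c' d'
        exact ⟨a + i, b + j, c + i', d + j', k + k', by rw [e, e', vP_mul, vP_mul, add_zero]⟩
      inv_mem' := by
        rintro _ ⟨a, b, c, d, k, rfl⟩
        obtain ⟨i, j, e⟩ := vP_δ k a b
        obtain ⟨i', j', e'⟩ := vP_δ k c d
        refine ⟨i, j, i', j', k, inv_eq_of_mul_eq_one_right ?_⟩
        rw [S.el_mul h0 _ _ _ _ _ _ _ _ (vP_sign _ _) (vP_sign _ _) (vP_sign _ _), if_pos rfl, if_pos rfl]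
        have hinv : ∀ (k a b : Fin 2) (i j : Fin 2), δc k (vP a b) = vP i j → vP a b * δc k (vP i j) = 1 := by
          decide +kernel
        have h2 : ∀ k : Fin 2, k + k = 0 := by decide
        rw [hinv _ _ _ _ _ e, hinv _ _ _ _ _ e', h2, add_zero, S.el_one] }
  have hQT : Q ≤ S.T h0 := by
    rintro _ ⟨a, b, c, d, k, rfl⟩
    exact ⟨a, b, c, d, k, 0, rfl⟩
  have hQl : ∀ {a b c d k l}, S.el (vP a b) (vP c d) k l ∈ Q ↔ l = 0 := by
    intro a b c d k l
    constructor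
    · rintro ⟨a', b', c', d', k', e⟩
      exact (S.el_inj h0 (vP_sign _ _) (vP_sign _ _) (vP_sign _ _) (vP_sign _ _) e).2.2.2
    · rintro rfl
      exact ⟨a, b, c, d, k, rfl⟩
  have hxel : x = S.el (vP 0 0) (vP 0 0) k₀ 1 := by simp [el, vP_values, hx]
  have hxT : x ∈ S.T h0 := ⟨_, _, _, _, _, _, hxel⟩
  have hQi : Q.relIndex (P : Subgroup G) = 2 := by
    rw [hP, Subgroup.relIndex, Subgroup.index_eq_two_iff]
    refine ⟨⟨x, hxT⟩, fun y => ?_⟩
    obtain ⟨a, b, c, d, k, l, e⟩ := y.2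
    simp only [Subgroup.mem_subgroupOf, Subgroup.coe_mul, e]
    have he' : S.el (vP a b) (vP c d) k l * x = S.el (vP a b) (vP c d) (k + k₀) (l + 1) := by
      rw [hxel, vP_values.1, S.el_mul h0 _ _ _ _ _ _ _ _ (vP_sign _ _) (map_one _) (map_one _)]
      simp only [ite_self]
      have : ∀ k : Fin 2, δc k 1 = 1 := by decide
      rw [this, mul_one, mul_one]
    rw [he', hQl, hQl]
    fin_cases l <;> simp [Xor]
  have hxQ : x ∉ Q := by rw [hxel, hQl]; decide
  have hcx : Commute S.w x := ((Commute.refl S.w).pow_right _).mul_right S.g_w_comm.symm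
  have hxx : x * x = 1 := by
    rw [hx, mul_assoc, ← mul_assoc S.g, (S.g_w_comm.pow_right (k₀ : ℕ)).eq, mul_assoc (S.w ^ (k₀ : ℕ)) S.g,
      S.gg, mul_one, ← pow_add, ← two_mul, pow_mul, sq, S.ww, one_pow]
  have hgT : Commute (S.Θ (zL * aL)) S.g := by
    refine (Commute.symm ?_)
    show _ = _
    have h : S.τ (S.Θ (zL * aL)) = S.Θ (zL * aL) := by
      rw [map_mul, map_mul]
      show S.τ S.z * S.τ S.a = S.z * S.a
      rw [S.τ_z, S.τ_a, S.za_comm.eq]
    nth_rewrite 1 [← h]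
    rw [S.τ_apply, ← mul_assoc, ← mul_assoc, S.gg, one_mul]
  have hxza : Commute (S.Θ (zL * aL)) x :=
    ((S.Θ_commute (by decide) : Commute (S.Θ (zL * aL)) S.w).pow_right _).mul_right hgT
  rcases CfsgLib.Transfer.thompson_transfer P hQi hxx (hP ▸ hxT) hxQ with ⟨H, -, hH, hHx⟩ | ⟨i, -, hi⟩
  · exact ⟨H, hH, hHx⟩
  exfalso
  obtain ⟨a, b, c, d, k, e⟩ := hi
  have hconj : IsConj x (S.el (vP a b) (vP c d) k 0) := isConj_iff.mpr ⟨i, e⟩
  by_cases hk : k = 1
  · -- conjugate to `w`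
    subst hk
    have hy2 : S.el (vP a b) (vP c d) 1 0 * S.el (vP a b) (vP c d) 1 0 = S.el 1 1 0 0 := by
      rw [← e, show i * x * i⁻¹ * (i * x * i⁻¹) = i * (x * x) * i⁻¹ by group, hxx, mul_one, mul_inv_cancel,
        S.el_one]
    rw [S.el_mul h0 _ _ _ _ _ _ _ _ (vP_sign _ _) (vP_sign _ _) (vP_sign _ _), if_pos rfl, if_pos rfl] at hy2
    obtain ⟨eA, eB, -, -⟩ := S.el_inj h0 (by rw [Perm.sign_mul, δc_sign, vP_sign, one_mul])
      (by rw [Perm.sign_mul, δc_sign, vP_sign, one_mul]) (map_one _) (map_one _) hy2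
    obtain rfl := vP_invol_w a b eA
    obtain rfl := vP_invol_w c d eB
    have hW : IsConj S.w (S.el (vP 0 b) (vP 0 d) 1 0) := by
      refine isConj_iff.mpr ⟨S.el (vP b 0) (vP d 0) 0 0, ?_⟩
      rw [mul_inv_eq_iff_eq_mul, show S.w = S.el 1 1 1 0 by simp [el],
        S.el_mul h0 _ _ _ _ _ _ _ _ (vP_sign _ _) (map_one _) (map_one _),
        S.el_mul h0 _ _ _ _ _ _ _ _ (vP_sign _ _) (vP_sign _ _) (vP_sign _ _)]
      simp only [if_true, show (0 : Fin 2) + 1 = 1 from rfl, show (1 : Fin 2) + 0 = 1 from rfl,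
        show (0 : Fin 2) + 0 = 0 from rfl]
      have h : ∀ b : Fin 2, vP b 0 * δc 0 1 = vP 0 b * δc 1 (vP b 0) := by decide +kernel
      rw [h, h]
    have hxw := S.W_za (hW.trans hconj.symm) hxza.symm
    rw [hxel, show S.w = S.el (vP 0 0) (vP 0 0) 1 0 by simp [el, vP_values]] at hxw
    exact absurd (S.el_inj h0 (vP_sign _ _) (vP_sign _ _) (vP_sign _ _) (vP_sign _ _) hxw).2.2.2 (by decide)
  · have hk0 : k = 0 := Fin.ext (by omega)
    subst hk0
    have e' : S.el (vP a b) (vP c d) 0 0 = S.τ (S.Ω (vP a b)) * S.Ω (vP c d) := by simp [el]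
    rw [e'] at hconj
    have hnV : ¬ IsConj S.s x := fun h => S.V_three h0 h hxza.symm (IsConj.refl _)
    by_cases hp : vP a b = 1
    · by_cases hq : vP c d = 1
      · rw [hp, hq, map_one, map_one, one_mul] at hconj
        obtain ⟨j, hj⟩ := isConj_iff.mp hconj
        exact hxQ ((conj_eq_one_iff.mp hj) ▸ one_mem Q)
      · obtain ⟨r, -, hr⟩ := vP_conj c d hq
        rw [hp, map_one, map_one, one_mul] at hconj
        exact hnV ((S.A_isV h0 ⟨r, hr⟩).2.trans hconj.symm)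
    · obtain ⟨r, hrs, hr⟩ := vP_conj a b hp
      by_cases hq : vP c d = 1
      · rw [hq, map_one, mul_one] at hconj
        exact hnV ((S.A_isV h0 ⟨r, hr⟩).1.trans hconj.symm)
      · obtain ⟨r', hrs', hr'⟩ := vP_conj c d hq
        have hcard : Nat.card (Subgroup.centralizer ({x, S.w} : Set G)) ≤ 24 := by
          refine S.card_cent_sw h0 (Or.inr ?_)
          rw [hx]
          fin_cases k₀
          · exact Or.inl (by simp)
          · exact Or.inr (by simp)
        refine S.not_conj_sv h0 (e := S.Θ (zL * aL)) hcard hcx.symm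
          (by rw [← map_pow, show (zL * aL) ^ 3 = 1 by decide, map_one])
          (fun h => absurd (S.inj (h.trans (map_one _).symm)) (by decide)) hxza (S.Θ_commute (by decide))
          (hconj.trans (IsConj.symm (isConj_iff.mpr ⟨S.τ (S.Ω r) * S.Ω r', ?_⟩)))
        have e0 : S.τ (S.Ω r) * S.Ω r' * (S.s * S.Ω S.π0) =
            S.τ (S.Ω (r * (swap 0 1 * swap 3 4))) * S.Ω (r' * (swap 0 1 * swap 3 4)) := by
          rw [← S.τ_π0, h0]
          exact S.pair_mul h0 r r' _ _ hrs' (by decide)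
        rw [e0, ← hr, ← hr', mul_inv_eq_iff_eq_mul,
          S.pair_mul h0 (r * (swap 0 1 * swap 3 4) * r⁻¹) (r' * (swap 0 1 * swap 3 4) * r'⁻¹) r r'
            (by rw [Perm.sign_mul, Perm.sign_mul, Perm.sign_inv, hrs']; decide) hrs, inv_mul_cancel_right,
          inv_mul_cancel_right]

/-- The subgroup of index four. -/
theorem exists_N1 : ∃ N : Subgroup G, N.Normal ∧ N.index = 4 ∧ (∀ x : G, x ^ 2 ∈ N) ∧
    S.N0 h0 ≤ N ∧ S.G0 h0 ⊓ N = S.N0 h0 := by
  obtain ⟨H1, h1, hw⟩ := S.exists_index_two_w h0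
  haveI := Subgroup.normal_of_index_eq_two h1
  obtain ⟨k₀, hk₀⟩ : ∃ k₀ : Fin 2, S.w ^ (k₀ : ℕ) * S.g ∈ H1 := by
    by_cases hg : S.g ∈ H1
    · exact ⟨0, by simpa using hg⟩
    · refine ⟨1, ?_⟩
      simpa using (Subgroup.mul_mem_iff_of_index_two h1).mpr (iff_of_false hw hg)
  obtain ⟨H2, h2, hx⟩ := S.exists_index_two_g h0 k₀
  haveI := Subgroup.normal_of_index_eq_two h2
  set N := H1 ⊓ H2 with hN
  have hidx : N.index = 4 := by
    have h12 : H2.relIndex H1 = 2 := by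
      rw [Subgroup.relIndex, Subgroup.index_eq_two_iff]
      refine ⟨⟨_, hk₀⟩, fun y => ?_⟩
      simp only [Subgroup.mem_subgroupOf, Subgroup.coe_mul]
      by_cases hy : (y : G) ∈ H2
      · exact Or.inr ⟨hy, fun h => hx ((mul_mem_cancel_left hy).mp h)⟩
      · exact Or.inl ⟨(Subgroup.mul_mem_iff_of_index_two h2).mpr (iff_of_false hy hx), hy⟩
    rw [hN, inf_comm, ← Subgroup.relIndex_mul_index (inf_le_right : H2 ⊓ H1 ≤ H1),
      Subgroup.inf_relIndex_right, h12, h1]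
  have hsq : ∀ x : G, x ^ 2 ∈ N := fun x =>
    ⟨Subgroup.sq_mem_of_index_two h1 x, Subgroup.sq_mem_of_index_two h2 x⟩
  have h3mem : ∀ (f : Perm (Fin 5) →* G) (q : Perm (Fin 5)), Perm.sign q = 1 → f q ∈ N := by
    intro f q hq
    have hle : alternatingGroup (Fin 5) ≤ N.comap f := by
      rw [← Perm.closure_three_cycles_eq_alternating, Subgroup.closure_le]
      intro t ht
      have h3 : t ^ 3 = 1 := by rw [← (show t.IsThreeCycle from ht).orderOf, pow_orderOf_eq_one]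
      show f t ∈ N
      rw [squares_three t h3, map_mul, map_pow]
      exact mul_mem (hsq _) (hsq _)
    exact hle (Perm.mem_alternatingGroup.mpr hq)
  have hN0 : S.N0 h0 ≤ N := by
    intro y hy
    obtain ⟨p, q, hp, hq, rfl⟩ := (S.mem_N0 h0).mp hy
    exact mul_mem (h3mem (S.τ.toMonoidHom.comp S.Ω) p hp) (h3mem S.Ω q hq)
  refine ⟨N, inferInstance, hidx, hsq, hN0, le_antisymm ?_ (le_inf (S.N0_le_G0 h0) hN0)⟩
  rintro y ⟨hy0, hyN⟩
  obtain ⟨n, hn, k, l, rfl⟩ := (S.mem_G0 h0).mp hy0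
  have hm : S.w ^ (k : ℕ) * S.g ^ (l : ℕ) ∈ N := by
    rw [mul_assoc] at hyN
    exact (mul_mem_cancel_left (hN0 hn)).mp hyN
  suffices h : k = 0 ∧ l = 0 by rw [h.1, h.2]; simpa using hn
  have hl : l = 0 := by
    by_contra hne
    have hl1 : (l : ℕ) = 1 := by omega
    rw [hl1, pow_one] at hm
    by_cases he : k = k₀
    · exact hx (he ▸ hm.2)
    · refine hw ?_
      have hd : S.w ^ (k : ℕ) * S.g * (S.w ^ (k₀ : ℕ) * S.g)⁻¹ = S.w := by
        have hdec : ∀ k k₀ : Fin 2, k ≠ k₀ → (k = 0 ∧ k₀ = 1) ∨ (k = 1 ∧ k₀ = 0) := by decide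
        have := hdec k k₀ he
        rcases this with ⟨rfl, rfl⟩ | ⟨rfl, rfl⟩
        · simp [mul_inv_rev, S.g_inv, ← mul_assoc, S.gg, inv_eq_of_mul_eq_one_left S.ww]
        · simp [mul_assoc]
      exact hd ▸ mul_mem hm.1 (inv_mem hk₀)
  refine ⟨?_, hl⟩
  by_contra hne
  have hk1 : (k : ℕ) = 1 := by omega
  rw [hk1, hl, Fin.val_zero, pow_zero, pow_one, mul_one] at hm
  exact hw hm.1

end Setup

end CfsgLib.SymEightThree
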