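import Mathlib
import Cfsg.Agent.Lib.Perm.AutSym

/-!
# A subgroup `S₅` of `S₆` made into a point stabilizer
-/

set_option autoImplicit false

open Equiv

namespace CfsgLib.SymEightThree

/-- The stabilizer of the last point. -/
def iotaSix : Perm (Fin 5) →* Perm (Fin 6) where
  toFun π := finSumFinEquiv.permCongr (Perm.sumCongr π (1 : Perm (Fin 1)))
  map_one' := by decide
  map_mul' π ρ := by
    ext x
    simp [Equiv.permCongr_apply]

theorem iotaSix_inj : Function.Injective iotaSix := fun π ρ h => by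
  have h' := (Equiv.permCongr (finSumFinEquiv (m := 5) (n := 1))).injective h
  exact Perm.sumCongrHom_injective.eq_iff (a := (π, (1 : Perm (Fin 1)))) (b := (ρ, 1)) |>.mp h' |>
    congrArg Prod.fst

theorem iotaSix_five : ∀ π : Perm (Fin 5), iotaSix π 5 = 5 := by decide +kernel

set_option maxRecDepth 8000 in
theorem iotaSix_surj : ∀ p : Perm (Fin 6), p 5 = 5 → ∃ π, iotaSix π = p := by decide +kernel

theorem exists_six_model {Q : Type*} [Group Q] (e : Q ≃* Perm (Fin 6)) (f : Perm (Fin 5) →* Q)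
    (hf : Function.Injective f) : ∃ η : Q ≃* Perm (Fin 6), ∀ π, η (f π) = iotaSix π := by
  classical
  set f' : Perm (Fin 5) →* Perm (Fin 6) := e.toMonoidHom.comp f with hf'
  have hf'i : Function.Injective f' := e.injective.comp hf
  set H := f'.range with hH
  have hHi : H.index = 6 := by
    have h := H.card_mul_index
    rw [hH, ← Nat.card_congr (MonoidHom.ofInjective hf'i).toEquiv, Nat.card_perm, Nat.card_perm,
      Nat.card_fin, Nat.card_fin] at h
    rw [show Nat.factorial 5 = 120 from rfl, show Nat.factorial 6 = 720 from rfl] at h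
    rw [hH]; omega
  have hcore : H.normalCore = ⊥ :=
    CfsgLib.AutSym.normalCore_eq_bot (by rw [hHi, Fintype.card_fin]) (by simp)
  set ρ := MulAction.toPermHom (Perm (Fin 6)) (Perm (Fin 6) ⧸ H) with hρ
  have hρi : Function.Injective ρ := by
    rw [← MonoidHom.ker_eq_bot_iff, hρ, ← Subgroup.normalCore_eq_ker]; exact hcore
  have hcard : Nat.card (Perm (Fin 6) ⧸ H) = 6 := by rw [← Subgroup.index_eq_card]; exact hHi
  have hρb : Function.Bijective ρ := (Nat.bijective_iff_injective_and_card ρ).mpr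
    ⟨hρi, by rw [Nat.card_perm, Nat.card_perm, hcard, Nat.card_fin]⟩
  obtain ⟨β₀⟩ : Nonempty ((Perm (Fin 6) ⧸ H) ≃ Fin 6) :=
    ⟨(Finite.equivFinOfCardEq hcard)⟩
  set c₀ : Perm (Fin 6) ⧸ H := QuotientGroup.mk 1 with hc₀
  set β := β₀.trans (swap (β₀ c₀) 5) with hβ
  let η₀ : Q ≃* Perm (Fin 6) := e.trans ((MulEquiv.ofBijective ρ hρb).trans β.permCongrHom)
  have hη₀ : ∀ π, η₀ (f π) 5 = 5 := by
    intro π
    show β (ρ (f' π) (β.symm 5)) = 5
    have h1 : β c₀ = 5 := by simp [hβ]
    rw [← h1, β.symm_apply_apply]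
    congr 1
    show f' π • c₀ = c₀
    rw [hc₀, MulAction.Quotient.smul_mk, QuotientGroup.eq, smul_eq_mul, mul_one, mul_one, inv_mem_iff]
    exact ⟨π, rfl⟩
  choose h hh using fun π => iotaSix_surj _ (hη₀ π)
  let hHom : Perm (Fin 5) →* Perm (Fin 5) := MonoidHom.mk' h fun π ρ => iotaSix_inj (by
    rw [map_mul, hh, hh, hh, map_mul, map_mul])
  have hinj : Function.Injective hHom := fun π ρ e' => by
    have : iotaSix (h π) = iotaSix (h ρ) := congrArg iotaSix e'
    rw [hh, hh] at this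
    exact hf (η₀.injective this)
  obtain ⟨g, hg⟩ := CfsgLib.AutSym.exists_conj (Ω := Fin 5) (by simp)
    (MulEquiv.ofBijective hHom (Finite.injective_iff_bijective.mp hinj))
  refine ⟨η₀.trans (MulAut.conj (iotaSix g⁻¹)), fun π => ?_⟩
  show iotaSix g⁻¹ * η₀ (f π) * (iotaSix g⁻¹)⁻¹ = iotaSix π
  rw [← hh π, ← map_inv, ← map_mul, ← map_mul, show h π = g * π * g⁻¹ from hg π]
  congr 1
  group

set_option maxRecDepth 8000 in
theorem six_b : ∀ x : Perm (Fin 6), x * x = 1 →
    x * iotaSix (swap 0 1 * swap 1 2) = iotaSix (swap 0 1 * swap 1 2) * x →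
    x * iotaSix (swap 0 1) = iotaSix (swap 0 1) * x →
    (x * iotaSix (swap 3 4)) ^ 3 = 1 → x ≠ iotaSix (swap 3 4) →
    x * iotaSix (swap 2 4) = iotaSix (swap 2 4) * x ∨
      x * iotaSix (swap 2 3) = iotaSix (swap 2 3) * x := by decide +kernel

end CfsgLib.SymEightThree
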