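import Cfsg.Agent.Lib.SymEightThree.CentW
import Cfsg.Agent.Lib.SymEightThree.Six
import Cfsg.Agent.Lib.Coxeter.TypeA

/-!
# The homomorphism from the symmetric group of degree eight
-/

set_option autoImplicit false

open Equiv

namespace CfsgLib.SymEightThree

/-- The five points of the first factor in the eight. -/
def ptT : Fin 5 → Fin 8 := ![0, 1, 2, 3, 4]

/-- The five points of the second factor in the eight. -/
def ptS : Fin 5 → Fin 8 := ![5, 6, 7, 3, 4]

/-- The chain as permutations of five points, first half. -/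
def chT : Fin 7 → Perm (Fin 5) :=
  ![swap 0 1, swap 1 2, swap 2 3, swap 3 4, 1, 1, 1]

/-- The chain as permutations of five points, second half. -/
def chS : Fin 7 → Perm (Fin 5) :=
  ![1, 1, 1, swap 3 4, swap 0 4, swap 0 1, swap 1 2]

theorem chT_rel : ∀ i j : Fin 7, (i : ℕ) < 4 → (j : ℕ) < 4 →
    (chT i * chT j) ^ (if i = j then 1 else if (j : ℕ) + 1 = i ∨ (i : ℕ) + 1 = j then 3 else 2) = 1 := by
  decide +kernel

theorem chS_rel : ∀ i j : Fin 7, 3 ≤ (i : ℕ) → 3 ≤ (j : ℕ) →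
    (chS i * chS j) ^ (if i = j then 1 else if (j : ℕ) + 1 = i ∨ (i : ℕ) + 1 = j then 3 else 2) = 1 := by
  decide +kernel

/-- Conjugation taking adjacent transpositions to the second half of the chain. -/
def σS : Perm (Fin 5) := swap 0 2 * swap 3 4

theorem gen_five {M : Type*} [Monoid M] {f h : Perm (Fin 5) →* M}
    (H : ∀ i : Fin 4, f (swap i.castSucc i.succ) = h (swap i.castSucc i.succ)) : f = h :=
  MonoidHom.eq_of_eqOn_denseM (Perm.mclosure_swap_castSucc_succ 4) (by rintro _ ⟨i, rfl⟩; exact H i)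

namespace Setup

variable {G : Type*} [Group G] [Finite G] (S : Setup G)

/-- An element carrying `w` to `s` in the first case. -/
def k : G := S.g * S.Ω (swap 0 3 * swap 1 4)

variable (h0 : S.π0 = swap 0 1)

include h0

theorem τ_o_sym : S.τ S.o = S.s := by rw [← S.τ_π0, h0]; rfl

theorem k_w : S.k * S.w * S.k⁻¹ = S.s := by
  rw [k, show ∀ p : G, S.g * p * S.w * (S.g * p)⁻¹ = S.τ (p * S.w * p⁻¹) from fun p => by
    rw [S.τ_apply, mul_inv_rev, S.g_inv]; group,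
    w_eq, ← map_inv, ← map_mul, ← map_mul,
    show swap (0 : Fin 5) 3 * swap 1 4 * swap 3 4 * (swap 0 3 * swap 1 4)⁻¹ = swap 0 1 by decide]
  exact S.τ_o_sym h0

theorem cs_big : Nonempty (S.R ≃* Perm (Fin 6)) ∧ Nat.card S.Cw = 1440 := by
  refine S.cent_w_cases.resolve_left fun hA => ?_
  let F : Perm (Fin 5) × Fin 2 → S.Cw := fun t => ⟨S.k⁻¹ * (S.Ω t.1 * S.s ^ (t.2 : ℕ)) * S.k,
    S.mem_Cw.mpr (by
      show _ = _
      have hc : Commute (S.Ω t.1 * S.s ^ (t.2 : ℕ)) S.s :=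
        (S.sΩ t.1).symm.mul_left ((Commute.refl S.s).pow_left _)
      have hw : S.w = S.k⁻¹ * S.s * S.k := by rw [← S.k_w h0]; group
      rw [hw]
      calc S.k⁻¹ * (S.Ω t.1 * S.s ^ (t.2 : ℕ)) * S.k * (S.k⁻¹ * S.s * S.k)
          = S.k⁻¹ * ((S.Ω t.1 * S.s ^ (t.2 : ℕ)) * S.s) * S.k := by group
        _ = _ := by rw [hc.eq]; group)⟩
  have hF : Function.Injective F := by
    rintro ⟨π, i⟩ ⟨π', i'⟩ h
    have h1 : S.Ω π * S.s ^ (i : ℕ) = S.Ω π' * S.s ^ (i' : ℕ) :=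
      mul_left_cancel (mul_right_cancel (congrArg Subtype.val h))
    simp only [Ω_apply, s, ← map_pow, ← map_mul] at h1
    have h2 := S.inj h1
    simp only [sL, Prod.pow_mk, one_pow, Prod.mk_mul_mk, one_mul, mul_one, Prod.mk.injEq] at h2
    have e : ∀ i i' : Fin 2, (swap (0 : Fin 3) 1) ^ (i : ℕ) = swap 0 1 ^ (i' : ℕ) → i = i' := by decide
    rw [h2.2, e i i' h2.1]
  have h1 := Nat.card_le_card_of_injective F hF
  have h2 : Nat.card S.Cw ≤ Nat.card (Subgroup.normalizer (S.D : Set G)) :=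
    Subgroup.card_le_of_le fun x hx => hA x (S.mem_Cw.mp hx)
  have h3 := S.card_normD
  rw [Nat.card_prod, Nat.card_perm, Nat.card_fin, Nat.card_fin,
    show Nat.factorial 5 = 120 from rfl] at h1
  omega

/-- `b`. -/
theorem b_cases : Commute (S.τ (S.Ω (swap 2 3))) (S.Ω (swap 0 4)) ∨
    Commute (S.τ (S.Ω (swap 2 4))) (S.Ω (swap 0 4)) := by
  obtain ⟨⟨e⟩, -⟩ := S.cs_big h0
  set b := S.τ (S.Ω (swap 2 3)) with hb
  have hτc : ∀ π π', Commute π π' → Commute (S.τ (S.Ω π)) (S.τ (S.Ω π')) := fun π π' h =>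
    (h.map S.Ω).map S.τ.toMonoidHom
  have hbs : Commute b S.s := by
    rw [← S.τ_o_sym h0]
    exact hτc _ _ (by show _ = _; decide)
  have hmem : ∀ x : G, x * S.s = S.s * x → S.k⁻¹ * x * S.k ∈ S.Cw := fun x hx => S.mem_Cw.mpr (by
    show _ = _
    have hw : S.w = S.k⁻¹ * S.s * S.k := by rw [← S.k_w h0]; group
    rw [hw]
    calc S.k⁻¹ * x * S.k * (S.k⁻¹ * S.s * S.k) = S.k⁻¹ * (x * S.s) * S.k := by group
      _ = _ := by rw [hx]; group)
  obtain ⟨cS, hker⟩ : ∃ cS : Subgroup.centralizer ({S.s} : Set G) →* S.R,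
      ∀ x y, cS x = cS y → (x : G) = y ∨ (x : G) = y * S.s := by
    refine ⟨S.q.comp (MonoidHom.mk'
      (fun x => (⟨S.k⁻¹ * x * S.k, hmem x (Subgroup.mem_centralizer_singleton_iff.mp x.2)⟩ : S.Cw))
      fun x y => Subtype.ext (by
        show S.k⁻¹ * ((x : G) * y) * S.k = S.k⁻¹ * x * S.k * (S.k⁻¹ * y * S.k)
        group)), fun x y h => ?_⟩
    rcases S.q_eq.mp h with e1 | e1
    · left; exact mul_left_cancel (mul_right_cancel (show S.k⁻¹ * (x : G) * S.k = S.k⁻¹ * y * S.k from e1))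
    · right
      have e2 : S.k⁻¹ * (x : G) * S.k = S.k⁻¹ * y * S.k * S.w := e1
      calc (x : G) = S.k * (S.k⁻¹ * x * S.k) * S.k⁻¹ := by group
        _ = y * (S.k * S.w * S.k⁻¹) := by rw [e2]; group
        _ = _ := by rw [S.k_w h0]
  have hsC : ∀ π, S.Ω π ∈ Subgroup.centralizer ({S.s} : Set G) := fun π =>
    Subgroup.mem_centralizer_singleton_iff.mpr (S.sΩ π).eq.symm
  set f : Perm (Fin 5) →* S.R := cS.comp (S.Ω.codRestrict _ hsC) with hf
  have hfi : Function.Injective f := by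
    rw [injective_iff_map_eq_one]
    intro π hπ
    rw [← map_one cS] at hπ
    rcases hker _ _ hπ with e1 | e1
    · exact S.Ω_inj (e1.trans (map_one S.Ω).symm)
    · have e2 : S.Ω π = S.s := e1.trans (one_mul _)
      rw [Ω_apply, s] at e2
      exact absurd (congrArg Prod.fst (S.inj e2)) (by show (1 : Perm (Fin 3)) ≠ swap 0 1; decide)
  obtain ⟨η, hη⟩ := exists_six_model e f hfi
  set bR := cS ⟨b, Subgroup.mem_centralizer_singleton_iff.mpr hbs.eq⟩ with hbR
  have hcomm : ∀ π, Commute b (S.Ω π) → η bR * iotaSix π = iotaSix π * η bR := by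
    intro π hc
    rw [← hη, ← map_mul, ← map_mul, hbR, hf, MonoidHom.comp_apply, ← map_mul, ← map_mul]
    exact congrArg η (congrArg cS (Subtype.ext hc.eq))
  have hσ : ∀ σ : Perm (Fin 5), σ 3 = 3 → σ 4 = 4 → Commute b (S.Ω σ) := by
    intro σ h3 h4
    have h' : ∀ σ : Perm (Fin 5), σ 3 = 3 → σ 4 = 4 → InM (1, σ) ∧
        ∃ (i : Fin 3) (j : Fin 2), σ = cA ^ (i : ℕ) * swap 0 1 ^ (j : ℕ) := by decide +kernel
    obtain ⟨-, i, j, e⟩ := h' σ h3 h4
    have e2 : S.Ω σ = S.τ (S.z ^ (i : ℕ) * S.s ^ (j : ℕ)) := by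
      rw [map_mul, S.τ_pow, S.τ_pow, S.τ_z, S.τ_s, h0, e, map_mul, map_pow, map_pow]
      rfl
    rw [e2, hb]
    exact ((((S.zΩ (swap 2 3)).symm.pow_right (i : ℕ)).mul_right
      ((S.sΩ (swap 2 3)).symm.pow_right (j : ℕ)))).map S.τ.toMonoidHom
  have hbb : η bR * η bR = 1 := by
    rw [← map_mul, hbR, ← map_mul, ← map_one η, ← map_one cS]
    refine congrArg η (congrArg cS (Subtype.ext ?_))
    show b * b = 1
    rw [hb, ← map_mul, ← map_mul, swap_mul_self, map_one, map_one]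
  have hbw : (η bR * iotaSix (swap 3 4)) ^ 3 = 1 := by
    rw [← hη, ← map_mul, ← map_pow, hbR, hf, MonoidHom.comp_apply, ← map_mul, ← map_pow,
      ← map_one η, ← map_one cS]
    refine congrArg η (congrArg cS (Subtype.ext ?_))
    show (b * S.w) ^ 3 = 1
    rw [← S.τ_w, hb, w_eq, ← map_mul, ← map_mul, ← map_pow, ← map_pow,
      show (swap (2 : Fin 5) 3 * swap 3 4) ^ 3 = 1 by decide, map_one, map_one]
  have hbne : η bR ≠ iotaSix (swap 3 4) := by
    rw [← hη, hbR, hf]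
    intro h
    rcases hker _ _ (η.injective h) with e1 | e1
    · have e2 : S.τ (S.Ω (swap 2 3)) = S.τ (S.Ω (swap 3 4)) := e1.trans S.τ_w.symm
      exact absurd (S.Ω_inj (S.τ.injective e2)) (by decide)
    · have e2 : S.τ (S.Ω (swap 2 3)) = S.τ (S.Ω (swap 3 4 * swap 0 1)) := by
        rw [map_mul, map_mul]
        exact e1.trans (congrArg₂ (· * ·) S.τ_w.symm (S.τ_o_sym h0).symm)
      exact absurd (S.Ω_inj (S.τ.injective e2)) (by decide)
  have hlift : ∀ x : G, Commute x S.s → (∀ σ : Perm (Fin 5), σ 3 = 3 → σ 4 = 4 → Commute x (S.Ω σ)) →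
      (x * S.Ω (swap 2 4) * x⁻¹ = S.Ω (swap 2 4) ∨ x * S.Ω (swap 2 4) * x⁻¹ = S.Ω (swap 2 4) * S.s) →
      Commute x (S.Ω (swap 0 4)) := by
    intro x hxs hx h
    have h02 : Commute x (S.Ω (swap 0 2)) := hx _ (by decide) (by decide)
    have e04 : swap (0 : Fin 5) 4 = swap 0 2 * swap 2 4 * swap 0 2 := by decide
    have e24 : swap (2 : Fin 5) 4 = swap 0 4 * swap 0 2 * swap 0 4 := by decide
    have hc0 : x * S.Ω (swap 0 2) * x⁻¹ = S.Ω (swap 0 2) := by
      rw [h02.eq, mul_inv_cancel_right]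
    suffices h24 : x * S.Ω (swap 2 4) * x⁻¹ = S.Ω (swap 2 4) by
      have : Commute x (S.Ω (swap 2 4)) := mul_inv_eq_iff_eq_mul.mp h24
      rw [e04, map_mul, map_mul]
      exact (h02.mul_right this).mul_right h02
    refine h.resolve_right fun h' => ?_
    have h04 : x * S.Ω (swap 0 4) * x⁻¹ = S.Ω (swap 0 4) * S.s := by
      rw [e04, map_mul, map_mul,
        show x * (S.Ω (swap 0 2) * S.Ω (swap 2 4) * S.Ω (swap 0 2)) * x⁻¹ =
          (x * S.Ω (swap 0 2) * x⁻¹) * (x * S.Ω (swap 2 4) * x⁻¹) * (x * S.Ω (swap 0 2) * x⁻¹) by group,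
        hc0, h', ← mul_assoc (S.Ω (swap 0 2)), mul_assoc _ S.s, (S.sΩ (swap 0 2)).eq, ← mul_assoc]
    have h24 : x * S.Ω (swap 2 4) * x⁻¹ = S.Ω (swap 2 4) := by
      conv_lhs => rw [e24, map_mul, map_mul]
      rw [show x * (S.Ω (swap 0 4) * S.Ω (swap 0 2) * S.Ω (swap 0 4)) * x⁻¹ =
          (x * S.Ω (swap 0 4) * x⁻¹) * (x * S.Ω (swap 0 2) * x⁻¹) * (x * S.Ω (swap 0 4) * x⁻¹) by group,
        hc0, h04, mul_assoc (S.Ω (swap 0 4)) S.s, (S.sΩ (swap 0 2)).eq,
        show S.Ω (swap 0 4) * (S.Ω (swap 0 2) * S.s) * (S.Ω (swap 0 4) * S.s) =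
          S.Ω (swap 0 4) * S.Ω (swap 0 2) * (S.s * S.Ω (swap 0 4)) * S.s by group,
        (S.sΩ (swap 0 4)).eq,
        show S.Ω (swap 0 4) * S.Ω (swap 0 2) * (S.Ω (swap 0 4) * S.s) * S.s =
          S.Ω (swap 0 4) * S.Ω (swap 0 2) * S.Ω (swap 0 4) * (S.s * S.s) by group,
        S.ss, mul_one, e24, map_mul, map_mul]
    exact S.s_ne (mul_eq_left.mp (h'.symm.trans h24))
  have hconv : ∀ π, η bR * iotaSix π = iotaSix π * η bR →
      b * S.Ω π * b⁻¹ = S.Ω π ∨ b * S.Ω π * b⁻¹ = S.Ω π * S.s := by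
    intro π h
    rw [← hη, ← map_mul, ← map_mul, hbR, hf, MonoidHom.comp_apply, ← map_mul, ← map_mul] at h
    rcases hker _ _ (η.injective h) with e1 | e1
    · left
      exact mul_inv_eq_iff_eq_mul.mpr e1
    · right
      have e2 : b * S.Ω π = S.Ω π * b * S.s := e1
      rw [e2, mul_assoc (S.Ω π), hbs.eq, ← mul_assoc, mul_inv_cancel_right]
  rcases six_b (η bR) hbb (hcomm _ (hσ _ (by decide) (by decide))) (hcomm _ (hσ _ (by decide) (by decide)))
    hbw hbne with h | h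
  · exact Or.inl (hlift b hbs hσ (hconv _ h))
  · right
    have e : S.τ (S.Ω (swap 2 4)) = S.w * b * S.w⁻¹ := by
      rw [hb, ← S.τ_w, ← map_inv, ← map_mul, ← map_mul, w_eq, ← map_inv, ← map_mul, ← map_mul]
      exact congrArg _ (congrArg _ (by decide))
    have hws : Commute S.w S.s := (S.sΩ (swap 3 4)).symm
    have hwσ : ∀ σ : Perm (Fin 5), σ 3 = 3 → σ 4 = 4 → Commute S.w (S.Ω σ) := fun σ h3 h4 => by
      refine Commute.map ?_ S.Ω
      show _ = _
      revert σ; decide +kernel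
    rw [e]
    refine hlift _ ((hws.mul_left hbs).mul_left hws.inv_left)
      (fun σ h3 h4 => ((hwσ σ h3 h4).mul_left (hσ σ h3 h4)).mul_left (hwσ σ h3 h4).inv_left) ?_
    have e24 : S.Ω (swap 2 4) = S.w * S.Ω (swap 2 3) * S.w⁻¹ := by
      rw [w_eq, ← map_inv, ← map_mul, ← map_mul]; exact congrArg _ (by decide)
    have e3 : S.w * b * S.w⁻¹ * (S.w * S.Ω (swap 2 3) * S.w⁻¹) * (S.w * b * S.w⁻¹)⁻¹ =
        S.w * (b * S.Ω (swap 2 3) * b⁻¹) * S.w⁻¹ := by group
    rw [e24, e3]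
    rcases hconv _ h with h' | h' <;> rw [h']
    · exact Or.inl rfl
    · right
      rw [show S.w * (S.Ω (swap 2 3) * S.s) * S.w⁻¹ = S.w * S.Ω (swap 2 3) * S.w⁻¹ * (S.w * S.s * S.w⁻¹) by group,
        hws.eq, mul_inv_cancel_right]

omit h0

/-- The setup with `g` replaced by `g * w`. -/
def twist : Setup G where
  Θ := S.Θ
  g := S.g * S.w
  π0 := S.π0
  inj := S.inj
  norm := S.norm
  hπ0 := S.hπ0
  gg := by
    have hc : S.w * S.g = S.g * S.w := (S.normD_w S.g_normD).eq.symm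
    rw [mul_assoc, ← mul_assoc S.w, hc, mul_assoc S.g S.w S.w, S.ww, mul_one, S.gg]
  gz := by
    have hc : Commute S.g S.w := S.normD_w S.g_normD
    have hz : Commute S.z S.w := S.zΩ (swap 3 4)
    show S.g * S.w * S.z * (S.g * S.w) = S.a
    rw [mul_assoc S.g S.w S.z, hz.eq.symm, hc.eq,
      show S.g * (S.z * S.w) * (S.w * S.g) = S.g * S.z * (S.w * S.w) * S.g by group, S.ww, mul_one,
      ← S.τ_apply, S.τ_z]
  gw := by
    have hc : Commute S.g S.w := S.normD_w S.g_normD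
    show S.g * S.w * S.w * (S.g * S.w) = S.w
    rw [mul_assoc S.g, S.ww, mul_one, ← mul_assoc, S.gg, one_mul]
  gs := by
    have hc : Commute S.g S.w := S.normD_w S.g_normD
    have hs : Commute S.s S.w := S.sΩ (swap 3 4)
    show S.g * S.w * S.s * (S.g * S.w) = S.Ω S.π0
    rw [mul_assoc S.g S.w S.s, hs.eq.symm, hc.eq,
      show S.g * (S.s * S.w) * (S.w * S.g) = S.g * S.s * (S.w * S.w) * S.g by group, S.ww, mul_one,
      ← S.τ_apply, S.τ_s]
  cent_za := fun x hx => by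
    obtain ⟨p, c1, c2, e⟩ := S.cent_za x hx
    rcases e with rfl | rfl
    · exact ⟨p, c1, c2, Or.inl rfl⟩
    · refine ⟨p * wL, c1.mul_left (by decide), c2.mul_left (by decide), Or.inr ?_⟩
      have hc : Commute S.g S.w := S.normD_w S.g_normD
      show _ = _ * (S.g * S.w)
      rw [map_mul, hc.eq, show S.Θ wL = S.w from rfl, ← mul_assoc, mul_assoc (S.Θ p), S.ww, mul_one]
  three := S.three

theorem exists_good (S : Setup G) (h0 : S.π0 = swap 0 1) :
    ∃ T : Setup G, T.π0 = swap 0 1 ∧ Commute (T.τ (T.Ω (swap 2 3))) (T.Ω (swap 0 4)) := by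
  rcases S.b_cases h0 with h | h
  · exact ⟨S, h0, h⟩
  · refine ⟨S.twist, h0, ?_⟩
    have hc : Commute S.g S.w := S.normD_w S.g_normD
    have e : S.twist.τ (S.twist.Ω (swap 2 3)) = S.τ (S.Ω (swap 2 4)) := by
      rw [S.twist.τ_apply, S.τ_apply]
      show S.g * S.w * S.Ω (swap 2 3) * (S.g * S.w) = S.g * S.Ω (swap 2 4) * S.g
      conv_lhs => rw [show S.g * S.w * S.Ω (swap 2 3) * (S.g * S.w) =
        S.g * (S.w * S.Ω (swap 2 3) * (S.g * S.w)) by group, hc.eq]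
      rw [show S.g * (S.w * S.Ω (swap 2 3) * (S.w * S.g)) = S.g * (S.w * S.Ω (swap 2 3) * S.w) * S.g by group,
        w_eq, ← map_mul, ← map_mul]
      exact congrArg (fun v => S.g * S.Ω v * S.g) (by decide)
    rw [e]; exact h

/-- The chain. -/
def chain (i : Fin 7) : G := if (i : ℕ) < 4 then S.τ (S.Ω (chT i)) else S.Ω (chS i)

variable (h0 : S.π0 = swap 0 1) (hb : Commute (S.τ (S.Ω (swap 2 3))) (S.Ω (swap 0 4)))

theorem chain_S {i : Fin 7} (hi : 3 ≤ (i : ℕ)) : S.chain i = S.Ω (chS i) := by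
  by_cases h : (i : ℕ) < 4
  · have : i = 3 := Fin.ext (by simp; omega)
    subst this
    exact S.τ_w
  · exact if_neg h

include h0 hb

theorem cross : ∀ i j : Fin 7, (i : ℕ) < 3 → 4 ≤ (j : ℕ) →
    Commute (S.τ (S.Ω (chT i))) (S.Ω (chS j)) := by
  have hτΩ : ∀ σ : Perm (Fin 5), (∃ (i : Fin 3) (j : Fin 2), σ = cA ^ (i : ℕ) * swap 0 1 ^ (j : ℕ)) →
      ∀ π, Commute (S.τ (S.Ω σ)) (S.Ω π) := by
    rintro σ ⟨i, j, rfl⟩ π
    rw [map_mul, map_pow, map_pow, map_mul, S.τ_pow, S.τ_pow, ← S.a_eq, S.τ_a,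
      show S.τ (S.Ω (swap 0 1)) = S.s by rw [← h0]; exact S.τ_π0]
    exact ((S.zΩ π).pow_left _).mul_left ((S.sΩ π).pow_left _)
  have h01 : ∀ i : Fin 7, (i : ℕ) < 2 → ∃ (a : Fin 3) (b : Fin 2),
      chT i = cA ^ (a : ℕ) * swap 0 1 ^ (b : ℕ) := by decide +kernel
  have h56 : ∀ j : Fin 7, 5 ≤ (j : ℕ) → ∃ (a : Fin 3) (b : Fin 2),
      chS j = cA ^ (a : ℕ) * swap 0 1 ^ (b : ℕ) := by decide +kernel
  intro i j hi hj
  by_cases hi2 : (i : ℕ) < 2
  · exact hτΩ _ (h01 i hi2) _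
  have e2 : i = 2 := Fin.ext (by simp; omega)
  subst e2
  by_cases hj5 : 5 ≤ (j : ℕ)
  · have h := (hτΩ _ (h56 j hj5) (swap 2 3)).map S.τ.toMonoidHom
    simp only [MulEquiv.coe_toMonoidHom, S.τ_τ] at h
    exact h.symm
  · have e4 : j = 4 := Fin.ext (by simp; omega)
    subst e4
    exact hb

theorem chain_liftable : (CoxeterMatrix.A 7).IsLiftable S.chain := by
  intro i j
  rw [CfsgLib.CoxeterA.A_apply]
  by_cases hT : (i : ℕ) < 4 ∧ (j : ℕ) < 4
  · rw [chain, chain, if_pos hT.1, if_pos hT.2, ← map_mul, ← map_mul, ← map_pow, ← map_pow,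
      chT_rel i j hT.1 hT.2, map_one, map_one]
  by_cases hS : 3 ≤ (i : ℕ) ∧ 3 ≤ (j : ℕ)
  · rw [S.chain_S hS.1, S.chain_S hS.2, ← map_mul, ← map_pow, chS_rel i j hS.1 hS.2, map_one]
  have hne : i ≠ j := by rintro rfl; omega
  have hfar : ¬ ((j : ℕ) + 1 = i ∨ (i : ℕ) + 1 = j) := by omega
  rw [if_neg hne, if_neg hfar, sq]
  have hsq : ∀ k : Fin 7, S.chain k * S.chain k = 1 := by
    intro k
    have hT2 : ∀ k : Fin 7, chT k * chT k = 1 ∧ chS k * chS k = 1 := by decide +kernel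
    rw [chain]
    split_ifs
    · rw [← map_mul, ← map_mul, (hT2 k).1, map_one, map_one]
    · rw [← map_mul, (hT2 k).2, map_one]
  have hc : Commute (S.chain i) (S.chain j) := by
    rcases Nat.lt_or_ge (i : ℕ) 3 with h | h
    · have hi4 : (i : ℕ) < 4 := by omega
      have hj : 4 ≤ (j : ℕ) := by omega
      rw [chain, if_pos hi4, S.chain_S (by omega)]
      exact S.cross h0 hb i j h hj
    · have hi4 : 4 ≤ (i : ℕ) := by omega
      have hj : (j : ℕ) < 3 := by omega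
      rw [S.chain_S h, chain, if_pos (by omega)]
      exact (S.cross h0 hb j i hj hi4).symm
  rw [mul_assoc, ← mul_assoc (S.chain j), ← hc.eq, mul_assoc (S.chain i), hsq, mul_one, hsq]

/-- The homomorphism exists. -/
theorem exists_hom : ∃ Ψ : Perm (Fin 8) →* G, Function.Injective Ψ ∧
    ∀ i : Fin 7, Ψ (swap i.castSucc i.succ) = S.chain i := by
  obtain ⟨cs, hcs⟩ := CfsgLib.CoxeterA.exists_system 7
  set Ψ := cs.lift ⟨S.chain, S.chain_liftable h0 hb⟩
  have hΨ : ∀ i : Fin 7, Ψ (swap i.castSucc i.succ) = S.chain i := fun i => by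
    rw [← hcs i]
    exact cs.lift_apply_simple _ i
  refine ⟨Ψ, ?_, hΨ⟩
  rw [← MonoidHom.ker_eq_bot_iff]
  haveI : IsSimpleGroup (alternatingGroup (Fin 8)) := alternatingGroup.isSimpleGroup (by simp)
  have hnorm : (Ψ.ker.subgroupOf (alternatingGroup (Fin 8))).Normal := inferInstance
  rcases hnorm.eq_bot_or_eq_top with h | h
  · by_contra hne
    rcases CfsgLib.AutSym.normal_contains (K := Ψ.ker) hne (by simp) with ⟨c, hc, h3⟩ | ⟨a, b, c, d, hnd, hm⟩
    · have : (⟨c, h3.mem_alternatingGroup⟩ : alternatingGroup (Fin 8)) ∈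
          Ψ.ker.subgroupOf (alternatingGroup (Fin 8)) := Subgroup.mem_subgroupOf.mpr hc
      rw [h, Subgroup.mem_bot] at this
      exact h3.ne_one (congrArg Subtype.val this)
    · simp only [List.nodup_cons, List.mem_cons, List.not_mem_nil, or_false, not_or] at hnd
      obtain ⟨⟨hab, hac, had⟩, ⟨hbc, hbd⟩, hcd, -⟩ := hnd
      have hA : swap a b * swap c d ∈ alternatingGroup (Fin 8) := by
        rw [Perm.mem_alternatingGroup, Perm.sign_mul, Perm.sign_swap hab, Perm.sign_swap hcd]; rfl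
      have : (⟨_, hA⟩ : alternatingGroup (Fin 8)) ∈ Ψ.ker.subgroupOf (alternatingGroup (Fin 8)) :=
        Subgroup.mem_subgroupOf.mpr hm
      rw [h, Subgroup.mem_bot] at this
      have h1 := congrArg (fun p : alternatingGroup (Fin 8) => (p : Perm (Fin 8)) a) this
      simp [swap_apply_of_ne_of_ne hac had] at h1
      exact hab h1.symm
  · exfalso
    have h1 : (⟨swap 0 1 * swap 1 2, Perm.mem_alternatingGroup.mpr (by decide)⟩ : alternatingGroup (Fin 8)) ∈
        Ψ.ker.subgroupOf (alternatingGroup (Fin 8)) := h ▸ Subgroup.mem_top _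
    have h2 : Ψ (swap 0 1 * swap 1 2) = 1 := h1
    rw [map_mul, show swap (0 : Fin 8) 1 = swap (0 : Fin 7).castSucc (0 : Fin 7).succ from rfl, hΨ,
      show swap (1 : Fin 8) 2 = swap (1 : Fin 7).castSucc (1 : Fin 7).succ from rfl, hΨ] at h2
    have e : S.chain 0 * S.chain 1 = S.τ (S.Ω (swap 0 1 * swap 1 2)) := by
      rw [map_mul, map_mul]; rfl
    rw [e, ← map_one S.τ] at h2
    exact absurd (S.Ω_inj ((S.τ.injective h2).trans (map_one _).symm)) (by decide)

end Setup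

end CfsgLib.SymEightThree
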